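import Groth.Agent.Lib.PolLaw.Sym
import Mathlib.Algebra.Polynomial.AlgebraMap
import Mathlib.RingTheory.PiTensorProduct
import Mathlib.Algebra.MvPolynomial.Basic

/-!
# Symmetric tensors of a flat algebra are generated by the elementary symmetric tensors
-/

universe u

open TensorProduct
open MvPolynomial (monomial)

namespace GrothLib.PolLaw

variable (R : Type u) [CommRing R] (A : Type u) [CommRing A] [Algebra R A] (d : ℕ)

/-- the elementary symmetric tensors -/
def elemGens : Set (⨂[R] _ : Fin d, A) :=
  {t | ∃ (a : A) (j : ℕ), t = ∑ I ∈ (Finset.univ : Finset (Fin d)).powersetCard j,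
    PiTensorProduct.tprod R (fun i : Fin d => if i ∈ I then a else (1 : A))}

variable {R A d}

theorem reindex_elem (a : A) (j : ℕ) (σ : Equiv.Perm (Fin d)) :
    PiTensorProduct.reindex R (fun _ : Fin d => A) σ (∑ I ∈ (Finset.univ : Finset (Fin d)).powersetCard j,
      PiTensorProduct.tprod R (fun i : Fin d => if i ∈ I then a else (1 : A))) =
    ∑ I ∈ (Finset.univ : Finset (Fin d)).powersetCard j,
      PiTensorProduct.tprod R (fun i : Fin d => if i ∈ I then a else (1 : A)) := by
  rw [map_sum]
  refine Finset.sum_equiv σ.finsetCongr (fun I => ?_) fun I _ => ?_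
  · simp [Finset.mem_powersetCard, Equiv.finsetCongr_apply]
  · rw [PiTensorProduct.reindex_tprod]
    congr 1
    funext i
    simp [Equiv.finsetCongr_apply, Finset.mem_map_equiv]

variable {ι : Type}

variable (R A d) in
/-- `p ↦ ∏_l (the copy of p in slot l)` -/
noncomputable def slotProd : MvPolynomial ι A →* MvPolynomial ι (⨂[R] _ : Fin d, A) where
  toFun p := ∏ l, MvPolynomial.map (PiTensorProduct.singleAlgHom (R := R) (A := fun _ : Fin d => A) l).toRingHom p
  map_one' := by simp
  map_mul' p q := by simp [Finset.prod_mul_distrib]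

/-- all coefficients lie in the subalgebra -/
def GoodPoly (S : Subalgebra R (⨂[R] _ : Fin d, A)) (p : MvPolynomial ι (⨂[R] _ : Fin d, A)) : Prop :=
  ∀ μ, MvPolynomial.coeff μ p ∈ S

theorem GoodPoly.mul {S : Subalgebra R (⨂[R] _ : Fin d, A)} {p q : MvPolynomial ι (⨂[R] _ : Fin d, A)}
    (hp : GoodPoly S p) (hq : GoodPoly S q) : GoodPoly S (p * q) := fun μ => by
  classical
  rw [MvPolynomial.coeff_mul]
  exact sum_mem fun x _ => mul_mem (hp _) (hq _)

theorem goodPoly_one {S : Subalgebra R (⨂[R] _ : Fin d, A)} :
    GoodPoly (ι := ι) S 1 := fun μ => by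
  classical
  rw [MvPolynomial.coeff_one]
  split_ifs
  · exact one_mem _
  · exact zero_mem _

theorem slotProd_one_add_monomial (μ : ι →₀ ℕ) (a : A) :
    GoodPoly (Algebra.adjoin R (elemGens R A d)) (slotProd R A d (1 + monomial μ a)) := by
  classical
  have h : slotProd R A d (1 + monomial μ a) = ∑ j ∈ Finset.range (d + 1), monomial (j • μ)
      (∑ I ∈ (Finset.univ : Finset (Fin d)).powersetCard j,
        PiTensorProduct.tprod R (fun i : Fin d => if i ∈ I then a else (1 : A))) := by
    show ∏ l : Fin d, MvPolynomial.map (PiTensorProduct.singleAlgHom (R := R) (A := fun _ : Fin d => A) l).toRingHom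
      (1 + monomial μ a) = _
    simp only [map_add, map_one, MvPolynomial.map_monomial]
    rw [Finset.prod_one_add, Finset.sum_powerset, Finset.card_univ, Fintype.card_fin]
    refine Finset.sum_congr rfl fun j _ => ?_
    rw [map_sum]
    refine Finset.sum_congr rfl fun I hI => ?_
    have hprod : ∀ s : Finset (Fin d), ∏ l ∈ s, (monomial μ)
        ((PiTensorProduct.singleAlgHom (R := R) (A := fun _ : Fin d => A) l).toRingHom a) =
        monomial (s.card • μ) (∏ l ∈ s, PiTensorProduct.singleAlgHom (R := R) (A := fun _ : Fin d => A) l a) := by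
      intro s
      induction s using Finset.induction with
      | empty => simp
      | insert x s hx ih =>
        rw [Finset.prod_insert hx, Finset.prod_insert hx, ih, MvPolynomial.monomial_mul,
          Finset.card_insert_of_notMem hx, succ_nsmul']
        rfl
    rw [hprod, (Finset.mem_powersetCard.1 hI).2, ← prod_singleAlgHom, ← Finset.prod_filter_mul_prod_filter_not
      Finset.univ (fun l => l ∈ I), Finset.filter_mem_eq_inter, Finset.univ_inter]
    congr 1
    rw [Finset.prod_eq_one (s := Finset.univ.filter fun l => l ∉ I) (fun l hl => by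
      rw [if_neg (Finset.mem_filter.1 hl).2, map_one]), mul_one]
    exact Finset.prod_congr rfl fun l hl => by rw [if_pos hl]
  intro ν
  rw [h, MvPolynomial.coeff_sum]
  refine sum_mem fun j _ => ?_
  rw [MvPolynomial.coeff_monomial]
  split_ifs
  · exact Algebra.subset_adjoin ⟨a, j, rfl⟩
  · exact zero_mem _

/-- congruence up to total degree `N` -/
def CongrDeg {S : Type*} [CommRing S] (N : ℕ) (p q : MvPolynomial ι S) : Prop :=
  ∀ μ : ι →₀ ℕ, μ.degree ≤ N → MvPolynomial.coeff μ p = MvPolynomial.coeff μ q

theorem CongrDeg.mul_right {S : Type*} [CommRing S] {N : ℕ} {p q : MvPolynomial ι S} (h : CongrDeg N p q)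
    (r : MvPolynomial ι S) : CongrDeg N (p * r) (q * r) := fun μ hμ => by
  classical
  rw [MvPolynomial.coeff_mul, MvPolynomial.coeff_mul]
  refine Finset.sum_congr rfl fun x hx => ?_
  rw [Finset.mem_antidiagonal] at hx
  rw [h x.1 (by rw [← hx, map_add] at hμ; omega)]

theorem exists_factor [Finite ι] {p : MvPolynomial ι A} (hp : MvPolynomial.coeff 0 p = 1) (N : ℕ) :
    ∃ l : List ((ι →₀ ℕ) × A), CongrDeg N (p * (l.map fun z => 1 + monomial z.1 z.2).prod) 1 := by
  classical
  induction N with
  | zero =>
    refine ⟨[], fun μ hμ => ?_⟩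
    obtain rfl : μ = 0 := (Finsupp.degree_eq_zero_iff μ).1 (Nat.le_zero.1 hμ)
    simp [hp]
  | succ N ih =>
    obtain ⟨l, hl⟩ := ih
    set q := p * (l.map fun z => 1 + monomial z.1 z.2).prod with hq
    set T := q.support.filter fun μ => μ.degree = N + 1 with hT
    refine ⟨T.toList.map (fun μ => (μ, -MvPolynomial.coeff μ q)) ++ l, ?_⟩
    have hprod : ∀ s : Finset (ι →₀ ℕ), (∀ μ ∈ s, μ.degree = N + 1) →
        CongrDeg (N + 1) (q * ∏ μ ∈ s, (1 + monomial μ (-MvPolynomial.coeff μ q)))
          (q + ∑ μ ∈ s, monomial μ (-MvPolynomial.coeff μ q)) := by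
      intro s hs
      induction s using Finset.induction with
      | empty => simp [CongrDeg]
      | insert x s hx ih =>
        intro μ hμ
        have h1 := ih (fun ν hν => hs ν (Finset.mem_insert_of_mem hν))
        rw [Finset.prod_insert hx, Finset.sum_insert hx,
          show q * ((1 + monomial x (-MvPolynomial.coeff x q)) * ∏ μ ∈ s, (1 + monomial μ (-MvPolynomial.coeff μ q))) =
            (q * ∏ μ ∈ s, (1 + monomial μ (-MvPolynomial.coeff μ q))) * (1 + monomial x (-MvPolynomial.coeff x q)) from by ring,
          h1.mul_right _ μ hμ, mul_add, mul_one, MvPolynomial.coeff_add, MvPolynomial.coeff_mul_monomial']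
        simp only [MvPolynomial.coeff_add, MvPolynomial.coeff_monomial]
        have hxdeg := hs x (Finset.mem_insert_self x s)
        by_cases hxμ : x ≤ μ
        · obtain ⟨c, rfl⟩ := exists_add_of_le hxμ
          rw [map_add] at hμ
          obtain rfl : c = 0 := (Finsupp.degree_eq_zero_iff c).1 (by omega)
          rw [if_pos le_self_add, if_pos (add_zero x).symm, add_zero, tsub_self,
            MvPolynomial.coeff_sum]
          have hs0 : ∀ ν ∈ s, MvPolynomial.coeff 0 (monomial ν (-MvPolynomial.coeff ν q)) = 0 := by
            intro ν hν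
            rw [MvPolynomial.coeff_monomial, if_neg]
            intro h0
            have := hs ν (Finset.mem_insert_of_mem hν)
            rw [h0, map_zero] at this
            omega
          have hq0 : MvPolynomial.coeff 0 q = 1 := by
            rw [hl 0 (by simp), MvPolynomial.coeff_one, if_pos rfl]
          rw [MvPolynomial.coeff_sum, Finset.sum_eq_zero hs0, add_zero, hq0, one_mul]
          abel
        · rw [if_neg hxμ, if_neg (fun h => hxμ h.le)]
          abel
    intro μ hμ
    rw [List.map_append, List.prod_append, List.map_map, mul_comm (List.prod _), ← mul_assoc, ← hq,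
      Finset.prod_map_toList]
    simp only [Function.comp_def]
    rw [hprod T (fun ν hν => (Finset.mem_filter.1 hν).2) μ hμ, MvPolynomial.coeff_add, MvPolynomial.coeff_sum]
    simp only [MvPolynomial.coeff_monomial, Finset.sum_ite_eq']
    rcases Nat.lt_or_ge μ.degree (N + 1) with hlt | hge
    · rw [if_neg (fun h => by have := (Finset.mem_filter.1 h).2; omega), add_zero, hl μ (by omega)]
    · have hdeg : μ.degree = N + 1 := by omega
      have hμ0 : μ ≠ 0 := fun h => by rw [h, map_zero] at hdeg; omega
      rw [MvPolynomial.coeff_one, if_neg hμ0.symm]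
      by_cases hmem : μ ∈ T
      · rw [if_pos hmem, add_neg_cancel]
      · rw [if_neg hmem, add_zero]
        by_contra h
        exact hmem (Finset.mem_filter.2 ⟨MvPolynomial.mem_support_iff.2 h, hdeg⟩)

theorem congrDeg_slotProd {N : ℕ} {p q : MvPolynomial ι A} (h : CongrDeg N p q) :
    CongrDeg N (slotProd R A d p) (slotProd R A d q) := by
  classical
  show CongrDeg N (∏ l, _) (∏ l, _)
  induction (Finset.univ : Finset (Fin d)) using Finset.induction with
  | empty => exact fun μ _ => rfl
  | insert x s hx ih =>
    intro μ hμ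
    rw [Finset.prod_insert hx, Finset.prod_insert hx, mul_comm, ih.mul_right _ μ hμ, mul_comm]
    refine CongrDeg.mul_right (fun ν hν => ?_) _ μ hμ
    rw [MvPolynomial.coeff_map, MvPolynomial.coeff_map, h ν hν]

theorem slotProd_coeff_mem [Finite ι] {p : MvPolynomial ι A} (hp : MvPolynomial.coeff 0 p = 1)
    (μ : ι →₀ ℕ) : MvPolynomial.coeff μ (slotProd R A d p) ∈ Algebra.adjoin R (elemGens R A d) := by
  classical
  obtain ⟨l, hl⟩ := exists_factor hp μ.degree
  set Q := (l.map fun z => 1 + monomial z.1 z.2).prod with hQ
  have hgood : GoodPoly (Algebra.adjoin R (elemGens R A d)) (slotProd R A d Q) := by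
    rw [hQ]
    clear hl hQ Q
    induction l with
    | nil => rw [List.map_nil, List.prod_nil, map_one]; exact goodPoly_one
    | cons z l ih =>
      rw [List.map_cons, List.prod_cons, map_mul]
      exact GoodPoly.mul (slotProd_one_add_monomial z.1 z.2) ih
  have hQ0 : MvPolynomial.coeff 0 (slotProd R A d Q) = 1 := by
    have h := hl 0 (by simp)
    rw [MvPolynomial.coeff_one, if_pos rfl] at h
    have h' : MvPolynomial.constantCoeff p * MvPolynomial.constantCoeff Q = 1 := by
      rw [← map_mul]; exact h
    rw [show MvPolynomial.constantCoeff p = 1 from hp, one_mul] at h'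
    show MvPolynomial.constantCoeff (∏ l, _) = 1
    rw [map_prod]
    refine Finset.prod_eq_one fun i _ => ?_
    rw [MvPolynomial.constantCoeff_map, h', map_one]
  have key := congrDeg_slotProd (R := R) (d := d) hl
  rw [map_mul, map_one] at key
  suffices ∀ n, ∀ ν : ι →₀ ℕ, ν.degree = n → n ≤ μ.degree →
      MvPolynomial.coeff ν (slotProd R A d p) ∈ Algebra.adjoin R (elemGens R A d) from this _ μ rfl le_rfl
  intro n
  induction n using Nat.strong_induction_on with
  | _ n ih =>
  intro ν hν hn
  have h := key ν (by omega)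
  rw [MvPolynomial.coeff_mul, ← Finset.sum_erase_add _ _ (a := (ν, 0)) (by simp), hQ0, mul_one] at h
  rw [eq_sub_of_add_eq' h]
  refine sub_mem (goodPoly_one ν) (sum_mem fun x hx => ?_)
  rw [Finset.mem_erase, Finset.mem_antidiagonal] at hx
  refine mul_mem (ih x.1.degree ?_ x.1 rfl ?_) (hgood x.2)
  · have h2 : x.2 ≠ 0 := fun h0 => hx.1 (Prod.ext (by rw [← hx.2, h0, add_zero]) h0)
    have h3 : x.2.degree ≠ 0 := fun h0 => h2 ((Finsupp.degree_eq_zero_iff x.2).1 h0)
    rw [← hν, ← hx.2, map_add]
    omega
  · rw [← hx.2, map_add] at hν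
    omega

theorem orbit_mem_adjoin {n : ℕ} (m : Fin n → A) (μ : Fin n →₀ ℕ) :
    orbit (d := d) R m μ ∈ Algebra.adjoin R (elemGens R A d) := by
  classical
  by_cases hdeg : μ.degree = d
  swap
  · rw [orbit, Finset.sum_eq_zero (fun p hp => absurd (by
      simp only [Finset.mem_filter, Finset.mem_univ, true_and] at hp
      rw [← hp]
      have := sum_pat (d := d) p
      rw [Finsupp.degree_eq_sum]
      exact this) hdeg)]
    exact zero_mem _
  let term : Option (Fin n) → MvPolynomial (Fin n) A := fun o =>
    o.elim 1 fun i => monomial (Finsupp.single i 1) (m i)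
  have hp0 : MvPolynomial.coeff 0 (∑ o, term o) = 1 := by
    rw [Fintype.sum_option, MvPolynomial.coeff_add, MvPolynomial.coeff_sum, Finset.sum_eq_zero, add_zero]
    · simp [term]
    · intro i _
      simp only [term, Option.elim_some, MvPolynomial.coeff_monomial]
      rw [if_neg]
      exact fun h => one_ne_zero (Finsupp.single_eq_zero.1 h)
  have h := slotProd_coeff_mem (R := R) (d := d) hp0 μ
  let ex : Option (Fin n) → (Fin n →₀ ℕ) := fun o => o.elim 0 fun i => Finsupp.single i 1
  let va : Option (Fin n) → A := fun o => o.elim 1 m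
  have hterm : ∀ o, term o = monomial (ex o) (va o) := fun o => by
    cases o <;> simp [term, ex, va]
  have hslot : slotProd R A d (∑ o, term o) =
      ∑ f : Fin d → Option (Fin n), monomial (∑ l, ex (f l)) (PiTensorProduct.tprod R fun l => va (f l)) := by
    show ∏ l : Fin d, MvPolynomial.map (PiTensorProduct.singleAlgHom (R := R) (A := fun _ : Fin d => A) l).toRingHom
      (∑ o, term o) = _
    simp only [hterm, map_sum, MvPolynomial.map_monomial]
    rw [Fintype.prod_sum]
    refine Finset.sum_congr rfl fun f _ => ?_
    rw [← prod_singleAlgHom]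
    induction (Finset.univ : Finset (Fin d)) using Finset.induction with
    | empty => simp
    | insert x t hx ih =>
      rw [Finset.prod_insert hx, Finset.prod_insert hx, Finset.sum_insert hx, ih,
        MvPolynomial.monomial_mul]
      rfl
  rw [hslot, MvPolynomial.coeff_sum] at h
  simp only [MvPolynomial.coeff_monomial] at h
  rw [← Finset.sum_filter] at h
  convert h using 1
  rw [orbit]
  refine Finset.sum_bij (fun p _ => some ∘ p) (fun p hp => ?_) (fun p _ q _ h => ?_) (fun f hf => ?_) fun p _ => rfl
  · simp only [Finset.mem_filter, Finset.mem_univ, true_and] at hp ⊢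
    exact hp.symm ▸ rfl
  · exact funext fun l => Option.some_injective _ (congr_fun h l)
  · have hf' := (Finset.mem_filter.1 hf).2
    have hsome : ∀ l, (f l).isSome := by
      intro l
      by_contra hl
      have hsum := congr_arg Finsupp.degree hf'
      rw [map_sum, hdeg] at hsum
      have hle : ∀ x, (ex (f x)).degree ≤ 1 := fun x => by
        cases f x <;> simp [ex]
      have h0 : (ex (f l)).degree = 0 := by
        rw [Option.not_isSome_iff_eq_none] at hl
        simp [ex, hl]
      have hlt : ∑ x, (ex (f x)).degree < ∑ _x : Fin d, 1 :=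
        Finset.sum_lt_sum (fun x _ => hle x) ⟨l, Finset.mem_univ _, by omega⟩
      simp at hlt
      omega
    choose p hp using fun l => Option.isSome_iff_exists.1 (hsome l)
    refine ⟨p, ?_, funext fun l => (hp l).symm⟩
    simp only [Finset.mem_filter, Finset.mem_univ, true_and]
    rw [← hf', pat]
    exact Finset.sum_congr rfl fun l _ => by rw [hp l]; rfl

theorem TS_eq_adjoin_elemGens [Module.Flat R A] : SymTen.TS R A d = Algebra.adjoin R (elemGens R A d) := by
  refine le_antisymm (fun t ht => ?_) ?_
  · have h := mem_orbitSpan_of_flat ht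
    rw [orbitSpan] at h
    clear ht
    induction h using Submodule.span_induction with
    | mem x hx => obtain ⟨n, m, μ, rfl⟩ := hx; exact orbit_mem_adjoin m μ
    | zero => exact zero_mem _
    | add _ _ _ _ h1 h2 => exact add_mem h1 h2
    | smul r _ _ h => exact Subalgebra.smul_mem _ h r
  · refine Algebra.adjoin_le ?_
    rintro _ ⟨a, j, rfl⟩ σ
    exact reindex_elem a j σ

end GrothLib.PolLaw
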