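import Mathlib.RingTheory.PolynomialLaw.Basic
import Mathlib.RingTheory.MvPolynomial.Basic
import Mathlib.LinearAlgebra.TensorProduct.RightExactness

/-!
# Polynomial laws from their restrictions to polynomial rings
-/

namespace GrothLib.PolLaw

open scoped TensorProduct
open MvPolynomial LinearMap

universe u v w

variable {A : Type u} [CommRing A] {M : Type v} [AddCommGroup M] [Module A M] {N : Type w}
  [AddCommGroup N] [Module A N]

variable (T : ∀ n : ℕ, MvPolynomial (Fin n) A ⊗[A] M → MvPolynomial (Fin n) A ⊗[A] N)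

/-- compatibility of a family on polynomial rings -/
def PolyCompat : Prop :=
  ∀ (n m : ℕ) (φ : MvPolynomial (Fin n) A →ₐ[A] MvPolynomial (Fin m) A),
    φ.toLinearMap.rTensor N ∘ T n = T m ∘ φ.toLinearMap.rTensor M

variable {T}

theorem polyCompat_apply (hT : PolyCompat T) {n m : ℕ}
    (φ : MvPolynomial (Fin n) A →ₐ[A] MvPolynomial (Fin m) A) (p : MvPolynomial (Fin n) A ⊗[A] M) :
    φ.toLinearMap.rTensor N (T n p) = T m (φ.toLinearMap.rTensor M p) :=
  congr_fun (hT n m φ) p

theorem rTensor_comp_algHom {S₁ S₂ S₃ : Type*} [CommSemiring S₁] [Algebra A S₁] [CommSemiring S₂]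
    [Algebra A S₂] [CommSemiring S₃] [Algebra A S₃] (Q : Type*) [AddCommMonoid Q] [Module A Q]
    (g : S₂ →ₐ[A] S₃) (f : S₁ →ₐ[A] S₂) (x : S₁ ⊗[A] Q) :
    (g.comp f).toLinearMap.rTensor Q x = g.toLinearMap.rTensor Q (f.toLinearMap.rTensor Q x) := by
  rw [AlgHom.comp_toLinearMap, rTensor_comp_apply]

theorem polyFun_eq_of_ker (hT : PolyCompat T) {B : Type*} [CommRing B] [Algebra A B] {n : ℕ}
    (φ : MvPolynomial (Fin n) A →ₐ[A] B)
    (z : LinearMap.ker φ.toLinearMap ⊗[A] M) (b : MvPolynomial (Fin n) A ⊗[A] M) :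
    φ.toLinearMap.rTensor N (T n (b + (LinearMap.ker φ.toLinearMap).subtype.rTensor M z)) =
      φ.toLinearMap.rTensor N (T n b) := by
  induction z using TensorProduct.induction_on generalizing b with
  | zero => simp
  | add z₁ z₂ h₁ h₂ => rw [map_add, ← add_assoc, h₂, h₁]
  | tmul k m =>
    let c : MvPolynomial (Fin (n + 1)) A ⊗[A] M :=
      (rename (R := A) Fin.castSucc).toLinearMap.rTensor M b + X (Fin.last n) ⊗ₜ[A] m
    let σ : MvPolynomial (Fin n) A → MvPolynomial (Fin (n + 1)) A →ₐ[A] MvPolynomial (Fin n) A :=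
      fun k => aeval (Fin.snoc X k)
    have hσ : ∀ k : MvPolynomial (Fin n) A, (σ k).toLinearMap.rTensor M c = b + k ⊗ₜ[A] m := fun k => by
      have hid : (σ k).comp (rename (R := A) Fin.castSucc) = AlgHom.id A _ :=
        algHom_ext fun i => by simp [σ]
      rw [map_add, ← rTensor_comp_algHom, hid, rTensor_tmul]
      simp [σ]
    have hφ : φ.comp (σ (k : MvPolynomial (Fin n) A)) = φ.comp (σ 0) := by
      refine algHom_ext fun i => ?_
      induction i using Fin.lastCases with
      | last => simp [σ, show φ (k : MvPolynomial (Fin n) A) = 0 from LinearMap.mem_ker.1 k.2]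
      | cast i => simp [σ]
    rw [rTensor_tmul, Submodule.subtype_apply, ← hσ, ← polyCompat_apply hT, ← rTensor_comp_algHom,
      hφ, rTensor_comp_algHom, polyCompat_apply hT, hσ, TensorProduct.zero_tmul, add_zero]

theorem polyFun_eq_of_range (hT : PolyCompat T) {B : Type*} [CommRing B] [Algebra A B] {n : ℕ}
    (φ : MvPolynomial (Fin n) A →ₐ[A] B) (hφ : Function.Surjective φ)
    (a b : MvPolynomial (Fin n) A ⊗[A] M)
    (h : φ.toLinearMap.rTensor M a = φ.toLinearMap.rTensor M b) :
    φ.toLinearMap.rTensor N (T n a) = φ.toLinearMap.rTensor N (T n b) := by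
  have hex := rTensor_exact M (LinearMap.exact_subtype_ker_map φ.toLinearMap) hφ
  obtain ⟨z, hz⟩ := (hex (a - b)).1 (by rw [map_sub, h, sub_self])
  rw [show a = b + (LinearMap.ker φ.toLinearMap).subtype.rTensor M z from by rw [hz]; abel,
    polyFun_eq_of_ker hT]

theorem polyFun_well_defined (hT : PolyCompat T) {S : Type u} [CommSemiring S] [Algebra A S]
    {n n' : ℕ} (ψ : MvPolynomial (Fin n) A →ₐ[A] S) (ψ' : MvPolynomial (Fin n') A →ₐ[A] S)
    (p : MvPolynomial (Fin n) A ⊗[A] M) (p' : MvPolynomial (Fin n') A ⊗[A] M)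
    (h : ψ.toLinearMap.rTensor M p = ψ'.toLinearMap.rTensor M p') :
    ψ.toLinearMap.rTensor N (T n p) = ψ'.toLinearMap.rTensor N (T n' p') := by
  letI : CommRing S := { Algebra.semiringToRing A (A := S), ‹CommSemiring S› with }
  have uFG : Subalgebra.FG (R := A) ψ.range := by
    rw [← Algebra.map_top]
    exact Subalgebra.FG.map _ Algebra.FiniteType.out
  have u'FG : Subalgebra.FG (R := A) ψ'.range := by
    rw [← Algebra.map_top]
    exact Subalgebra.FG.map _ Algebra.FiniteType.out
  have huu' : rTensor M (Subalgebra.val _).toLinearMap (rTensor M ψ.rangeRestrict.toLinearMap p) =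
      rTensor M (Subalgebra.val _).toLinearMap (rTensor M ψ'.rangeRestrict.toLinearMap p') := by
    rw [← rTensor_comp_algHom, ← rTensor_comp_algHom, AlgHom.val_comp_rangeRestrict,
      AlgHom.val_comp_rangeRestrict, h]
  obtain ⟨B, hAB, hA'B, hBfg, hB⟩ :=
    TensorProduct.Algebra.eq_of_fg_of_subtype_eq' (R := A) uFG u'FG huu'
  haveI : Algebra.FiniteType A B := (Subalgebra.fg_iff_finiteType B).1 hBfg
  obtain ⟨k, π, hπ⟩ := Algebra.FiniteType.iff_quotient_mvPolynomial''.1 this
  choose g hg using fun i => hπ (⟨ψ (X i), hAB (AlgHom.mem_range_self ψ (X i))⟩)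
  choose g' hg' using fun i => hπ (⟨ψ' (X i), hA'B (AlgHom.mem_range_self ψ' (X i))⟩)
  have e : π.comp (aeval g) = (Subalgebra.inclusion hAB).comp ψ.rangeRestrict :=
    algHom_ext fun i => Subtype.ext (by simp [hg])
  have e' : π.comp (aeval g') = (Subalgebra.inclusion hA'B).comp ψ'.rangeRestrict :=
    algHom_ext fun i => Subtype.ext (by simp [hg'])
  have key := polyFun_eq_of_range hT π hπ ((aeval g).toLinearMap.rTensor M p)
    ((aeval g').toLinearMap.rTensor M p') (by
      rw [← rTensor_comp_algHom, ← rTensor_comp_algHom, e, e', rTensor_comp_algHom,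
        rTensor_comp_algHom]
      exact hB)
  rw [← polyCompat_apply hT, ← polyCompat_apply hT, ← rTensor_comp_algHom, ← rTensor_comp_algHom,
    e, e'] at key
  have hv := congr_arg (B.val.toLinearMap.rTensor N) key
  rw [← rTensor_comp_algHom, ← rTensor_comp_algHom, ← AlgHom.comp_assoc, ← AlgHom.comp_assoc,
    Subalgebra.val_comp_inclusion, Subalgebra.val_comp_inclusion, AlgHom.val_comp_rangeRestrict,
    AlgHom.val_comp_rangeRestrict] at hv
  exact hv

/-- the polynomial law extending a compatible family on polynomial rings -/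
noncomputable def ofPoly (hT : PolyCompat T) : M →ₚₗ[A] N where
  toFun' S _ _ t :=
    (PolynomialLaw.exists_lift t).choose_spec.choose.toLinearMap.rTensor N
      (T (PolynomialLaw.exists_lift t).choose
        (PolynomialLaw.exists_lift t).choose_spec.choose_spec.choose)
  isCompat' {S _ _ S' _ _} f := by
    funext t
    simp only [Function.comp_apply]
    rw [← rTensor_comp_algHom]
    refine polyFun_well_defined hT _ _ _ _ ?_
    rw [rTensor_comp_algHom, (PolynomialLaw.exists_lift t).choose_spec.choose_spec.choose_spec,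
      (PolynomialLaw.exists_lift (f.toLinearMap.rTensor M t)).choose_spec.choose_spec.choose_spec]

theorem ofPoly_apply (hT : PolyCompat T) (n : ℕ) (p : MvPolynomial (Fin n) A ⊗[A] M) :
    (ofPoly hT).toFun' (MvPolynomial (Fin n) A) p = T n p := by
  refine (polyFun_well_defined hT _ (AlgHom.id A _) _ p ?_).trans (by simp)
  rw [(PolynomialLaw.exists_lift p).choose_spec.choose_spec.choose_spec]
  simp

theorem eq_of_mvPolynomial {F G : M →ₚₗ[A] N}
    (h : ∀ n, F.toFun' (MvPolynomial (Fin n) A) = G.toFun' (MvPolynomial (Fin n) A)) : F = G := by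
  refine PolynomialLaw.ext ?_
  funext S _ _ t
  obtain ⟨n, ψ, p, rfl⟩ := PolynomialLaw.exists_lift t
  rw [← PolynomialLaw.isCompat_apply', ← PolynomialLaw.isCompat_apply', h n]

/-- two tensors lift simultaneously to a polynomial ring -/
theorem exists_lift_pair {S : Type u} [CommSemiring S] [Algebra A S] (x y : S ⊗[A] M) :
    ∃ (n : ℕ) (ψ : MvPolynomial (Fin n) A →ₐ[A] S) (p q : MvPolynomial (Fin n) A ⊗[A] M),
      ψ.toLinearMap.rTensor M p = x ∧ ψ.toLinearMap.rTensor M q = y := by
  obtain ⟨n, ψ, p, hp⟩ := PolynomialLaw.exists_lift x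
  obtain ⟨m, ψ', q, hq⟩ := PolynomialLaw.exists_lift y
  refine ⟨n + m, aeval (Fin.append (fun i => ψ (X i)) fun i => ψ' (X i)),
    (rename (R := A) (Fin.castAdd m)).toLinearMap.rTensor M p,
    (rename (R := A) (Fin.natAdd n)).toLinearMap.rTensor M q, ?_, ?_⟩
  · rw [← rTensor_comp_algHom, ← hp]
    congr 3
    exact algHom_ext fun i => by simp
  · rw [← rTensor_comp_algHom, ← hq]
    congr 3
    exact algHom_ext fun i => by simp

end GrothLib.PolLaw
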