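import Groth.Agent.Lib.PolLaw.Coeff
import Mathlib.RingTheory.Flat.Basic

/-!
# Factoring a polynomial law through a submodule containing its coefficients

If all coefficients of `F : M → N` lie in `P` then `F` factors through a law `M → P`. The values of
that law on a test algebra `S` are computed on the free cover `A[X_s : s ∈ S] → S`.
-/

universe u

open TensorProduct

namespace GrothLib.PolLaw

variable {A : Type u} [CommRing A] {M N : Type u} [AddCommGroup M] [Module A M]
  [AddCommGroup N] [Module A N]

/-- The span of all coefficients of a law. -/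
noncomputable def coeffSpan (F : M →ₚₗ[A] N) : Submodule A N :=
  Submodule.span A {c | ∃ (n : ℕ) (m : Fin n → M) (μ : Fin n →₀ ℕ), coeff F m μ = c}

lemma coeff_mem_coeffSpan (F : M →ₚₗ[A] N) {ι : Type} [Fintype ι] (m : ι → M) (μ : ι →₀ ℕ) :
    coeff F m μ ∈ coeffSpan F := by
  classical
  let e := Fintype.equivFin ι
  have h : univ A m = ∑ j, (MvPolynomial.X (e.symm j) : MvPolynomial ι A) ⊗ₜ[A] m (e.symm j) := by
    rw [univ, ← e.symm.sum_comp]
  rw [coeff, h, toFun'_sum, map_finsuppSum, Finsupp.sum_apply]
  refine Submodule.sum_mem _ fun ν _ => ?_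
  simp only [coeffEquiv_tmul]
  exact Submodule.smul_mem _ _ (Submodule.subset_span ⟨_, _, ν, rfl⟩)

/-- Linear maps agreeing on all coefficients give the same composite law. -/
lemma postcomp_eq_of_coeff {P : Type u} [AddCommGroup P] [Module A P] {F : M →ₚₗ[A] N}
    {g g' : N →ₗ[A] P} (h : ∀ (n : ℕ) (m : Fin n → M) μ, g (coeff F m μ) = g' (coeff F m μ)) :
    _root_.PolLaw.postcomp g F = _root_.PolLaw.postcomp g' F :=
  ext_coeff fun n m μ => by rw [coeff_postcomp, coeff_postcomp, h]

section cover

variable (A)

/-- The free cover of an algebra. -/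
noncomputable def coverHom (S : Type u) [CommSemiring S] [Algebra A S] :
    MvPolynomial S A →ₐ[A] S := MvPolynomial.aeval id

lemma coverHom_surjective (S : Type u) [CommSemiring S] [Algebra A S] :
    Function.Surjective (coverHom A S) := fun s => ⟨MvPolynomial.X s, by simp [coverHom]⟩

variable (M) in
lemma coverHom_rTensor_surjective (S : Type u) [CommSemiring S] [Algebra A S] :
    Function.Surjective ((coverHom A S).toLinearMap.rTensor M) :=
  LinearMap.rTensor_surjective M (coverHom_surjective A S)

variable {A}

/-- Two lifts to the cover come from one element over a cover of the kernel pair. -/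
lemma exists_common_lift {S : Type u} [CommSemiring S] [Algebra A S]
    (x y : MvPolynomial S A ⊗[A] M)
    (h : (coverHom A S).toLinearMap.rTensor M x = (coverHom A S).toLinearMap.rTensor M y) :
    ∃ (E : Type u) (p q : MvPolynomial E A →ₐ[A] MvPolynomial S A) (z : MvPolynomial E A ⊗[A] M),
      (coverHom A S).comp p = (coverHom A S).comp q ∧
        p.toLinearMap.rTensor M z = x ∧ q.toLinearMap.rTensor M z = y := by
  let π := coverHom A S
  let E : Subalgebra A (MvPolynomial S A × MvPolynomial S A) :=
    AlgHom.equalizer (π.comp (AlgHom.fst A _ _)) (π.comp (AlgHom.snd A _ _))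
  let p' : E →ₐ[A] MvPolynomial S A := (AlgHom.fst A _ _).comp E.val
  let q' : E →ₐ[A] MvPolynomial S A := (AlgHom.snd A _ _).comp E.val
  let diag : MvPolynomial S A →ₐ[A] E :=
    ((AlgHom.id A _).prod (AlgHom.id A _)).codRestrict E fun a => rfl
  let : AddCommGroup S := Module.addCommMonoidToAddCommGroup A
  obtain ⟨k, hk⟩ := (rTensor_exact M (LinearMap.exact_subtype_ker_map π.toLinearMap)
    (coverHom_surjective A S) (y - x)).mp (by rw [map_sub, h]; exact sub_self _)
  let inr : LinearMap.ker π.toLinearMap →ₗ[A] E :=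
    { toFun := fun a => ⟨(0, a.1), by
        show π 0 = π a.1
        rw [map_zero, show π a.1 = 0 from a.2]⟩
      map_add' := fun a b => Subtype.ext (by simp)
      map_smul' := fun r a => Subtype.ext (by simp) }
  obtain ⟨z, hz⟩ := coverHom_rTensor_surjective (M := M) A E (diag.toLinearMap.rTensor M x + inr.rTensor M k)
  refine ⟨E, p'.comp (coverHom A E), q'.comp (coverHom A E), z, ?_, ?_, ?_⟩
  · ext e
    exact (coverHom A E (MvPolynomial.X e)).2
  all_goals
    rw [AlgHom.comp_toLinearMap, LinearMap.rTensor_comp_apply, hz, map_add,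
      ← LinearMap.rTensor_comp_apply, ← LinearMap.rTensor_comp_apply]
  · rw [show p'.toLinearMap ∘ₗ diag.toLinearMap = LinearMap.id from LinearMap.ext fun _ => rfl,
      show p'.toLinearMap ∘ₗ inr = 0 from LinearMap.ext fun _ => rfl]
    simp
  · rw [show q'.toLinearMap ∘ₗ diag.toLinearMap = LinearMap.id from LinearMap.ext fun _ => rfl,
      show q'.toLinearMap ∘ₗ inr = (LinearMap.ker π.toLinearMap).subtype from LinearMap.ext fun _ => rfl,
      hk]
    simp

end cover

variable (F : M →ₚₗ[A] N) {P : Submodule A N}
  (hP : ∀ (n : ℕ) (m : Fin n → M) (μ : Fin n →₀ ℕ), coeff F m μ ∈ P)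

lemma lTensor_subtype_injective (P : Submodule A N) (σ : Type u) :
    Function.Injective (P.subtype.lTensor (MvPolynomial σ A)) :=
  Module.Flat.lTensor_preserves_injective_linearMap _ P.injective_subtype

include hP in
lemma exists_liftVal {T : Type u} [CommSemiring T] [Algebra A T] (x : T ⊗[A] M) :
    ∃ y : T ⊗[A] P, P.subtype.lTensor T y = F.toFun' T x := by
  obtain ⟨n, s, m, rfl⟩ := toFun'_tmul_eq_sum x
  refine ⟨(coeff F m).support.sum fun μ => (∏ i, s i ^ μ i) ⊗ₜ[A] ⟨coeff F m μ, hP n m μ⟩, ?_⟩
  simp [map_sum, toFun'_sum, Finsupp.sum]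

/-- The `P`-valued value on an algebra. -/
noncomputable def liftVal (T : Type u) [CommSemiring T] [Algebra A T] (x : T ⊗[A] M) : T ⊗[A] P :=
  (exists_liftVal F hP x).choose

lemma liftVal_spec (T : Type u) [CommSemiring T] [Algebra A T] (x : T ⊗[A] M) :
    P.subtype.lTensor T (liftVal F hP T x) = F.toFun' T x :=
  (exists_liftVal F hP x).choose_spec

lemma liftVal_natural {σ τ : Type u} (φ : MvPolynomial σ A →ₐ[A] MvPolynomial τ A)
    (x : MvPolynomial σ A ⊗[A] M) :
    φ.toLinearMap.rTensor P (liftVal F hP _ x) = liftVal F hP _ (φ.toLinearMap.rTensor M x) := by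
  refine lTensor_subtype_injective P τ ?_
  have h := congr_fun (F.isCompat' φ) x
  simp only [Function.comp_apply] at h
  rw [liftVal_spec, ← LinearMap.comp_apply, LinearMap.lTensor_comp_rTensor,
    ← LinearMap.rTensor_comp_lTensor, LinearMap.comp_apply, liftVal_spec, h]

/-- The value on `S`, computed on the cover. -/
noncomputable def factorFun (S : Type u) [CommSemiring S] [Algebra A S] (x : S ⊗[A] M) : S ⊗[A] P :=
  (coverHom A S).toLinearMap.rTensor P
    (liftVal F hP _ (coverHom_rTensor_surjective (M := M) A S x).choose)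

lemma factorFun_cover {S : Type u} [CommSemiring S] [Algebra A S] (x : MvPolynomial S A ⊗[A] M) :
    factorFun F hP S ((coverHom A S).toLinearMap.rTensor M x) =
      (coverHom A S).toLinearMap.rTensor P (liftVal F hP _ x) := by
  unfold factorFun
  generalize hw : (coverHom_rTensor_surjective (M := M) A S
    ((coverHom A S).toLinearMap.rTensor M x)).choose = w
  have hw' : (coverHom A S).toLinearMap.rTensor M w = (coverHom A S).toLinearMap.rTensor M x :=
    hw ▸ (coverHom_rTensor_surjective (M := M) A S _).choose_spec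
  obtain ⟨E, p, q, z, hpq, rfl, rfl⟩ := exists_common_lift w x hw'
  rw [← liftVal_natural F hP p, ← liftVal_natural F hP q, ← LinearMap.rTensor_comp_apply,
    ← LinearMap.rTensor_comp_apply, ← AlgHom.comp_toLinearMap, ← AlgHom.comp_toLinearMap, hpq]

/-- `F` as a law with values in `P`. -/
noncomputable def factorLaw : M →ₚₗ[A] P where
  toFun' S _ _ := factorFun F hP S
  isCompat' {S} _ _ {S'} _ _ φ := by
    funext x
    obtain ⟨x, rfl⟩ := coverHom_rTensor_surjective (M := M) A S x
    let φ' : MvPolynomial S A →ₐ[A] MvPolynomial S' A := MvPolynomial.rename φ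
    have hφ : (coverHom A S').comp φ' = φ.comp (coverHom A S) := by
      ext s
      simp [coverHom, φ']
    simp only [Function.comp_apply, factorFun_cover]
    rw [← LinearMap.rTensor_comp_apply, ← LinearMap.rTensor_comp_apply, ← AlgHom.comp_toLinearMap,
      ← hφ, AlgHom.comp_toLinearMap, LinearMap.rTensor_comp_apply, LinearMap.rTensor_comp_apply,
      factorFun_cover, liftVal_natural]

lemma postcomp_factorLaw : _root_.PolLaw.postcomp P.subtype (factorLaw F hP) = F := by
  ext S _ _ x
  obtain ⟨x, rfl⟩ := coverHom_rTensor_surjective (M := M) A S x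
  show P.subtype.lTensor S (factorFun F hP S _) = _
  rw [factorFun_cover, ← LinearMap.comp_apply, LinearMap.lTensor_comp_rTensor,
    ← LinearMap.rTensor_comp_lTensor, LinearMap.comp_apply, liftVal_spec]
  exact congr_fun (F.isCompat' (coverHom A S)) x

end GrothLib.PolLaw
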