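import Groth.Agent.Lib.PolLaw.Flat
import Groth.Agent.Lib.PolLaw.Factor

/-!
# Extending a homogeneous law linearly to the symmetric tensors of a flat module
-/

universe u

open TensorProduct

namespace GrothLib.PolLaw

variable {A : Type u} [CommRing A] {M N : Type u} [AddCommGroup M] [Module A M]
  [AddCommGroup N] [Module A N] {d : ℕ}

variable (A) in
/-- A basis of a finite free stage indexed in the universe of `A`. -/
noncomputable def stdBasis (n : ℕ) : Module.Basis (ULift.{u} (Fin n)) A (Fin n →₀ A) :=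
  (Finsupp.basisSingleOne (R := A) (ι := ULift.{u} (Fin n))).map (Finsupp.domLCongr Equiv.ulift)

lemma psi_natural {I I' : Type u} {L L' : Type u} [AddCommGroup L] [Module A L] [AddCommGroup L']
    [Module A L'] (b : Module.Basis I A L) (b' : Module.Basis I' A L') (g : L →ₗ[A] L')
    {F : L' →ₚₗ[A] N} (hF : _root_.PolLaw.IsHomog F d) {t : ⨂[A] _ : Fin d, L}
    (ht : t ∈ symTensor A L d) :
    psi b' F (tmap₁ g t) = psi b (_root_.PolLaw.precomp F g) t := by
  have hF' : _root_.PolLaw.IsHomog (_root_.PolLaw.precomp F g) d := by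
    intro S _ _ s x
    show F.toFun' S (g.lTensor S (s • x)) = s ^ d • F.toFun' S (g.lTensor S x)
    rw [show g.lTensor S (s • x) = s • g.lTensor S x by
      induction x using TensorProduct.induction_on with
      | zero => simp
      | tmul p q => simp [TensorProduct.smul_tmul']
      | add p q hp hq => simp [smul_add, hp, hq], hF]
  rw [symTensor_eq_orbitSpan b] at ht
  induction ht using Submodule.span_induction with
  | mem s hs =>
    obtain ⟨k, m, μ, rfl⟩ := hs
    rw [tmap₁_orbit, psi_orbit b' hF, psi_orbit b hF', coeff_precomp]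
  | zero => simp
  | add a c _ _ ha hc => simp [ha, hc]
  | smul r a _ ha => simp [ha]

lemma isHomog_precomp {L : Type u} [AddCommGroup L] [Module A L] {F : M →ₚₗ[A] N}
    (hF : _root_.PolLaw.IsHomog F d) (g : L →ₗ[A] M) :
    _root_.PolLaw.IsHomog (_root_.PolLaw.precomp F g) d := by
  intro S _ _ s x
  show F.toFun' S (g.lTensor S (s • x)) = s ^ d • F.toFun' S (g.lTensor S x)
  rw [show g.lTensor S (s • x) = s • g.lTensor S x by
    induction x using TensorProduct.induction_on with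
    | zero => simp
    | tmul p q => simp [TensorProduct.smul_tmul']
    | add p q hp hq => simp [smul_add, hp, hq], hF]

lemma precomp_comp {L L' : Type u} [AddCommGroup L] [Module A L] [AddCommGroup L'] [Module A L']
    (F : M →ₚₗ[A] N) (y : L' →ₗ[A] M) (a : L →ₗ[A] L') :
    _root_.PolLaw.precomp (_root_.PolLaw.precomp F y) a = _root_.PolLaw.precomp F (y ∘ₗ a) :=
  ext_coeff fun n m μ => by
    rw [coeff_precomp, coeff_precomp, coeff_precomp]
    rfl

variable [Module.Flat A M]

lemma exists_linear_extend {F : M →ₚₗ[A] N} (hF : _root_.PolLaw.IsHomog F d) :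
    ∃ f : symTensor A M d →ₗ[A] N, ∀ (n : ℕ) (m : Fin n → M) (μ : Fin n →₀ ℕ),
      f ⟨orbit A m μ, orbit_mem_symTensor m μ⟩ = coeff F m μ := by
  classical
  let G : Submodule A (symTensor A M d × N) := Submodule.span A
    {p | ∃ (n : ℕ) (m : Fin n → M) (μ : Fin n →₀ ℕ),
      (⟨orbit A m μ, orbit_mem_symTensor m μ⟩, coeff F m μ) = p}
  have key : ∀ p ∈ G, ∃ (n : ℕ) (y : (Fin n →₀ A) →ₗ[A] M) (t : ⨂[A] _ : Fin d, (Fin n →₀ A)),
      t ∈ symTensor A _ d ∧ tmap₁ y t = (p.1 : ⨂[A] _ : Fin d, M) ∧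
        psi (stdBasis A n) (_root_.PolLaw.precomp F y) t = p.2 := by
    intro p hp
    induction hp using Submodule.span_induction with
    | mem p hp =>
      obtain ⟨n, m, μ, rfl⟩ := hp
      refine ⟨n, Finsupp.linearCombination A m, orbit A (fun i => Finsupp.single i 1) μ,
        orbit_mem_symTensor _ _, ?_, ?_⟩
      · rw [tmap₁_orbit]
        simp [Function.comp_def]
      · rw [psi_orbit _ (isHomog_precomp hF _), coeff_precomp]
        simp [Function.comp_def]
    | zero => exact ⟨0, 0, 0, Submodule.zero_mem _, by simp, by simp⟩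
    | add p q _ _ hp hq =>
      obtain ⟨n₁, y₁, t₁, ht₁, h₁, h₁'⟩ := hp
      obtain ⟨n₂, y₂, t₂, ht₂, h₂, h₂'⟩ := hq
      let e : (Fin (n₁ + n₂) →₀ A) ≃ₗ[A] (Fin n₁ →₀ A) × (Fin n₂ →₀ A) :=
        (Finsupp.domLCongr finSumFinEquiv.symm).trans (Finsupp.sumFinsuppLEquivProdFinsupp A)
      let i₁ := e.symm.toLinearMap ∘ₗ LinearMap.inl A (Fin n₁ →₀ A) (Fin n₂ →₀ A)
      let i₂ := e.symm.toLinearMap ∘ₗ LinearMap.inr A (Fin n₁ →₀ A) (Fin n₂ →₀ A)
      let y := (y₁.coprod y₂) ∘ₗ e.toLinearMap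
      have hy₁ : y ∘ₗ i₁ = y₁ := LinearMap.ext fun x => by simp [y, i₁]
      have hy₂ : y ∘ₗ i₂ = y₂ := LinearMap.ext fun x => by simp [y, i₂]
      refine ⟨n₁ + n₂, y, tmap₁ i₁ t₁ + tmap₁ i₂ t₂,
        add_mem (tmap₁_mem_symTensor _ ht₁) (tmap₁_mem_symTensor _ ht₂), ?_, ?_⟩
      · rw [map_add, ← tmap₁_comp, ← tmap₁_comp, hy₁, hy₂, h₁, h₂]
        rfl
      · rw [map_add, psi_natural (stdBasis A n₁) _ i₁ (isHomog_precomp hF y) ht₁,
          psi_natural (stdBasis A n₂) _ i₂ (isHomog_precomp hF y) ht₂, precomp_comp, precomp_comp,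
          hy₁, hy₂, h₁', h₂']
        rfl
    | smul r p _ hp =>
      obtain ⟨n, y, t, ht, h, h'⟩ := hp
      exact ⟨n, y, r • t, Submodule.smul_mem _ _ ht, by simp [h], by simp [h']⟩
  have hfun : ∀ p ∈ G, p.1 = 0 → p.2 = 0 := by
    intro p hp h0
    obtain ⟨n, y, t, ht, h, h'⟩ := key p hp
    rw [h0] at h
    obtain ⟨k, a, y', rfl, hat⟩ := exists_kill y h
    rw [← precomp_comp, ← psi_natural (stdBasis A n) (stdBasis A k) a (isHomog_precomp hF y') ht,
      hat, map_zero] at h'
    exact h'.symm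
  let π : G →ₗ[A] symTensor A M d := (LinearMap.fst A (symTensor A M d) N) ∘ₗ G.subtype
  have hπ : Function.Bijective π := by
    refine ⟨fun p q hpq => ?_, fun t => ?_⟩
    · have h1 : ((p - q : G) : symTensor A M d × N).1 = 0 := by
        rw [Submodule.coe_sub, Prod.fst_sub]; exact sub_eq_zero.mpr hpq
      have h2 := hfun _ (p - q).2 h1
      rw [← sub_eq_zero]
      exact Subtype.ext (Prod.ext h1 h2)
    · obtain ⟨t, ht⟩ := t
      have ht' : t ∈ orbitSpan A M d := symTensor_eq_orbitSpan_of_flat (M := M) (A := A) ▸ ht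
      suffices h : ∃ p : G, ((π p : symTensor A M d) : ⨂[A] _ : Fin d, M) = t by
        obtain ⟨p, hp⟩ := h
        exact ⟨p, Subtype.ext hp⟩
      clear ht
      induction ht' using Submodule.span_induction with
      | mem t ht =>
        obtain ⟨n, m, μ, rfl⟩ := ht
        exact ⟨⟨_, Submodule.subset_span ⟨n, m, μ, rfl⟩⟩, rfl⟩
      | zero => exact ⟨0, by simp⟩
      | add a b _ _ ha hb =>
        obtain ⟨p, hp⟩ := ha; obtain ⟨q, hq⟩ := hb
        exact ⟨p + q, by simp [map_add, hp, hq]⟩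
      | smul r a _ ha =>
        obtain ⟨p, hp⟩ := ha
        exact ⟨r • p, by simp [hp]⟩
  refine ⟨(LinearMap.snd A (symTensor A M d) N) ∘ₗ G.subtype ∘ₗ
    (LinearEquiv.ofBijective π hπ).symm.toLinearMap, fun n m μ => ?_⟩
  let p : G := ⟨_, Submodule.subset_span ⟨n, m, μ, rfl⟩⟩
  have : (LinearEquiv.ofBijective π hπ).symm ⟨orbit A m μ, orbit_mem_symTensor m μ⟩ = p := by
    rw [LinearEquiv.symm_apply_eq]; rfl
  simp [this, p]

end GrothLib.PolLaw
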