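import Groth.Agent.Lib.PolLaw.Mult
import Groth.Agent.Lib.PolLaw.FlatExtend
import Groth.Prelude.Def_PolLaw2

/-!
# The law `x ↦ x ⊗ ⋯ ⊗ x` into symmetric tensors and when it is universal
-/

universe u

open TensorProduct

namespace GrothLib.PolLaw

open MvPolynomial (X C monomial)

section

variable {A : Type u} [CommRing A] {B : Type u} [CommRing B] [Algebra A B] {d : ℕ}

lemma prod_singleAlgHom (f : Fin d → B) :
    ∏ j, PiTensorProduct.singleAlgHom (R := A) (A := fun _ : Fin d => B) j (f j) =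
      PiTensorProduct.tprod A f := by
  classical
  simp only [PiTensorProduct.singleAlgHom_apply, MonoidHom.mulSingle_apply]
  rw [← PiTensorProduct.tprod_prod]
  exact congrArg _ (Finset.univ_prod_mulSingle f)

lemma prod_tmul {S T : Type u} [CommSemiring S] [Algebra A S] [CommSemiring T] [Algebra A T]
    {α : Type} (t : Finset α) (a : α → S) (b : α → T) :
    ∏ j ∈ t, a j ⊗ₜ[A] b j = (∏ j ∈ t, a j) ⊗ₜ[A] ∏ j ∈ t, b j := by
  classical
  induction t using Finset.induction_on with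
  | empty => simp [Algebra.TensorProduct.one_def]
  | insert j t hj ih =>
    rw [Finset.prod_insert hj, Finset.prod_insert hj, Finset.prod_insert hj, ih,
      Algebra.TensorProduct.tmul_mul_tmul]

/-- Values of the tensor power law. -/
lemma tpowLaw_toFun'_sum {ι : Type} [Fintype ι] (S : Type u) [CommSemiring S] [Algebra A S]
    (s : ι → S) (b : ι → B) :
    (SymTen.tpowLaw A B d).law.toFun' S (∑ i, s i ⊗ₜ[A] b i) =
      ∑ c : Fin d → ι, (∏ l, s (c l)) ⊗ₜ[A] PiTensorProduct.tprod A (b ∘ c) := by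
  classical
  simp only [SymTen.tpowLaw, _root_.PolLaw.MulLaw.prodMap_toFun', map_sum,
    Algebra.TensorProduct.map_tmul, AlgHom.id_apply]
  rw [Finset.prod_univ_sum, Fintype.piFinset_univ]
  refine Finset.sum_congr rfl fun c _ => ?_
  rw [prod_tmul, ← prod_singleAlgHom (b ∘ c)]
  rfl

/-- Coefficients of the tensor power law are orbit sums. -/
lemma coeff_tpowLaw {ι : Type} [Fintype ι] (m : ι → B) (μ : ι →₀ ℕ) :
    coeff (SymTen.tpowLaw A B d).law m μ = orbit A m μ := by
  classical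
  rw [orbit]
  refine coeff_eq_of_toFun'_univ ?_ μ
  rw [univ, tpowLaw_toFun'_sum]
  exact Finset.sum_congr rfl fun c _ => by rw [monomial_pat]

lemma coeff_tpowLaw_mem (n : ℕ) (m : Fin n → B) (μ : Fin n →₀ ℕ) :
    coeff (SymTen.tpowLaw A B d).law m μ ∈ SymTen.TS A B d := by
  rw [coeff_tpowLaw]
  exact mem_symTensor.mp (orbit_mem_symTensor m μ)

variable (A B d) in
/-- The law `x ↦ x ⊗ ⋯ ⊗ x` into symmetric tensors. -/
noncomputable def symLaw : _root_.PolLaw.MulLaw A B (SymTen.TS A B d) d :=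
  restrictLaw (SymTen.tpowLaw A B d) (SymTen.TS A B d) coeff_tpowLaw_mem

lemma symLaw_toFun'_sum {ι : Type} [Fintype ι] (S : Type u) [CommSemiring S] [Algebra A S]
    (s : ι → S) (b : ι → B) :
    (SymTen.TS A B d).val.toLinearMap.lTensor S ((symLaw A B d).law.toFun' S (∑ i, s i ⊗ₜ[A] b i)) =
      ∑ c : Fin d → ι, (∏ l, s (c l)) ⊗ₜ[A] PiTensorProduct.tprod A (b ∘ c) := by
  rw [← tpowLaw_toFun'_sum]
  have h := postcomp_restrictLaw (SymTen.tpowLaw A B d) (SymTen.TS A B d) coeff_tpowLaw_mem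
  exact congrFun (congrArg (fun L : B →ₚₗ[A] (⨂[A] _ : Fin d, B) => L.toFun' S) h) _

lemma coe_coeff_symLaw {ι : Type} [Fintype ι] (m : ι → B) (μ : ι →₀ ℕ) :
    ((coeff (symLaw A B d).law m μ : SymTen.TS A B d) : ⨂[A] _ : Fin d, B) = orbit A m μ := by
  rw [← coeff_tpowLaw, ← postcomp_restrictLaw (SymTen.tpowLaw A B d) (SymTen.TS A B d) coeff_tpowLaw_mem,
    coeff_postcomp]
  rfl

lemma coeffSpan_symLaw_eq_top (h : ∀ t ∈ SymTen.TS A B d, t ∈ orbitSpan A B d) :
    coeffSpan (symLaw A B d).law = ⊤ := by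
  refine eq_top_iff.mpr fun t _ => ?_
  have key : orbitSpan A B d ≤ (coeffSpan (symLaw A B d).law).map (SymTen.TS A B d).val.toLinearMap := by
    refine Submodule.span_le.mpr ?_
    rintro _ ⟨n, m, μ, rfl⟩
    exact ⟨_, coeff_mem_coeffSpan _ m μ, coe_coeff_symLaw m μ⟩
  obtain ⟨t', ht', hval⟩ := key (h t.1 t.2)
  rwa [show t = t' from Subtype.ext hval.symm]

lemma mem_orbitSpan_of_flat [Module.Flat A B] {t : ⨂[A] _ : Fin d, B} (ht : t ∈ SymTen.TS A B d) :
    t ∈ orbitSpan A B d :=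
  symTensor_eq_orbitSpan_of_flat (M := B) (A := A) (d := d) ▸ mem_symTensor.mpr ht

lemma sum_perm_mem_orbitSpan {M : Type u} [AddCommGroup M] [Module A M] (t : ⨂[A] _ : Fin d, M) :
    ∑ σ : Equiv.Perm (Fin d), PiTensorProduct.reindex A (fun _ : Fin d => M) σ t ∈ orbitSpan A M d := by
  classical
  induction t using PiTensorProduct.induction_on with
  | smul_tprod r f =>
    simp only [map_smul, ← Finset.smul_sum, PiTensorProduct.reindex_tprod]
    refine Submodule.smul_mem _ _ (Submodule.subset_span ⟨d, f, pat (id : Fin d → Fin d), ?_⟩)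
    refine Eq.trans ?_ (Fintype.sum_equiv (Equiv.inv _)
      (fun σ : Equiv.Perm (Fin d) => PiTensorProduct.tprod A (f ∘ σ)) _ fun σ => rfl)
    rw [orbit]
    convert sum_bijective_eq_sum_perm (fun p => PiTensorProduct.tprod A (f ∘ p)) using 3
  | add x y hx hy => simp only [map_add, Finset.sum_add_distrib]; exact add_mem hx hy

lemma mem_orbitSpan_of_isUnit (hd : IsUnit ((d.factorial : ℕ) : A)) {t : ⨂[A] _ : Fin d, B}
    (ht : t ∈ SymTen.TS A B d) : t ∈ orbitSpan A B d := by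
  obtain ⟨c, hc⟩ := hd
  have e : t = (↑c⁻¹ : A) • ∑ σ : Equiv.Perm (Fin d), PiTensorProduct.reindex A (fun _ : Fin d => B) σ t := by
    rw [Finset.sum_congr rfl fun σ _ => ht σ, Finset.sum_const, Finset.card_univ, Fintype.card_perm,
      Fintype.card_fin, ← Nat.cast_smul_eq_nsmul A, ← hc, smul_smul, Units.inv_mul, one_smul]
  rw [e]
  exact Submodule.smul_mem _ _ (sum_perm_mem_orbitSpan t)

end

section

variable {A : Type u} [CommRing A] {B P N : Type u} [CommRing B] [Algebra A B] [CommRing P] [Algebra A P]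
  [CommRing N] [Algebra A N] {d : ℕ}

lemma coeff_mul_coeff {F : B →ₚₗ[A] N} (hF : _root_.PolLaw.IsMult F) {ι κ : Type} [Fintype ι]
    [Fintype κ] (m : ι → B) (m' : κ → B) (μ : ι →₀ ℕ) (ν : κ →₀ ℕ) :
    coeff F m μ * coeff F m' ν = (coeff F (fun q : ι × κ => m q.1 * m' q.2)).sum fun ρ c =>
      MvPolynomial.coeff (Finsupp.sumElim μ ν)
        (∏ q : ι × κ, (X (Sum.inl q.1) * X (Sum.inr q.2) : MvPolynomial (ι ⊕ κ) A) ^ ρ q) • c := by
  classical
  let x : MvPolynomial (ι ⊕ κ) A ⊗[A] B := ∑ i, (X (Sum.inl i) : MvPolynomial (ι ⊕ κ) A) ⊗ₜ[A] m i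
  let y : MvPolynomial (ι ⊕ κ) A ⊗[A] B := ∑ j, (X (Sum.inr j) : MvPolynomial (ι ⊕ κ) A) ⊗ₜ[A] m' j
  have hxy : x * y = ∑ q : ι × κ, ((X (Sum.inl q.1) * X (Sum.inr q.2) : MvPolynomial (ι ⊕ κ) A)) ⊗ₜ[A] (m q.1 * m' q.2) := by
    simp [x, y, Finset.sum_mul_sum, Algebra.TensorProduct.tmul_mul_tmul, Fintype.sum_prod_type]
  have key : ∀ (a : ι →₀ ℕ) (b : κ →₀ ℕ),
      (∏ i, (X (Sum.inl i) : MvPolynomial (ι ⊕ κ) A) ^ a i) * ∏ j, (X (Sum.inr j) : MvPolynomial (ι ⊕ κ) A) ^ b j =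
        monomial (Finsupp.sumElim a b) 1 := by
    intro a b
    rw [MvPolynomial.monomial_eq, Finsupp.prod_fintype _ _ fun i => pow_zero _, Fintype.prod_sum_type]
    simp
  have h := (hF (MvPolynomial (ι ⊕ κ) A)).2 x y
  rw [hxy, toFun'_sum, toFun'_sum, toFun'_sum] at h
  have h2 := congrArg (fun z => coeffEquiv A N (ι ⊕ κ) z (Finsupp.sumElim μ ν)) h
  simp only [map_finsuppSum, Finsupp.sum_apply, coeffEquiv_tmul] at h2
  rw [Finsupp.sum, Finsupp.sum, Finsupp.sum, Finset.sum_mul_sum] at h2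
  simp only [Algebra.TensorProduct.tmul_mul_tmul, key, map_sum, Finsupp.finsetSum_apply,
    coeffEquiv_tmul, MvPolynomial.coeff_monomial] at h2
  have hinj : ∀ (a : ι →₀ ℕ) (b : κ →₀ ℕ),
      Finsupp.sumElim a b = Finsupp.sumElim μ ν → a = μ ∧ b = ν := fun a b he =>
    ⟨by ext i; simpa using congrArg (· (Sum.inl i)) he, by ext j; simpa using congrArg (· (Sum.inr j)) he⟩
  rw [Finset.sum_eq_single μ, Finset.sum_eq_single ν, if_pos rfl, one_smul] at h2
  · exact h2.symm
  · intro b _ hb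
    rw [if_neg fun he => hb (hinj _ _ he).2, zero_smul]
  · intro hν
    simp [Finsupp.notMem_support_iff.mp hν]
  · intro a _ ha
    exact Finset.sum_eq_zero fun b _ => by rw [if_neg fun he => ha (hinj _ _ he).1, zero_smul]
  · intro hμ
    simp [Finsupp.notMem_support_iff.mp hμ]

/-- A linear map carrying one multiplicative law to another is an algebra map on the span of coefficients. -/
lemma exists_algHom_of_linear {τ : _root_.PolLaw.MulLaw A B P d} {F : _root_.PolLaw.MulLaw A B N d}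
    (hτ : coeffSpan τ.law = ⊤) (g : P →ₗ[A] N) (hg : _root_.PolLaw.postcomp g τ.law = F.law) :
    ∃ f : P →ₐ[A] N, f.toLinearMap = g := by
  have hc : ∀ {ι : Type} [Fintype ι] (m : ι → B) (μ : ι →₀ ℕ), g (coeff τ.law m μ) = coeff F.law m μ :=
    fun m μ => by rw [← coeff_postcomp, hg]
  have h1 : g 1 = 1 := by
    have h := congrFun (congrArg (fun L : B →ₚₗ[A] N => L.toFun' A) hg) 1
    have h' : g.lTensor A (τ.law.toFun' A 1) = F.law.toFun' A 1 := h
    rw [(τ.mult A).1, (F.mult A).1, Algebra.TensorProduct.one_def, Algebra.TensorProduct.one_def,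
      LinearMap.lTensor_tmul] at h'
    simpa using congrArg (TensorProduct.lid A N) h'
  have hmul : ∀ p q, g (p * q) = g p * g q := by
    suffices H : (LinearMap.mul A P).compr₂ g = (LinearMap.mul A N).compl₁₂ g g from
      fun p q => LinearMap.congr_fun₂ H p q
    refine LinearMap.ext_on hτ ?_
    rintro _ ⟨n, m, μ, rfl⟩
    refine LinearMap.ext_on hτ ?_
    rintro _ ⟨k, m', ν, rfl⟩
    show g (coeff τ.law m μ * coeff τ.law m' ν) = g (coeff τ.law m μ) * g (coeff τ.law m' ν)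
    rw [hc, hc, coeff_mul_coeff τ.mult, coeff_mul_coeff F.mult, map_finsuppSum,
      show coeff F.law (fun q : Fin n × Fin k => m q.1 * m' q.2) =
        (coeff τ.law (fun q : Fin n × Fin k => m q.1 * m' q.2)).mapRange g (map_zero g) from
          Finsupp.ext fun ρ => (hc _ ρ).symm,
      Finsupp.sum_mapRange_index (fun ρ => smul_zero _)]
    exact Finsupp.sum_congr fun ρ _ => map_smul g _ _
  exact ⟨AlgHom.ofLinearMap g h1 hmul, rfl⟩

/-- Universality from a spanning condition and linear factorisations. -/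
lemma isGammaD_of_linear {τ : _root_.PolLaw.MulLaw A B P d} (hτ : coeffSpan τ.law = ⊤)
    (h : ∀ (C' : Type u) [CommRing C'] [Algebra A C'] (F : _root_.PolLaw.MulLaw A B C' d),
      ∃ g : P →ₗ[A] C', ∀ (n : ℕ) (m : Fin n → B) (μ : Fin n →₀ ℕ),
        g (coeff τ.law m μ) = coeff F.law m μ) :
    _root_.PolLaw.IsGammaD τ := by
  intro C' _ _ F
  obtain ⟨g, hg⟩ := h C' F
  have hg' : _root_.PolLaw.postcomp g τ.law = F.law := ext_coeff fun n m μ => by
    rw [coeff_postcomp, hg]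
  obtain ⟨f, hf⟩ := exists_algHom_of_linear hτ g hg'
  refine ⟨f, by simp only [hf]; exact hg', fun f' hf' => AlgHom.toLinearMap_injective ?_⟩
  refine LinearMap.ext_on hτ ?_
  rintro _ ⟨n, m, μ, rfl⟩
  rw [hf, hg, ← coeff_postcomp, hf']

end

section

variable {A B : Type u} [CommRing A] [CommRing B] [Algebra A B] {d : ℕ}

variable (A B d) in
/-- The symmetric tensors of `B` as a submodule. -/
noncomputable def tsToSymTensor : SymTen.TS A B d →ₗ[A] symTensor A B d :=
  LinearMap.codRestrict _ (SymTen.TS A B d).val.toLinearMap fun t => mem_symTensor.mpr t.2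

theorem isGammaD_symLaw_of_flat [Module.Flat A B] : _root_.PolLaw.IsGammaD (symLaw A B d) := by
  refine isGammaD_of_linear (coeffSpan_symLaw_eq_top fun t ht => mem_orbitSpan_of_flat ht) ?_
  intro C' _ _ F
  obtain ⟨g, hg⟩ := exists_linear_extend (M := B) F.homog
  refine ⟨g ∘ₗ tsToSymTensor A B d, fun n m μ => ?_⟩
  rw [← hg n m μ]
  exact congrArg g (Subtype.ext (coe_coeff_symLaw m μ))

theorem isGammaD_symLaw_of_isUnit (hd : IsUnit ((d.factorial : ℕ) : A)) :
    _root_.PolLaw.IsGammaD (symLaw A B d) := by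
  classical
  refine isGammaD_of_linear (coeffSpan_symLaw_eq_top fun t ht => mem_orbitSpan_of_isUnit hd ht) ?_
  intro C' _ _ F
  obtain ⟨c, hc⟩ := hd
  refine ⟨(↑c⁻¹ : A) • (polTensor F.homog ∘ₗ (SymTen.TS A B d).val.toLinearMap), fun n m μ => ?_⟩
  show (↑c⁻¹ : A) • polTensor F.homog (coeff (symLaw A B d).law m μ : ⨂[A] _ : Fin d, B) = _
  rw [coe_coeff_symLaw, orbit, map_sum]
  simp only [polTensor_tprod]
  by_cases hμ : ∑ i, μ i = d
  · have e := sum_pol_comp F.homog m hμ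
    refine Eq.trans (congrArg ((↑c⁻¹ : A) • ·) (Eq.trans ?_ e)) ?_
    · congr!
    · rw [← Nat.cast_smul_eq_nsmul A, ← hc, smul_smul, Units.inv_mul, one_smul]
  · rw [coeff_eq_zero F.homog m hμ]
    refine (congrArg ((↑c⁻¹ : A) • ·) (Finset.sum_eq_zero fun p hp => ?_)).trans (smul_zero _)
    refine absurd ?_ hμ
    simp only [Finset.mem_filter, Finset.mem_univ, true_and] at hp
    rw [← hp]
    exact sum_pat p

end

end GrothLib.PolLaw
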