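import Groth.Agent.Lib.PolLaw.Flat

/-!
# Symmetric tensors of a flat module are flat and lift through surjections
-/

universe u

open TensorProduct

namespace GrothLib.PolLaw

variable {A : Type u} [CommRing A] {M : Type u} [AddCommGroup M] [Module A M] {d : ℕ}

/-- Symmetric tensors of a free module are a direct summand of the tensor power. -/
lemma exists_retraction_symTensor {I : Type u} (b : Module.Basis I A M) :
    ∃ r : (⨂[A] _ : Fin d, M) →ₗ[A] symTensor A M d, r.comp (symTensor A M d).subtype = LinearMap.id := by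
  classical
  let B := Basis.piTensorProduct fun _ : Fin d => b
  have hreindex : ∀ (σ : Equiv.Perm (Fin d)) s (q : Fin d → I),
      B.repr (PiTensorProduct.reindex A (fun _ : Fin d => M) σ s) q = B.repr s (q ∘ σ) := by
    intro σ s q
    induction s using PiTensorProduct.induction_on with
    | smul_tprod r f =>
      simp only [map_smul, Finsupp.smul_apply, PiTensorProduct.reindex_tprod, B,
        Basis.piTensorProduct_repr_tprod_apply]
      congr 1
      exact (Equiv.prod_comp σ fun i => b.repr (f (σ.symm i)) (q i)).symm.trans (by simp)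
    | add x y hx hy => simp [hx, hy]
  let P : (⨂[A] _ : Fin d, M) →ₗ[A] (⨂[A] _ : Fin d, M) := B.constr A fun r =>
    if rep' (I := I) d r = r then
      ∑ q ∈ Finset.univ.image (fun σ : Equiv.Perm (Fin d) => r ∘ σ), B q else 0
  have hrep : ∀ q : Fin d → I, pat (rep' (I := I) d q) = pat q := fun q =>
    (⟨q, rfl⟩ : ∃ r : Fin d → I, pat r = pat q).choose_spec
  have hPB : ∀ r q, B.repr (P (B r)) q = if rep' (I := I) d q = r then 1 else 0 := by
    intro r q
    simp only [P, Module.Basis.constr_basis]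
    by_cases h : rep' (I := I) d r = r
    · rw [if_pos h, map_sum, Finsupp.finsetSum_apply]
      simp only [Module.Basis.repr_self, Finsupp.single_apply, Finset.sum_ite_eq']
      refine if_congr ?_ rfl rfl
      constructor
      · intro hq
        obtain ⟨σ, -, rfl⟩ := Finset.mem_image.mp hq
        rw [rep'_eq_of_pat_eq (pat_comp_perm r σ), h]
      · intro hq
        obtain ⟨σ, hσ⟩ := exists_perm_of_pat_eq (show pat q = pat r by rw [← hrep q, hq])
        exact Finset.mem_image.mpr ⟨σ, Finset.mem_univ _, hσ⟩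
    · rw [if_neg h, map_zero, Finsupp.zero_apply, if_neg]
      intro hq
      refine h ?_
      rw [← hq]
      exact rep'_eq_of_pat_eq (hrep q)
  have hP : ∀ t q, B.repr (P t) q = B.repr t (rep' (I := I) d q) := by
    intro t q
    conv_lhs => rw [← B.linearCombination_repr t, Finsupp.linearCombination_apply]
    simp only [map_finsuppSum, map_smul, Finsupp.sum_apply, Finsupp.smul_apply, hPB, smul_eq_mul]
    rw [Finsupp.sum, Finset.sum_eq_single (rep' (I := I) d q)]
    · simp
    · intro r _ hr; rw [if_neg (Ne.symm hr), mul_zero]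
    · intro hr; simp [Finsupp.notMem_support_iff.mp hr]
  have hmem : ∀ t, P t ∈ symTensor A M d := fun t => mem_symTensor.mpr fun σ => by
    refine B.repr.injective (Finsupp.ext fun q => ?_)
    rw [hreindex, hP, hP, rep'_eq_of_pat_eq (pat_comp_perm q σ)]
  refine ⟨P.codRestrict _ hmem, ?_⟩
  refine LinearMap.ext fun t => Subtype.ext ?_
  show P (t : ⨂[A] _ : Fin d, M) = t
  refine B.repr.injective (Finsupp.ext fun q => ?_)
  obtain ⟨σ, hσ⟩ := exists_perm_of_pat_eq (show pat (rep' (I := I) d q) = pat q from hrep q)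
  rw [hP, ← hσ, ← hreindex, mem_symTensor.mp t.2]

lemma flat_symTensor_of_basis {I : Type u} (b : Module.Basis I A M) :
    Module.Flat A (symTensor A M d) := by
  obtain ⟨r, hr⟩ := exists_retraction_symTensor (d := d) b
  have : Module.Free A (⨂[A] _ : Fin d, M) :=
    Module.Free.of_basis (Basis.piTensorProduct fun _ : Fin d => b)
  exact Module.Flat.of_retract (symTensor A M d).subtype r hr

variable [Module.Flat A M]

/-- Finitely many symmetric tensors lift to symmetric tensors at one finite free stage. -/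
lemma exists_symm_lift_family {l : ℕ} (t : Fin l → ⨂[A] _ : Fin d, M) (ht : ∀ i, t i ∈ symTensor A M d) :
    ∃ (n : ℕ) (y : (Fin n →₀ A) →ₗ[A] M) (t₀ : Fin l → ⨂[A] _ : Fin d, (Fin n →₀ A)),
      (∀ i, t₀ i ∈ symTensor A _ d) ∧ ∀ i, tmap₁ y (t₀ i) = t i := by
  induction l with
  | zero => exact ⟨0, 0, fun i => i.elim0, fun i => i.elim0, fun i => i.elim0⟩
  | succ l ih =>
    obtain ⟨n₁, y₁, s₁, hs₁, h₁⟩ := exists_symm_lift (ht 0)
    obtain ⟨n₂, y₂, s₂, hs₂, h₂⟩ := ih (fun i => t i.succ) fun i => ht i.succ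
    let e : (Fin (n₁ + n₂) →₀ A) ≃ₗ[A] (Fin n₁ →₀ A) × (Fin n₂ →₀ A) :=
      (Finsupp.domLCongr finSumFinEquiv.symm).trans (Finsupp.sumFinsuppLEquivProdFinsupp A)
    let i₁ := e.symm.toLinearMap ∘ₗ LinearMap.inl A (Fin n₁ →₀ A) (Fin n₂ →₀ A)
    let i₂ := e.symm.toLinearMap ∘ₗ LinearMap.inr A (Fin n₁ →₀ A) (Fin n₂ →₀ A)
    let y := (y₁.coprod y₂) ∘ₗ e.toLinearMap
    have hy₁ : y ∘ₗ i₁ = y₁ := LinearMap.ext fun x => by simp [y, i₁]
    have hy₂ : y ∘ₗ i₂ = y₂ := LinearMap.ext fun x => by simp [y, i₂]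
    refine ⟨n₁ + n₂, y, Fin.cons (tmap₁ i₁ s₁) fun i => tmap₁ i₂ (s₂ i), ?_, ?_⟩
    · exact Fin.cases (tmap₁_mem_symTensor _ hs₁) fun i => tmap₁_mem_symTensor _ (hs₂ i)
    · refine Fin.cases ?_ fun i => ?_
      · rw [Fin.cons_zero, ← tmap₁_comp, hy₁, h₁]
      · rw [Fin.cons_succ, ← tmap₁_comp, hy₂, h₂]

theorem flat_symTensor : Module.Flat A (symTensor A M d) := by
  classical
  refine Module.Flat.of_forall_isTrivialRelation fun {l f x} hx => ?_
  obtain ⟨n, y, t₀, ht₀, hy⟩ := exists_symm_lift_family (fun i => (x i : ⨂[A] _ : Fin d, M)) fun i => (x i).2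
  obtain ⟨k, a, y', rfl, hat⟩ := exists_kill y (t := ∑ i, f i • t₀ i) (by
    rw [map_sum]
    simp only [map_smul, hy]
    simpa using congrArg Subtype.val hx)
  let g : symTensor A (Fin n →₀ A) d →ₗ[A] symTensor A (Fin k →₀ A) d :=
    (tmap₁ a).restrict fun _ h => tmap₁_mem_symTensor a h
  let g' : symTensor A (Fin k →₀ A) d →ₗ[A] symTensor A M d :=
    (tmap₁ y').restrict fun _ h => tmap₁_mem_symTensor y' h
  have := flat_symTensor_of_basis (d := d) ((Finsupp.basisSingleOne (R := A) (ι := ULift.{u} (Fin k))).map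
    (Finsupp.domLCongr Equiv.ulift) : Module.Basis (ULift.{u} (Fin k)) A (Fin k →₀ A))
  have h0 : ∑ i, f i • g ⟨t₀ i, ht₀ i⟩ = 0 := by
    refine Subtype.ext ?_
    simpa [g] using hat
  let : AddCommGroup (symTensor A (Fin k →₀ A) d) := Module.addCommMonoidToAddCommGroup A
  obtain ⟨m, c, z, hc, hz⟩ := Module.Flat.isTrivialRelation_of_sum_smul_eq_zero (R := A)
    (M := symTensor A (Fin k →₀ A) d) (f := f) (x := fun i => g ⟨t₀ i, ht₀ i⟩) h0
  refine ⟨m, c, fun j => g' (z j), fun i => ?_, hz⟩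
  have e : g' (g ⟨t₀ i, ht₀ i⟩) = x i := by
    refine Subtype.ext ?_
    show tmap₁ y' (tmap₁ a (t₀ i)) = _
    rw [← tmap₁_comp]
    exact hy i
  simp only at hc ⊢
  rw [← e, hc i, map_sum]
  simp only [map_smul]

omit [Module.Flat A M] in
/-- Symmetric tensors of a flat module lift through surjections. -/
theorem exists_symm_lift_of_surjective {N : Type u} [AddCommGroup N] [Module A N] [Module.Flat A N]
    (f : M →ₗ[A] N) (hf : Function.Surjective f) {t : ⨂[A] _ : Fin d, N} (ht : t ∈ symTensor A N d) :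
    ∃ s ∈ symTensor A M d, tmap₁ f s = t := by
  obtain ⟨n, y, t₀, ht₀, rfl⟩ := exists_symm_lift ht
  obtain ⟨y', rfl⟩ := Module.projective_lifting_property f y hf
  exact ⟨tmap₁ y' t₀, tmap₁_mem_symTensor _ ht₀, (tmap₁_comp f y' t₀).symm⟩

end GrothLib.PolLaw
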