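import Groth.Agent.Lib.PolLaw.Eval
import Groth.Agent.Lib.PolLaw.Sym
import Groth.Agent.Lib.PolLaw.SymFlat

/-!
# Characteristic polynomials and Cayley–Hamilton for laws `B → A`
-/

universe u

open TensorProduct
open Algebra.TensorProduct (includeLeft includeRight productMap)

namespace GrothLib.PolLaw

variable {A : Type u} [CommRing A] {B : Type u} [CommRing B] [Algebra A B] {d : ℕ}

/-- The characteristic polynomial `F (X - b')` of an element of `A' ⊗ B`. -/
noncomputable def charPoly (F : _root_.PolLaw.MulLaw A B A d) (A' : Type u) [CommRing A'] [Algebra A A']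
    (b' : A' ⊗[A] B) : Polynomial A' :=
  valS F (Polynomial A') ((Polynomial.X : Polynomial A') ⊗ₜ[A] (1 : B) -
    Algebra.TensorProduct.map (IsScalarTower.toAlgHom A A' (Polynomial A')) (AlgHom.id A B) b')

lemma valS_precomp {B' : Type u} [CommRing B'] [Algebra A B'] (F : _root_.PolLaw.MulLaw A B A d)
    (π : B' →ₐ[A] B) (S : Type u) [CommSemiring S] [Algebra A S] (y : S ⊗[A] B') :
    valS (_root_.PolLaw.MulLaw.precomp F π) S y =
      valS F S (Algebra.TensorProduct.map (AlgHom.id A S) π y) := by
  show Algebra.TensorProduct.rid A A S (F.law.toFun' S (π.toLinearMap.lTensor S y)) = _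
  rw [valS_apply]
  congr 2

lemma map_id_comm {B' S S' : Type u} [CommRing B'] [Algebra A B'] [CommSemiring S] [Algebra A S]
    [CommSemiring S'] [Algebra A S'] (φ : S →ₐ[A] S') (π : B' →ₐ[A] B) (z : S ⊗[A] B') :
    Algebra.TensorProduct.map (AlgHom.id A S') π (Algebra.TensorProduct.map φ (AlgHom.id A B') z) =
      Algebra.TensorProduct.map φ (AlgHom.id A B) (Algebra.TensorProduct.map (AlgHom.id A S) π z) := by
  induction z using TensorProduct.induction_on with
  | zero => simp
  | tmul s b => simp
  | add p q hp hq => simp [hp, hq]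

lemma charPoly_precomp {B' : Type u} [CommRing B'] [Algebra A B'] (F : _root_.PolLaw.MulLaw A B A d)
    (π : B' →ₐ[A] B) (A' : Type u) [CommRing A'] [Algebra A A'] (b' : A' ⊗[A] B') :
    charPoly (_root_.PolLaw.MulLaw.precomp F π) A' b' =
      charPoly F A' (Algebra.TensorProduct.map (AlgHom.id A A') π b') := by
  rw [charPoly, valS_precomp, map_sub, map_id_comm, Algebra.TensorProduct.map_tmul, map_one]
  rfl

/-- Characteristic polynomials commute with change of scalars. -/
lemma charPoly_map (F : _root_.PolLaw.MulLaw A B A d) {A' A'' : Type u} [CommRing A'] [Algebra A A']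
    [CommRing A''] [Algebra A A''] (φ : A' →ₐ[A] A'') (b' : A' ⊗[A] B) :
    (charPoly F A' b').map φ.toRingHom =
      charPoly F A'' (Algebra.TensorProduct.map φ (AlgHom.id A B) b') := by
  show Polynomial.mapAlgHom φ (valS F _ _) = _
  rw [← valS_map, map_sub, charPoly]
  congr 2
  · simp [Polynomial.mapAlgHom]
  · induction b' using TensorProduct.induction_on with
    | zero => simp
    | tmul a b => simp [Polynomial.mapAlgHom]
    | add p q hp hq => simp [hp, hq]

/-- The characteristic polynomial of an element of the kernel. -/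
lemma charPoly_eq_X_pow_of_mem_kerBC (F : _root_.PolLaw.MulLaw A B A d) {A' : Type u} [CommRing A']
    [Algebra A A'] {b' : A' ⊗[A] B} (hb : b' ∈ _root_.PolLaw.kerBC F.law A') :
    charPoly F A' b' = Polynomial.X ^ d := by
  have h := (mem_kerBC_iff F A' b').mp hb (Polynomial A') ((Polynomial.X : Polynomial A') ⊗ₜ[A] (1 : B)) (-1)
  rw [charPoly, sub_eq_add_neg]
  refine Eq.trans ?_ (h.trans (valS_tmul_one F _))
  congr 2
  exact (neg_one_mul (_ : Polynomial A' ⊗[A] B)).symm

lemma mapAlgHom_productMap {S R R' W : Type u} [CommRing S] [Algebra A S] [CommRing R] [Algebra A R]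
    [CommRing R'] [Algebra A R'] [CommRing W] [Algebra A W] (φ : R →ₐ[A] R') (i : S →ₐ[A] R)
    (h : W →ₐ[A] R) (z : Polynomial S ⊗[A] W) :
    (productMap (Polynomial.mapAlgHom i) ((IsScalarTower.toAlgHom A R (Polynomial R)).comp h) z).map φ.toRingHom =
      productMap (Polynomial.mapAlgHom (φ.comp i))
        ((IsScalarTower.toAlgHom A R' (Polynomial R')).comp (φ.comp h)) z := by
  induction z using TensorProduct.induction_on with
  | zero => simp
  | tmul p w =>
    simp only [Algebra.TensorProduct.productMap_apply_tmul, AlgHom.comp_apply, Polynomial.map_mul]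
    congr 1
    · exact Polynomial.map_map _ _ p
    · exact Polynomial.map_C _
  | add p q hp hq => simp only [map_add, Polynomial.map_add, hp, hq]

section free


variable {B' : Type u} [CommRing B'] [Algebra A B']

lemma valS_symm_rule {f : SymTen.TS A B' d →ₐ[A] A} {G : _root_.PolLaw.MulLaw A B' A d}
    (hf : _root_.PolLaw.postcomp f.toLinearMap (symLaw A B' d).law = G.law) {S : Type u}
    [CommSemiring S] [Algebra A S] (y : S ⊗[A] B') :
    valS G S y = productMap (AlgHom.id A S) ((Algebra.ofId A S).comp f) ((symLaw A B' d).law.toFun' S y) := by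
  rw [valS_apply, ← hf]
  show Algebra.TensorProduct.rid A A S (f.toLinearMap.lTensor S ((symLaw A B' d).law.toFun' S y)) = _
  generalize (symLaw A B' d).law.toFun' S y = z
  induction z using TensorProduct.induction_on with
  | zero => simp
  | tmul s t =>
    simp [Algebra.smul_def, mul_comm, Algebra.TensorProduct.productMap_apply_tmul]
  | add p q hp hq => simp [hp, hq]

lemma tpow_symLaw {S T : Type u} [CommSemiring S] [Algebra A S] [CommSemiring T] [Algebra A T]
    (g : S →ₐ[A] T) (h : (⨂[A] _ : Fin d, B') →ₐ[A] T) (y : S ⊗[A] B') :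
    productMap g (h.comp (SymTen.TS A B' d).val) ((symLaw A B' d).law.toFun' S y) =
      ∏ j, productMap g (h.comp (PiTensorProduct.singleAlgHom (A := fun _ : Fin d => B') j)) y := by
  have e1 : ∀ z : S ⊗[A] SymTen.TS A B' d, productMap g (h.comp (SymTen.TS A B' d).val) z =
      productMap g h ((SymTen.TS A B' d).val.toLinearMap.lTensor S z) := by
    intro z
    induction z using TensorProduct.induction_on with
    | zero => simp
    | tmul s t => simp
    | add p q hp hq => simp [hp, hq]
  have e2 : (SymTen.TS A B' d).val.toLinearMap.lTensor S ((symLaw A B' d).law.toFun' S y) =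
      (SymTen.tpowLaw A B' d).law.toFun' S y :=
    congrFun (congrArg (fun L : B' →ₚₗ[A] (⨂[A] _ : Fin d, B') => L.toFun' S)
      (postcomp_restrictLaw (SymTen.tpowLaw A B' d) (SymTen.TS A B' d) coeff_tpowLaw_mem)) y
  rw [e1, e2]
  simp only [SymTen.tpowLaw, _root_.PolLaw.MulLaw.prodMap_toFun', map_prod]
  refine Finset.prod_congr rfl fun j _ => ?_
  clear e2
  induction y using TensorProduct.induction_on with
  | zero => simp
  | tmul s b => simp
  | add p q hp hq => simp [hp, hq]

lemma injective_lTensor_val {I : Type u} (bB : Module.Basis I A B') (S : Type u) [CommSemiring S] [Algebra A S] :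
    Function.Injective (Algebra.TensorProduct.map (AlgHom.id A S) (SymTen.TS A B' d).val) := by
  obtain ⟨r, hr⟩ := exists_retraction_symTensor (d := d) bB
  let r' : (⨂[A] _ : Fin d, B') →ₗ[A] SymTen.TS A B' d :=
    { toFun := fun t => ⟨(r t : ⨂[A] _ : Fin d, B'), mem_symTensor.mp (r t).2⟩
      map_add' := fun a b => Subtype.ext (by simp)
      map_smul' := fun c a => Subtype.ext (by simp) }
  have hr' : ∀ t : SymTen.TS A B' d, r' t = t := fun t => Subtype.ext <| by
    have := LinearMap.congr_fun hr ⟨t.1, mem_symTensor.mpr t.2⟩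
    show ((r t.1 : symTensor A B' d) : ⨂[A] _ : Fin d, B') = t.1
    exact congrArg Subtype.val this
  refine Function.LeftInverse.injective (g := r'.lTensor S) fun z => ?_
  induction z using TensorProduct.induction_on with
  | zero => simp
  | tmul s t => simp [hr']
  | add p q hp hq => simp only [map_add, hp, hq]

variable (d) in
/-- The characteristic polynomial with coefficients in symmetric tensors. -/
noncomputable def symPoly (A' : Type u) [CommRing A'] [Algebra A A'] (b' : A' ⊗[A] B') :
    Polynomial (A' ⊗[A] SymTen.TS A B' d) :=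
  productMap (Polynomial.mapAlgHom includeLeft)
    ((IsScalarTower.toAlgHom A (A' ⊗[A] SymTen.TS A B' d) (Polynomial (A' ⊗[A] SymTen.TS A B' d))).comp
      includeRight)
    ((symLaw A B' d).law.toFun' (Polynomial A') ((Polynomial.X : Polynomial A') ⊗ₜ[A] (1 : B') -
      Algebra.TensorProduct.map (IsScalarTower.toAlgHom A A' (Polynomial A')) (AlgHom.id A B') b'))

lemma productMap_C_apply {S W : Type u} [CommRing S] [Algebra A S] [CommRing W] [Algebra A W]
    (b : S ⊗[A] B') (h : B' →ₐ[A] W) :
    productMap (Polynomial.mapAlgHom (includeLeft : S →ₐ[A] S ⊗[A] W))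
        ((IsScalarTower.toAlgHom A (S ⊗[A] W) (Polynomial (S ⊗[A] W))).comp
          ((includeRight : W →ₐ[A] S ⊗[A] W).comp h))
        (Algebra.TensorProduct.map (IsScalarTower.toAlgHom A S (Polynomial S)) (AlgHom.id A B') b) =
      Polynomial.C (Algebra.TensorProduct.map (AlgHom.id A S) h b) := by
  induction b using TensorProduct.induction_on with
  | zero => simp
  | tmul a x => simp [Polynomial.mapAlgHom, ← map_mul]
  | add p q hp hq => simp [hp, hq]

lemma symPoly_map_val (A' : Type u) [CommRing A'] [Algebra A A'] (b' : A' ⊗[A] B') :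
    (symPoly d A' b').map (Algebra.TensorProduct.map (AlgHom.id A A') (SymTen.TS A B' d).val).toRingHom =
      ∏ j, (Polynomial.X - Polynomial.C (Algebra.TensorProduct.map (AlgHom.id A A')
        (PiTensorProduct.singleAlgHom (A := fun _ : Fin d => B') j) b')) := by
  rw [symPoly, mapAlgHom_productMap]
  have e1 : (Algebra.TensorProduct.map (AlgHom.id A A') (SymTen.TS A B' d).val).comp includeLeft =
      (includeLeft : A' →ₐ[A] A' ⊗[A] (⨂[A] _ : Fin d, B')) := AlgHom.ext fun a => by simp
  have e2 : (Algebra.TensorProduct.map (AlgHom.id A A') (SymTen.TS A B' d).val).comp includeRight =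
      (includeRight : (⨂[A] _ : Fin d, B') →ₐ[A] A' ⊗[A] (⨂[A] _ : Fin d, B')).comp (SymTen.TS A B' d).val :=
    AlgHom.ext fun a => by simp
  rw [e1, e2, ← AlgHom.comp_assoc, tpow_symLaw]
  refine Finset.prod_congr rfl fun j _ => ?_
  rw [map_sub, AlgHom.comp_assoc, productMap_C_apply]
  simp [Polynomial.mapAlgHom, ← PiTensorProduct.one_def, ← Algebra.TensorProduct.one_def]

lemma symPoly_map_eval {f : SymTen.TS A B' d →ₐ[A] A} {G : _root_.PolLaw.MulLaw A B' A d}
    (hf : _root_.PolLaw.postcomp f.toLinearMap (symLaw A B' d).law = G.law)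
    (A' : Type u) [CommRing A'] [Algebra A A'] (b' : A' ⊗[A] B') :
    (symPoly d A' b').map (productMap (AlgHom.id A A') ((Algebra.ofId A A').comp f)).toRingHom =
      charPoly G A' b' := by
  rw [symPoly, mapAlgHom_productMap, charPoly, valS_symm_rule hf]
  have e1 : (productMap (AlgHom.id A A') ((Algebra.ofId A A').comp f)).comp
      (includeLeft : A' →ₐ[A] A' ⊗[A] SymTen.TS A B' d) = AlgHom.id A A' := AlgHom.ext fun a => by simp
  have e2 : (productMap (AlgHom.id A A') ((Algebra.ofId A A').comp f)).comp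
      (includeRight : SymTen.TS A B' d →ₐ[A] A' ⊗[A] SymTen.TS A B' d) = (Algebra.ofId A A').comp f :=
    AlgHom.ext fun a => by simp
  rw [e1, e2]
  congr 2
  exact AlgHom.ext fun p => Polynomial.map_id (p := p)

/-- Monic, and Cayley–Hamilton, over a free algebra. -/
lemma charPoly_free {I : Type u} (bB : Module.Basis I A B') {f : SymTen.TS A B' d →ₐ[A] A}
    {G : _root_.PolLaw.MulLaw A B' A d}
    (hf : _root_.PolLaw.postcomp f.toLinearMap (symLaw A B' d).law = G.law)
    (A' : Type u) [CommRing A'] [Algebra A A'] (b' : A' ⊗[A] B') :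
    (charPoly G A' b').Monic ∧
      Polynomial.aeval b' (charPoly G A' b') ∈ _root_.PolLaw.kerBC G.law A' := by
  classical
  let P : Polynomial (A' ⊗[A] SymTen.TS A B' d) := symPoly d A' b'
  let incl : A' ⊗[A] SymTen.TS A B' d →ₐ[A] A' ⊗[A] (⨂[A] _ : Fin d, B') :=
    Algebra.TensorProduct.map (AlgHom.id A A') (SymTen.TS A B' d).val
  let bj : Fin d → A' ⊗[A] (⨂[A] _ : Fin d, B') := fun j =>
    Algebra.TensorProduct.map (AlgHom.id A A') (PiTensorProduct.singleAlgHom (A := fun _ : Fin d => B') j) b'
  have hP : P.map incl.toRingHom = ∏ j, (Polynomial.X - Polynomial.C (bj j)) := symPoly_map_val A' b'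
  let ev : A' ⊗[A] SymTen.TS A B' d →ₐ[A] A' := productMap (AlgHom.id A A') ((Algebra.ofId A A').comp f)
  have hchar : charPoly G A' b' = P.map ev.toRingHom := (symPoly_map_eval hf A' b').symm
  constructor
  · rw [hchar]
    refine Polynomial.Monic.map _ (Polynomial.monic_of_injective (injective_lTensor_val bB A') ?_)
    show (P.map incl.toRingHom).Monic
    rw [hP]
    exact Polynomial.monic_prod_of_monic _ _ fun j _ => Polynomial.monic_X_sub_C _
  rw [mem_kerBC_iff]
  intro R _ _ _ _ x w
  let ι : R →ₐ[A] (R ⊗[A] SymTen.TS A B' d) := includeLeft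
  let σ : (R ⊗[A] SymTen.TS A B' d) →ₐ[A] R := productMap (AlgHom.id A R) ((Algebra.ofId A R).comp f)
  let up : A' →ₐ[A] R := IsScalarTower.toAlgHom A A' R
  let h : A' ⊗[A] SymTen.TS A B' d →ₐ[A] (R ⊗[A] SymTen.TS A B' d) := Algebra.TensorProduct.map up (AlgHom.id A _)
  let bR : R ⊗[A] B' := Algebra.TensorProduct.map up (AlgHom.id A B') b'
  let θ : (R ⊗[A] SymTen.TS A B' d) ⊗[A] B' := P.eval₂ ((includeLeft : (R ⊗[A] SymTen.TS A B' d) →ₐ[A] (R ⊗[A] SymTen.TS A B' d) ⊗[A] B').comp h).toRingHom
    (Algebra.TensorProduct.map ι (AlgHom.id A B') bR)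
  let z : (R ⊗[A] SymTen.TS A B' d) ⊗[A] B' := Algebra.TensorProduct.map ι (AlgHom.id A B') x +
    Algebra.TensorProduct.map ι (AlgHom.id A B') w * θ
  let J : Fin d → (R ⊗[A] SymTen.TS A B' d) ⊗[A] B' →ₐ[A] R ⊗[A] (⨂[A] _ : Fin d, B') := fun j =>
    productMap (Algebra.TensorProduct.map (AlgHom.id A R) (SymTen.TS A B' d).val)
      (includeRight.comp (PiTensorProduct.singleAlgHom (A := fun _ : Fin d => B') j))
  let upT : A' ⊗[A] (⨂[A] _ : Fin d, B') →ₐ[A] R ⊗[A] (⨂[A] _ : Fin d, B') :=
    Algebra.TensorProduct.map up (AlgHom.id A _)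
  have hJθ : ∀ j, J j θ = 0 := by
    intro j
    show (J j).toRingHom (P.eval₂ _ _) = 0
    rw [Polynomial.hom_eval₂]
    have e1 : (J j).toRingHom.comp ((includeLeft : (R ⊗[A] SymTen.TS A B' d) →ₐ[A] (R ⊗[A] SymTen.TS A B' d) ⊗[A] B').comp h).toRingHom =
        upT.toRingHom.comp incl.toRingHom := by
      show ((J j).comp ((includeLeft : (R ⊗[A] SymTen.TS A B' d) →ₐ[A] (R ⊗[A] SymTen.TS A B' d) ⊗[A] B').comp h)).toRingHom = (upT.comp incl).toRingHom
      congr 1
      ext a <;> simp [J, h, upT, incl, ← PiTensorProduct.one_def]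
    have e2' : ∀ c : A' ⊗[A] B', J j (Algebra.TensorProduct.map ι (AlgHom.id A B')
        (Algebra.TensorProduct.map up (AlgHom.id A B') c)) = upT (Algebra.TensorProduct.map (AlgHom.id A A')
          (PiTensorProduct.singleAlgHom (A := fun _ : Fin d => B') j) c) := by
      intro c
      induction c using TensorProduct.induction_on with
      | zero => simp
      | tmul a b => simp [J, ι, upT]
      | add p q hp hq => simp only [map_add, hp, hq]
    have e2 : J j (Algebra.TensorProduct.map ι (AlgHom.id A B') bR) = upT (bj j) := e2' b'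
    rw [e1]
    show P.eval₂ (upT.toRingHom.comp incl.toRingHom) (J j _) = 0
    rw [e2, ← Polynomial.eval₂_map, hP]
    show (∏ l, (Polynomial.X - Polynomial.C (bj l))).eval₂ upT.toRingHom (upT.toRingHom (bj j)) = 0
    rw [Polynomial.eval₂_at_apply, Polynomial.eval_prod,
      Finset.prod_eq_zero (Finset.mem_univ j) (by simp), map_zero]
  let μ : (R ⊗[A] SymTen.TS A B' d) ⊗[A] SymTen.TS A B' d →ₐ[A] (R ⊗[A] SymTen.TS A B' d) := productMap (AlgHom.id A (R ⊗[A] SymTen.TS A B' d)) includeRight
  let incR : (R ⊗[A] SymTen.TS A B' d) →ₐ[A] R ⊗[A] (⨂[A] _ : Fin d, B') :=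
    Algebra.TensorProduct.map (AlgHom.id A R) (SymTen.TS A B' d).val
  have hμ : ∀ y, incR (μ ((symLaw A B' d).law.toFun' (R ⊗[A] SymTen.TS A B' d) y)) = ∏ j, J j y := by
    intro y
    rw [show ∏ j, J j y = productMap incR (includeRight.comp (SymTen.TS A B' d).val)
      ((symLaw A B' d).law.toFun' (R ⊗[A] SymTen.TS A B' d) y) from (tpow_symLaw incR includeRight y).symm]
    generalize (symLaw A B' d).law.toFun' (R ⊗[A] SymTen.TS A B' d) y = v
    induction v using TensorProduct.induction_on with
    | zero => simp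
    | tmul s t => simp [μ, incR]
    | add p q hp hq => simp only [map_add, hp, hq]
  have hσ : ∀ y, σ (μ ((symLaw A B' d).law.toFun' (R ⊗[A] SymTen.TS A B' d) y)) =
      valS G R (Algebra.TensorProduct.map σ (AlgHom.id A B') y) := by
    intro y
    rw [valS_map, valS_symm_rule hf]
    generalize (symLaw A B' d).law.toFun' (R ⊗[A] SymTen.TS A B' d) y = v
    induction v using TensorProduct.induction_on with
    | zero => simp
    | tmul s t => simp [μ, σ]
    | add p q hp hq => simp only [map_add, hp, hq]
  have hback : ∀ y : R ⊗[A] B', Algebra.TensorProduct.map σ (AlgHom.id A B')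
      (Algebra.TensorProduct.map ι (AlgHom.id A B') y) = y := by
    intro y
    induction y using TensorProduct.induction_on with
    | zero => simp
    | tmul s t => simp [σ, ι]
    | add p q hp hq => simp only [map_add, hp, hq]
  have hθ : Algebra.TensorProduct.map σ (AlgHom.id A B') θ =
      Algebra.TensorProduct.map up (AlgHom.id A B') (Polynomial.aeval b' (charPoly G A' b')) := by
    rw [hchar, Polynomial.aeval_def, Polynomial.eval₂_map]
    show (Algebra.TensorProduct.map σ (AlgHom.id A B')).toRingHom (P.eval₂ _ _) =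
      (Algebra.TensorProduct.map up (AlgHom.id A B')).toRingHom (P.eval₂ _ _)
    rw [Polynomial.hom_eval₂, Polynomial.hom_eval₂]
    refine congrArg₂ (fun r v => P.eval₂ r v) ?_ (hback bR)
    refine RingHom.ext fun v => ?_
    induction v using TensorProduct.induction_on with
    | zero => simp
    | tmul a t =>
      simp [h, σ, ev]
    | add p q hp hq => simp only [map_add, hp, hq]
  have hz : μ ((symLaw A B' d).law.toFun' (R ⊗[A] SymTen.TS A B' d) z) =
      μ ((symLaw A B' d).law.toFun' (R ⊗[A] SymTen.TS A B' d) (Algebra.TensorProduct.map ι (AlgHom.id A B') x)) := by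
    refine injective_lTensor_val bB R ?_
    show incR _ = incR _
    rw [hμ, hμ]
    exact Finset.prod_congr rfl fun j _ => by simp [z, hJθ]
  have := congrArg σ hz
  rw [hσ, hσ, hback, map_add, map_mul, hback, hback, hθ] at this
  exact this

end free

variable (F : _root_.PolLaw.MulLaw A B A d) (A' : Type u) [CommRing A'] [Algebra A A'] (b' : A' ⊗[A] B)

lemma charPoly_monic_and_aeval_mem :
    (charPoly F A' b').Monic ∧
      Polynomial.aeval b' (charPoly F A' b') ∈ _root_.PolLaw.kerBC F.law A' := by
  let π : MvPolynomial B A →ₐ[A] B := MvPolynomial.aeval id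
  have hπ : Function.Surjective π := fun b => ⟨MvPolynomial.X b, MvPolynomial.aeval_X _ b⟩
  have hS : ∀ (R : Type u) [CommSemiring R] [Algebra A R],
      Function.Surjective (Algebra.TensorProduct.map (AlgHom.id A R) π) :=
    fun R _ _ => LinearMap.lTensor_surjective R (g := π.toLinearMap) hπ
  obtain ⟨b₁, rfl⟩ := hS A' b'
  obtain ⟨f, hf, -⟩ := isGammaD_symLaw_of_flat (A := A) (B := MvPolynomial B A) (d := d) A
    (_root_.PolLaw.MulLaw.precomp F π)
  obtain ⟨h1, h2⟩ := charPoly_free ((MvPolynomial.basisMonomials B A).reindex (Equiv.refl _)) hf A' b₁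
  rw [charPoly_precomp] at h1 h2
  refine ⟨h1, ?_⟩
  rw [mem_kerBC_iff] at h2 ⊢
  intro R _ _ _ _ x w
  obtain ⟨x, rfl⟩ := hS R x
  obtain ⟨w, rfl⟩ := hS R w
  have e := h2 R x w
  rw [valS_precomp, valS_precomp, map_add, map_mul, map_id_comm] at e
  rw [← e]
  congr 4
  exact Polynomial.aeval_algHom_apply
    (Algebra.TensorProduct.map (AlgHom.id A' A') π : A' ⊗[A] MvPolynomial B A →ₐ[A'] A' ⊗[A] B) b₁ _

lemma charPoly_monic : (charPoly F A' b').Monic := (charPoly_monic_and_aeval_mem F A' b').1

/-- Cayley–Hamilton. -/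
lemma aeval_charPoly_mem : Polynomial.aeval b' (charPoly F A' b') ∈ _root_.PolLaw.kerBC F.law A' :=
  (charPoly_monic_and_aeval_mem F A' b').2

end GrothLib.PolLaw
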