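import Groth.Prelude.Def_PolLaw
import Mathlib.LinearAlgebra.TensorProduct.Basis
import Mathlib.LinearAlgebra.TensorProduct.Finiteness
import Mathlib.RingTheory.MvPolynomial.Basic

/-!
# Coefficients of polynomial laws

`coeff F m μ` is the coefficient at `X ^ μ` of `F (∑ i, X i ⊗ m i)` for a finite family `m`.
-/

universe u

open TensorProduct

namespace GrothLib.PolLaw

open MvPolynomial (X C monomial)

variable {A : Type u} [CommRing A] {M N : Type u} [AddCommGroup M] [Module A M]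
  [AddCommGroup N] [Module A N] {ι κ : Type} [Fintype ι] [Fintype κ]

variable (A) in
/-- The generic linear combination of a family. -/
noncomputable def univ (m : ι → M) : MvPolynomial ι A ⊗[A] M := ∑ i, (X i : MvPolynomial ι A) ⊗ₜ[A] m i

variable (A N ι) in
/-- Elements of `A[X_i] ⊗ N` as finitely supported coefficient functions. -/
noncomputable def coeffEquiv : MvPolynomial ι A ⊗[A] N ≃ₗ[A] ((ι →₀ ℕ) →₀ N) :=
  have := Classical.decEq (ι →₀ ℕ)
  TensorProduct.equivFinsuppOfBasisLeft (MvPolynomial.basisMonomials ι A)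

omit [Fintype ι] in
@[simp] lemma coeffEquiv_tmul (p : MvPolynomial ι A) (n : N) (μ : ι →₀ ℕ) :
    coeffEquiv A N ι (p ⊗ₜ[A] n) μ = MvPolynomial.coeff μ p • n := by
  simp [coeffEquiv]
  rfl

omit [Fintype ι] in
lemma coeffEquiv_symm_apply (c : (ι →₀ ℕ) →₀ N) :
    (coeffEquiv A N ι).symm c = c.sum fun μ n => monomial μ (1 : A) ⊗ₜ[A] n := by
  have := Classical.decEq (ι →₀ ℕ)
  simp [coeffEquiv, MvPolynomial.coe_basisMonomials]

/-- The coefficients of a law on a finite family. -/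
noncomputable def coeff (F : M →ₚₗ[A] N) (m : ι → M) : (ι →₀ ℕ) →₀ N :=
  coeffEquiv A N ι (F.toFun' _ (univ A m))

lemma toFun'_univ (F : M →ₚₗ[A] N) (m : ι → M) :
    F.toFun' _ (univ A m) = (coeff F m).sum fun μ c => monomial μ (1 : A) ⊗ₜ[A] c := by
  rw [← coeffEquiv_symm_apply, coeff, LinearEquiv.symm_apply_apply]

lemma toFun'_sum (F : M →ₚₗ[A] N) {S : Type u} [CommSemiring S] [Algebra A S] (s : ι → S)
    (m : ι → M) :
    F.toFun' S (∑ i, s i ⊗ₜ[A] m i) = (coeff F m).sum fun μ c => (∏ i, s i ^ μ i) ⊗ₜ[A] c := by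
  have h := congr_fun (F.isCompat' (MvPolynomial.aeval (R := A) s)) (univ A m)
  simp only [Function.comp_apply] at h
  rw [show (∑ i, s i ⊗ₜ[A] m i) = (MvPolynomial.aeval (R := A) s).toLinearMap.rTensor M (univ A m) by
    simp [univ, map_sum], ← h, toFun'_univ, map_finsuppSum]
  refine Finsupp.sum_congr fun μ _ => ?_
  simp [LinearMap.rTensor_tmul, MvPolynomial.aeval_monomial, Finsupp.prod_pow]

/-- Recognising coefficients. -/
lemma coeff_eq_of_toFun'_univ {F : M →ₚₗ[A] N} {m : ι → M} {α : Type*} [Fintype α]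
    {e : α → (ι →₀ ℕ)} {c : α → N}
    (h : F.toFun' _ (univ A m) = ∑ a, monomial (e a) (1 : A) ⊗ₜ[A] c a) (μ : ι →₀ ℕ)
    [DecidableEq (ι →₀ ℕ)] :
    coeff F m μ = ∑ a with e a = μ, c a := by
  classical
  rw [coeff, h, map_sum, Finsupp.finsetSum_apply, Finset.sum_filter]
  refine Finset.sum_congr rfl fun a _ => ?_
  rw [coeffEquiv_tmul, MvPolynomial.coeff_monomial]
  split_ifs <;> simp

/-- Substituting linear combinations into a family. -/
lemma coeff_linComb (F : M →ₚₗ[A] N) (m : ι → M) (a : κ → ι → A) (ν : κ →₀ ℕ) :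
    coeff F (fun k => ∑ i, a k i • m i) ν =
      (coeff F m).sum fun μ c =>
        MvPolynomial.coeff ν (∏ i, (∑ k, C (a k i) * X k) ^ μ i) • c := by
  have h : univ A (fun k => ∑ i, a k i • m i) =
      ∑ i, (∑ k, C (a k i) * X k : MvPolynomial κ A) ⊗ₜ[A] m i := by
    simp only [univ, TensorProduct.tmul_sum, TensorProduct.sum_tmul]
    rw [Finset.sum_comm]
    refine Finset.sum_congr rfl fun i _ => Finset.sum_congr rfl fun k _ => ?_
    rw [← TensorProduct.smul_tmul, MvPolynomial.C_mul']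
  conv_lhs => rw [coeff, h, toFun'_sum, map_finsuppSum, Finsupp.sum_apply]
  simp only [coeffEquiv_tmul]

lemma toFun'_tmul_eq_sum {S : Type u} [CommSemiring S] [Algebra A S] (x : S ⊗[A] M) :
    ∃ (n : ℕ) (s : Fin n → S) (m : Fin n → M), x = ∑ i, s i ⊗ₜ[A] m i := by
  obtain ⟨t, ht⟩ := TensorProduct.exists_finset x
  refine ⟨t.card, fun i => (t.equivFin.symm i).1.1, fun i => (t.equivFin.symm i).1.2, ?_⟩
  rw [ht, ← Finset.sum_coe_sort]
  exact (Equiv.sum_comp t.equivFin.symm fun p : t => p.1.1 ⊗ₜ[A] p.1.2).symm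

/-- Two laws with the same coefficients are equal. -/
lemma ext_coeff {F G : M →ₚₗ[A] N}
    (h : ∀ (n : ℕ) (m : Fin n → M) (μ : Fin n →₀ ℕ), coeff F m μ = coeff G m μ) : F = G := by
  ext S _ _ x
  obtain ⟨n, s, m, rfl⟩ := toFun'_tmul_eq_sum x
  rw [toFun'_sum, toFun'_sum, Finsupp.ext (h n m)]

lemma coeff_postcomp {P : Type u} [AddCommGroup P] [Module A P] (g : N →ₗ[A] P) (F : M →ₚₗ[A] N)
    (m : ι → M) (μ : ι →₀ ℕ) : coeff (_root_.PolLaw.postcomp g F) m μ = g (coeff F m μ) := by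
  show coeffEquiv A P ι (g.lTensor _ (F.toFun' _ (univ A m))) μ = g (coeffEquiv A N ι _ μ)
  generalize F.toFun' _ (univ A m) = y
  induction y using TensorProduct.induction_on with
  | zero => simp
  | tmul p n => simp
  | add y z hy hz => simp [hy, hz]

lemma coeff_precomp {M' : Type u} [AddCommGroup M'] [Module A M'] (F : M →ₚₗ[A] N) (g : M' →ₗ[A] M)
    (m : ι → M') : coeff (_root_.PolLaw.precomp F g) m = coeff F (g ∘ m) := by
  show coeffEquiv A N ι (F.toFun' _ (g.lTensor _ (univ A m))) = _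
  simp [coeff, univ, map_sum]

/-- Coefficients of a homogeneous law live in that degree. -/
lemma coeff_eq_zero {F : M →ₚₗ[A] N} {d : ℕ} (hF : _root_.PolLaw.IsHomog F d) (m : ι → M)
    {μ : ι →₀ ℕ} (hμ : ∑ i, μ i ≠ d) : coeff F m μ = 0 := by
  classical
  let s : ι → MvPolynomial (Option ι) A := fun i => X none * X (some i)
  have e₁ : (X none : MvPolynomial (Option ι) A) • (∑ i, (X (some i)) ⊗ₜ[A] m i) =
      ∑ i, s i ⊗ₜ[A] m i := by
    simp [Finset.smul_sum, TensorProduct.smul_tmul', s]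
  have h := hF (MvPolynomial (Option ι) A) (X none) (∑ i, (X (some i)) ⊗ₜ[A] m i)
  rw [e₁, toFun'_sum, toFun'_sum, Finsupp.smul_sum] at h
  have hmon : ∀ (ν : ι →₀ ℕ) (e : ℕ),
      (X none : MvPolynomial (Option ι) A) ^ e * ∏ i, X (some i) ^ ν i =
        monomial (ν.optionElim e) 1 := by
    intro ν e
    rw [MvPolynomial.monomial_eq, Finsupp.prod_fintype _ _ fun i => pow_zero _, Fintype.prod_option]
    simp
  have hs : ∀ ν : ι →₀ ℕ, ∏ i, s i ^ ν i = monomial (ν.optionElim (∑ i, ν i)) (1 : A) := by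
    intro ν
    rw [← hmon]
    simp [s, mul_pow, Finset.prod_mul_distrib, Finset.prod_pow_eq_pow_sum]
  simp only [hs, TensorProduct.smul_tmul', smul_eq_mul, hmon] at h
  have h2 := congrArg (fun y => coeffEquiv A N (Option ι) y (μ.optionElim (∑ i, μ i))) h
  simp only [map_finsuppSum, Finsupp.sum_apply, coeffEquiv_tmul, MvPolynomial.coeff_monomial] at h2
  have inj : ∀ (ν : ι →₀ ℕ) (e e' : ℕ), ν.optionElim e = μ.optionElim e' → ν = μ ∧ e = e' := by
    intro ν e e' he
    exact ⟨by ext i; simpa using congrArg (· (some i)) he, by simpa using congrArg (· none) he⟩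
  rw [Finsupp.sum, Finsupp.sum] at h2
  have hL : ∀ ν ∈ (coeff F m).support, ν ≠ μ →
      (if ν.optionElim (∑ i, ν i) = μ.optionElim (∑ i, μ i) then (1 : A) else 0) • coeff F m ν = 0 :=
    fun ν _ hν => by rw [if_neg fun he => hν (inj _ _ _ he).1, zero_smul]
  have hR : ∀ ν ∈ (coeff F m).support,
      (if ν.optionElim d = μ.optionElim (∑ i, μ i) then (1 : A) else 0) • coeff F m ν = 0 := by
    intro ν _
    rw [if_neg fun he => hμ (inj _ _ _ he).2.symm, zero_smul]
  rw [Finset.sum_eq_single μ hL (fun hν => by simp [Finsupp.notMem_support_iff.mp hν]),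
    Finset.sum_eq_zero hR, if_pos rfl, one_smul] at h2
  exact h2

end GrothLib.PolLaw
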