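import Groth.Prelude.Def_PolLaw
import Mathlib.LinearAlgebra.TensorProduct.RightExactness

/-!
# Descending a multiplicative law along a surjection
-/

universe u

open TensorProduct

namespace GrothLib.PolLaw

variable {A : Type u} [CommRing A] {M M' C : Type u} [CommRing M] [Algebra A M] [CommRing M']
  [Algebra A M'] [CommRing C] [Algebra A C] {e : ℕ}

/-- A law constant on the fibres of a surjection `q : M' → M`, as a law on `M`. -/
noncomputable def descendLaw (G : _root_.PolLaw.MulLaw A M' C e) (q : M' →ₐ[A] M)
    (hq : Function.Surjective q)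
    (h : ∀ (S : Type u) [CommSemiring S] [Algebra A S] (x y : S ⊗[A] M'),
      q.toLinearMap.lTensor S x = q.toLinearMap.lTensor S y → G.law.toFun' S x = G.law.toFun' S y) :
    _root_.PolLaw.MulLaw A M C e :=
  have hs : ∀ (S : Type u) [CommSemiring S] [Algebra A S],
      Function.Surjective (q.toLinearMap.lTensor S) := fun S _ _ => LinearMap.lTensor_surjective S hq
  have key : ∀ (S : Type u) [CommSemiring S] [Algebra A S] (x : S ⊗[A] M'),
      G.law.toFun' S (Function.surjInv (hs S) (q.toLinearMap.lTensor S x)) = G.law.toFun' S x :=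
    fun S _ _ x => h S _ _ (Function.surjInv_eq (hs S) _)
  { law :=
    { toFun' := fun S _ _ x => G.law.toFun' S (Function.surjInv (hs S) x)
      isCompat' := fun {S} _ _ {S'} _ _ φ => by
        funext x
        obtain ⟨x, rfl⟩ := hs S x
        have e : φ.toLinearMap.rTensor M (q.toLinearMap.lTensor S x) =
            q.toLinearMap.lTensor S' (φ.toLinearMap.rTensor M' x) := by
          rw [← LinearMap.comp_apply, LinearMap.rTensor_comp_lTensor,
            ← LinearMap.lTensor_comp_rTensor, LinearMap.comp_apply]
        simp only [Function.comp_apply]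
        rw [e, key, key]
        exact congrFun (G.law.isCompat' φ) x }
    homog := fun S _ _ s x => by
      obtain ⟨x, rfl⟩ := hs S x
      have e : s • q.toLinearMap.lTensor S x = q.toLinearMap.lTensor S (s • x) := by
        rw [_root_.PolLaw.lTensor_algHom_apply, _root_.PolLaw.lTensor_algHom_apply, map_smul]
      simp only [e, key]
      exact G.homog S s x
    mult := fun S _ _ => by
      refine ⟨?_, fun x y => ?_⟩
      · have e : (1 : S ⊗[A] M) = q.toLinearMap.lTensor S 1 := by
          rw [_root_.PolLaw.lTensor_algHom_apply, map_one]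
        simp only [e, key]
        exact (G.mult S).1
      · obtain ⟨x, rfl⟩ := hs S x
        obtain ⟨y, rfl⟩ := hs S y
        have e : q.toLinearMap.lTensor S x * q.toLinearMap.lTensor S y =
            q.toLinearMap.lTensor S (x * y) := by
          simp only [_root_.PolLaw.lTensor_algHom_apply, map_mul]
        simp only [e, key]
        exact (G.mult S).2 x y }

lemma descendLaw_toFun' (G : _root_.PolLaw.MulLaw A M' C e) (q : M' →ₐ[A] M)
    (hq : Function.Surjective q)
    (h : ∀ (S : Type u) [CommSemiring S] [Algebra A S] (x y : S ⊗[A] M'),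
      q.toLinearMap.lTensor S x = q.toLinearMap.lTensor S y → G.law.toFun' S x = G.law.toFun' S y)
    (S : Type u) [CommSemiring S] [Algebra A S] (x : S ⊗[A] M') :
    (descendLaw G q hq h).law.toFun' S (q.toLinearMap.lTensor S x) = G.law.toFun' S x :=
  h S _ _ (Function.surjInv_eq (LinearMap.lTensor_surjective S hq) _)

lemma precomp_descendLaw (G : _root_.PolLaw.MulLaw A M' C e) (q : M' →ₐ[A] M)
    (hq : Function.Surjective q)
    (h : ∀ (S : Type u) [CommSemiring S] [Algebra A S] (x y : S ⊗[A] M'),
      q.toLinearMap.lTensor S x = q.toLinearMap.lTensor S y → G.law.toFun' S x = G.law.toFun' S y) :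
    _root_.PolLaw.precomp (descendLaw G q hq h).law q.toLinearMap = G.law := by
  ext S _ _ x
  exact descendLaw_toFun' G q hq h S x

/-- Laws agreeing after a surjection agree. -/
lemma law_ext_of_surjective {P : Type u} [AddCommGroup P] [Module A P] {N N' : Type u} [AddCommGroup N]
    [Module A N] [AddCommGroup N'] [Module A N'] (q : N' →ₗ[A] N) (hq : Function.Surjective q)
    {F G : N →ₚₗ[A] P} (h : _root_.PolLaw.precomp F q = _root_.PolLaw.precomp G q) : F = G := by
  ext S _ _ x
  obtain ⟨x, rfl⟩ := LinearMap.lTensor_surjective S hq x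
  exact congrFun (congrArg (fun L : N' →ₚₗ[A] P => L.toFun' S) h) x

end GrothLib.PolLaw
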