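import Groth.Prelude.Def_PolLaw2
import Mathlib.RingTheory.Spectrum.Prime.FreeLocus
import Mathlib.RingTheory.LocalProperties.Submodule
import Mathlib.LinearAlgebra.Projection

/-!
# The determinant law of a projective module
-/

universe u

open TensorProduct

namespace GrothLib.PolLaw

variable {A B : Type u} [CommRing A] [CommRing B] [Algebra A B]

section Complement

variable (M : Type u) [AddCommGroup M] [Module A M] [Module B M] [IsScalarTower A B M]
  (N : Type u) [AddCommGroup N] [Module A N]

/-- `B × A` acting on `M × N` factor by factor -/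
@[instance_reducible]
def prodModule : Module (B × A) (M × N) where
  smul c z := (c.1 • z.1, c.2 • z.2)
  one_smul z := Prod.ext (one_smul _ _) (one_smul _ _)
  mul_smul c c' z := Prod.ext (mul_smul _ _ _) (mul_smul _ _ _)
  smul_zero c := Prod.ext (smul_zero c.1) (smul_zero c.2)
  smul_add c z z' := Prod.ext (smul_add _ _ _) (smul_add _ _ _)
  add_smul c c' z := Prod.ext (add_smul _ _ _) (add_smul _ _ _)
  zero_smul z := Prod.ext (zero_smul B z.1) (zero_smul A z.2)

attribute [local instance] prodModule

theorem prod_smul_def (c : B × A) (z : M × N) : c • z = (c.1 • z.1, c.2 • z.2) := rfl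

instance prodTower : IsScalarTower A (B × A) (M × N) :=
  ⟨fun a c z => Prod.ext (smul_assoc a c.1 z.1) (smul_assoc a c.2 z.2)⟩

/-- `x ↦ (x, 1)` -/
noncomputable def padOne (S : Type u) [CommSemiring S] [Algebra A S] (x : S ⊗[A] B) : S ⊗[A] (B × A) :=
  (LinearMap.inl A B A).lTensor S x + (1 : S) ⊗ₜ[A] ((0 : B), (1 : A))

theorem padOne_one (S : Type u) [CommSemiring S] [Algebra A S] : padOne S (1 : S ⊗[A] B) = 1 := by
  rw [padOne, Algebra.TensorProduct.one_def, LinearMap.lTensor_tmul, ← TensorProduct.tmul_add,
    show LinearMap.inl A B A 1 + ((0 : B), (1 : A)) = 1 from by ext <;> simp]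
  rfl

theorem padOne_mul (S : Type u) [CommSemiring S] [Algebra A S] (x y : S ⊗[A] B) :
    padOne S (x * y) = padOne S x * padOne S y := by
  have h1 : ∀ a b : S ⊗[A] B, (LinearMap.inl A B A).lTensor S (a * b) =
      (LinearMap.inl A B A).lTensor S a * (LinearMap.inl A B A).lTensor S b := by
    intro a b
    induction a using TensorProduct.induction_on with
    | zero => simp
    | add p q hp hq => simp only [add_mul, map_add, hp, hq]
    | tmul s c =>
      induction b using TensorProduct.induction_on with
      | zero => simp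
      | add p q hp hq => simp only [mul_add, map_add, hp, hq]
      | tmul t c' => simp
  have h2 : ∀ a : S ⊗[A] B, (LinearMap.inl A B A).lTensor S a * (1 : S) ⊗ₜ[A] ((0 : B), (1 : A)) = 0 := by
    intro a
    induction a using TensorProduct.induction_on with
    | zero => simp
    | add p q hp hq => simp only [add_mul, map_add, hp, hq, add_zero]
    | tmul s c => simp [Prod.mk_zero_zero]
  simp only [padOne, add_mul, mul_add, h1]
  rw [h2 x, mul_comm ((1 : S) ⊗ₜ[A] ((0 : B), (1 : A))) _, h2 y]
  simp

theorem padOne_natural {S S' : Type u} [CommSemiring S] [Algebra A S] [CommSemiring S'] [Algebra A S']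
    (φ : S →ₐ[A] S') (x : S ⊗[A] B) :
    φ.toLinearMap.rTensor (B × A) (padOne S x) = padOne S' (φ.toLinearMap.rTensor B x) := by
  rw [padOne, padOne, map_add, LinearMap.rTensor_tmul, AlgHom.toLinearMap_apply, map_one,
    ← LinearMap.comp_apply, LinearMap.rTensor_comp_lTensor, ← LinearMap.lTensor_comp_rTensor,
    LinearMap.comp_apply]

variable [Module.Free A (M × N)] [Module.Finite A (M × N)]

/-- the determinant of `x ⊕ 1` on the free module `M × N` -/
noncomputable def detComplLaw : B →ₚₗ[A] A where
  toFun' S _ _ x := _root_.PolLaw.detFun A (B × A) (M × N) S (padOne S x)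
  isCompat' {S _ _ S' _ _} φ := by
    funext x
    show φ.toLinearMap.rTensor A (_root_.PolLaw.detFun A (B × A) (M × N) S (padOne S x)) = _
    rw [_root_.PolLaw.detFun_compat, padOne_natural]
    rfl

theorem isMult_detComplLaw : _root_.PolLaw.IsMult (detComplLaw (A := A) (B := B) M N) := by
  intro S _ _
  refine ⟨?_, fun x y => ?_⟩
  · show _root_.PolLaw.detFun A (B × A) (M × N) S (padOne S 1) = 1
    rw [padOne_one, _root_.PolLaw.detFun_one]
  · show _root_.PolLaw.detFun A (B × A) (M × N) S (padOne S (x * y)) = _
    rw [padOne_mul, _root_.PolLaw.detFun_mul]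
    rfl

theorem detComplLaw_of_isLocalRing [Module.Finite A M] [Module.Projective A M] [Module.Finite A N]
    [Module.Projective A N] (S : Type u) [CommRing S] [IsLocalRing S] [Algebra A S] (x : S ⊗[A] B) :
    (detComplLaw (A := A) (B := B) M N).toFun' S x = _root_.PolLaw.detAct M S x ⊗ₜ[A] (1 : A) := by
  haveI : Module.Free S (S ⊗[A] M) := Module.free_of_flat_of_isLocalRing
  haveI : Module.Free S (S ⊗[A] N) := Module.free_of_flat_of_isLocalRing
  show _root_.PolLaw.detFun A (B × A) (M × N) S (padOne S x) = _
  rw [_root_.PolLaw.detFun_eq_detAct]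
  congr 1
  rw [_root_.PolLaw.detAct, _root_.PolLaw.detAct,
    ← LinearMap.det_conj (_root_.PolLaw.actEnd (M × N) S (padOne S x)) (TensorProduct.prodRight A S S M N)]
  have h : ((TensorProduct.prodRight A S S M N : S ⊗[A] (M × N) →ₗ[S] (S ⊗[A] M) × (S ⊗[A] N)) ∘ₗ
      _root_.PolLaw.actEnd (M × N) S (padOne S x)) ∘ₗ
      ((TensorProduct.prodRight A S S M N).symm : (S ⊗[A] M) × (S ⊗[A] N) →ₗ[S] S ⊗[A] (M × N)) =
      LinearMap.prodMap (_root_.PolLaw.actEnd M S x) LinearMap.id := by
    have key : ∀ z : S ⊗[A] (M × N),
        TensorProduct.prodRight A S S M N (_root_.PolLaw.actEnd (M × N) S (padOne S x) z) =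
        LinearMap.prodMap (_root_.PolLaw.actEnd M S x) LinearMap.id (TensorProduct.prodRight A S S M N z) := by
      intro z
      induction z using TensorProduct.induction_on with
      | zero => simp; rfl
      | add a b ha hb => simp only [map_add, ha, hb]
      | tmul t m =>
        obtain ⟨m, n⟩ := m
        rw [padOne, map_add, LinearMap.add_apply, map_add, _root_.PolLaw.actEnd_tmul_tmul, prod_smul_def]
        have h3 : TensorProduct.prodRight A S S M N
            (_root_.PolLaw.actEnd (M × N) S ((LinearMap.inl A B A).lTensor S x) (t ⊗ₜ[A] (m, n))) =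
            (_root_.PolLaw.actEnd M S x (t ⊗ₜ[A] m), 0) := by
          induction x using TensorProduct.induction_on with
          | zero => simp; rfl
          | add a b ha hb => simp only [map_add, LinearMap.add_apply, ha, hb, Prod.mk_add_mk, add_zero]
          | tmul s b => simp [prod_smul_def]
        rw [h3]
        simp
    refine LinearMap.ext fun z => ?_
    simp only [LinearMap.comp_apply, LinearEquiv.coe_coe]
    rw [key, LinearEquiv.apply_symm_apply]
  rw [LinearMap.comp_assoc] at h
  rw [h, LinearMap.det_prodMap, LinearMap.det_id, mul_one]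

end Complement

/-- two laws with values in `A` that agree on local rings agree -/
theorem law_ext_of_isLocalRing {F G : B →ₚₗ[A] A}
    (h : ∀ (S : Type u) [CommRing S] [IsLocalRing S] [Algebra A S] (x : S ⊗[A] B),
      F.toFun' S x = G.toFun' S x) : F = G := by
  refine PolynomialLaw.ext ?_
  funext S _ _ x
  letI : CommRing S := { Algebra.semiringToRing A (A := S), ‹CommSemiring S› with }
  refine (Algebra.TensorProduct.rid A A S).injective ?_
  refine Module.eq_of_localization_maximal (R := S) (M := S) (fun P [_] => Localization.AtPrime P)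
    (fun P [_] => Algebra.linearMap S (Localization.AtPrime P)) _ _ fun P _ => ?_
  have hnat : ∀ (φ : S →ₐ[A] Localization.AtPrime P) (z : S ⊗[A] A),
      φ (Algebra.TensorProduct.rid A A S z) =
        Algebra.TensorProduct.rid A A (Localization.AtPrime P) (φ.toLinearMap.rTensor A z) := by
    intro φ z
    induction z using TensorProduct.induction_on with
    | zero => simp
    | add a b ha hb => simp only [map_add, ha, hb]
    | tmul s a => simp
  have hF := hnat (IsScalarTower.toAlgHom A S (Localization.AtPrime P)) (F.toFun' S x)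
  have hG := hnat (IsScalarTower.toAlgHom A S (Localization.AtPrime P)) (G.toFun' S x)
  rw [PolynomialLaw.isCompat_apply'] at hF hG
  rw [h (Localization.AtPrime P)] at hF
  exact hF.trans hG.symm

variable (M : Type u) [AddCommGroup M] [Module A M] [Module B M] [IsScalarTower A B M]

theorem exists_detProjLaw [Module.Finite A M] [Module.Projective A M] :
    ∃ N : B →ₚₗ[A] A, _root_.PolLaw.IsMult N ∧
      ∀ (S : Type u) [CommRing S] [IsLocalRing S] [Algebra A S] (x : S ⊗[A] B),
        N.toFun' S x = _root_.PolLaw.detAct M S x ⊗ₜ[A] (1 : A) := by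
  obtain ⟨n, π, hπ⟩ := Module.Finite.exists_fin' A M
  obtain ⟨s, hs⟩ := Module.projective_lifting_property π LinearMap.id hπ
  let φ : (Fin n → A) →ₗ[A] LinearMap.ker π :=
    (LinearMap.id - s ∘ₗ π).codRestrict _ fun z => by
      rw [LinearMap.mem_ker, LinearMap.sub_apply, map_sub]
      simp only [LinearMap.id_apply, LinearMap.comp_apply]
      rw [← LinearMap.comp_apply π s, hs, LinearMap.id_apply, sub_self]
  let e : (M × LinearMap.ker π) ≃ₗ[A] (Fin n → A) :=
    LinearEquiv.ofLinear (s.coprod (LinearMap.ker π).subtype) (π.prod φ)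
      (by refine LinearMap.ext fun z => ?_; simp [φ])
      (by
        refine LinearMap.ext fun ⟨m, k⟩ => ?_
        have h1 : π (s m) = m := LinearMap.congr_fun hs m
        have h2 : π (k : Fin n → A) = 0 := k.2
        simp [φ, h1, h2]
        refine Subtype.ext ?_
        simp [h1, h2])
  haveI : Module.Free A (M × LinearMap.ker π) := Module.Free.of_equiv e.symm
  haveI : Module.Finite A (M × LinearMap.ker π) := Module.Finite.equiv e.symm
  haveI : Module.Finite A (LinearMap.ker π) :=
    Module.Finite.of_surjective (LinearMap.snd A M (LinearMap.ker π)) Prod.snd_surjective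
  haveI : Module.Projective A (LinearMap.ker π) :=
    Module.Projective.of_split (LinearMap.inr A M (LinearMap.ker π)) (LinearMap.snd A M (LinearMap.ker π))
      (LinearMap.ext fun _ => rfl)
  exact ⟨_, isMult_detComplLaw M (LinearMap.ker π), fun S _ _ _ x =>
    detComplLaw_of_isLocalRing M (LinearMap.ker π) S x⟩

theorem detAct_smul_local [Module.Finite A M] [Module.Projective A M] {d : ℕ}
    (hd : ∀ p : PrimeSpectrum A, Module.rankAtStalk M p = d) {T : Type u} [CommRing T] [IsLocalRing T]
    [Algebra A T] (t : T) (x : T ⊗[A] B) :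
    _root_.PolLaw.detAct M T (t • x) = t ^ d * _root_.PolLaw.detAct M T x := by
  haveI : Module.Free T (T ⊗[A] M) := Module.free_of_flat_of_isLocalRing
  have hr : Module.finrank T (T ⊗[A] M) = d := by
    have h := Module.rankAtStalk_baseChange (R := A) (S := T) (M := M)
      (p := (⟨IsLocalRing.maximalIdeal T, inferInstance⟩ : PrimeSpectrum T))
    rw [hd, Module.rankAtStalk_eq_finrank_of_free] at h
    exact h
  rw [_root_.PolLaw.detAct, _root_.PolLaw.detAct, map_smul, LinearMap.det_smul, hr]

theorem isHomog_of_rankAtStalk [Module.Finite A M] [Module.Projective A M] {N : B →ₚₗ[A] A} {d : ℕ}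
    (hd : ∀ p : PrimeSpectrum A, Module.rankAtStalk M p = d)
    (hN : ∀ (S : Type u) [CommRing S] [IsLocalRing S] [Algebra A S] (x : S ⊗[A] B),
        N.toFun' S x = _root_.PolLaw.detAct M S x ⊗ₜ[A] (1 : A)) :
    _root_.PolLaw.IsHomog N d := by
  intro S _ _ s x
  let F : B →ₚₗ[A] A :=
    { toFun' := fun T _ _ z => N.toFun' T z
      isCompat' := N.isCompat' }
  letI : CommRing S := { Algebra.semiringToRing A (A := S), ‹CommSemiring S› with }
  refine (Algebra.TensorProduct.rid A A S).injective ?_
  refine Module.eq_of_localization_maximal (R := S) (M := S) (fun P [_] => Localization.AtPrime P)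
    (fun P [_] => Algebra.linearMap S (Localization.AtPrime P)) _ _ fun P _ => ?_
  set φ := IsScalarTower.toAlgHom A S (Localization.AtPrime P)
  have hnat : ∀ z : S ⊗[A] A, φ (Algebra.TensorProduct.rid A A S z) =
        Algebra.TensorProduct.rid A A (Localization.AtPrime P) (φ.toLinearMap.rTensor A z) := by
    intro z
    induction z using TensorProduct.induction_on with
    | zero => simp
    | add a b ha hb => simp only [map_add, ha, hb]
    | tmul s a => simp
  have hsm : ∀ (W : Type u) [AddCommGroup W] [Module A W] (t : S) (z : S ⊗[A] W),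
      φ.toLinearMap.rTensor W (t • z) = φ t • φ.toLinearMap.rTensor W z := by
    intro W _ _ t z
    induction z using TensorProduct.induction_on with
    | zero => simp
    | add a b ha hb => simp only [smul_add, map_add, ha, hb]
    | tmul s a => simp [TensorProduct.smul_tmul']
  show φ (Algebra.TensorProduct.rid A A S _) = φ (Algebra.TensorProduct.rid A A S _)
  rw [hnat, hnat, hsm, PolynomialLaw.isCompat_apply', hsm, PolynomialLaw.isCompat_apply',
    hN, hN, detAct_smul_local M hd, TensorProduct.smul_tmul', smul_eq_mul, map_pow]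

end GrothLib.PolLaw
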