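import Groth.Agent.Lib.PolLaw.Coeff
import Mathlib.RingTheory.TensorProduct.Maps
import Mathlib.RingTheory.TensorProduct.MvPolynomial
import Mathlib.RingTheory.PolynomialAlgebra
import Mathlib.LinearAlgebra.TensorProduct.Basis
import Mathlib.RingTheory.Polynomial.Basic
import Mathlib.Algebra.Polynomial.Basis

/-!
# Values of a law with scalar values; kernels
-/

universe u

open TensorProduct

namespace GrothLib.PolLaw

variable {A : Type u} [CommRing A] {B : Type u} [CommRing B] [Algebra A B] {d : ℕ}

/-- The value in `S` of a law `B → A` at a point of `S ⊗ B`. -/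
noncomputable def valS (F : _root_.PolLaw.MulLaw A B A d) (S : Type u) [CommSemiring S] [Algebra A S] :
    S ⊗[A] B →* S where
  toFun y := Algebra.TensorProduct.rid A A S (F.law.toFun' S y)
  map_one' := by rw [(F.mult S).1, map_one]
  map_mul' x y := by rw [(F.mult S).2, map_mul]

lemma valS_apply (F : _root_.PolLaw.MulLaw A B A d) {S : Type u} [CommSemiring S] [Algebra A S]
    (y : S ⊗[A] B) : valS F S y = Algebra.TensorProduct.rid A A S (F.law.toFun' S y) := rfl

lemma toFun'_eq_iff (F : _root_.PolLaw.MulLaw A B A d) {S : Type u} [CommSemiring S] [Algebra A S]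
    {x y : S ⊗[A] B} : F.law.toFun' S x = F.law.toFun' S y ↔ valS F S x = valS F S y :=
  (Algebra.TensorProduct.rid A A S).injective.eq_iff.symm

lemma toFun'_eq_valS_tmul (F : _root_.PolLaw.MulLaw A B A d) {S : Type u} [CommSemiring S]
    [Algebra A S] (y : S ⊗[A] B) : F.law.toFun' S y = valS F S y ⊗ₜ[A] (1 : A) := by
  refine (Algebra.TensorProduct.rid A A S).injective ?_
  rw [Algebra.TensorProduct.rid_tmul, one_smul]
  rfl

lemma map_eq_rTensor {S S' : Type u} [CommSemiring S] [Algebra A S] [CommSemiring S'] [Algebra A S']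
    {W : Type u} [CommRing W] [Algebra A W] (φ : S →ₐ[A] S') (z : S ⊗[A] W) :
    Algebra.TensorProduct.map φ (AlgHom.id A W) z = φ.toLinearMap.rTensor W z := by
  induction z using TensorProduct.induction_on with
  | zero => simp
  | tmul s b => rfl
  | add p q hp hq => simp [hp, hq]

/-- Naturality of the values. -/
lemma valS_map (F : _root_.PolLaw.MulLaw A B A d) {S S' : Type u} [CommSemiring S] [Algebra A S]
    [CommSemiring S'] [Algebra A S'] (φ : S →ₐ[A] S') (y : S ⊗[A] B) :
    valS F S' (Algebra.TensorProduct.map φ (AlgHom.id A B) y) = φ (valS F S y) := by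
  rw [map_eq_rTensor, valS_apply, ← F.law.isCompat_apply' φ y, valS_apply]
  generalize F.law.toFun' S y = z
  induction z using TensorProduct.induction_on with
  | zero => simp
  | tmul s a => simp [map_smul]
  | add p q hp hq => simp [hp, hq]

lemma valS_smul (F : _root_.PolLaw.MulLaw A B A d) {S : Type u} [CommSemiring S] [Algebra A S]
    (s : S) (y : S ⊗[A] B) : valS F S (s • y) = s ^ d * valS F S y := by
  rw [valS_apply, valS_apply, F.homog]
  generalize F.law.toFun' S y = z
  induction z using TensorProduct.induction_on with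
  | zero => simp
  | tmul t a => simp [TensorProduct.smul_tmul', mul_smul_comm]
  | add p q hp hq => rw [smul_add, map_add, map_add, mul_add, hp, hq]

lemma valS_tmul_one (F : _root_.PolLaw.MulLaw A B A d) {S : Type u} [CommSemiring S] [Algebra A S]
    (s : S) : valS F S (s ⊗ₜ[A] (1 : B)) = s ^ d := by
  rw [show s ⊗ₜ[A] (1 : B) = s • (1 : S ⊗[A] B) by simp [Algebra.TensorProduct.one_def, TensorProduct.smul_tmul'],
    valS_smul, map_one, mul_one]

/-- Values at a sum, by coefficients. -/
lemma valS_sum (F : _root_.PolLaw.MulLaw A B A d) {ι : Type} [Fintype ι] {S : Type u} [CommSemiring S]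
    [Algebra A S] (s : ι → S) (m : ι → B) :
    valS F S (∑ i, s i ⊗ₜ[A] m i) = (coeff F.law m).sum fun μ c => c • ∏ i, s i ^ μ i := by
  rw [valS_apply, toFun'_sum, map_finsuppSum]
  exact Finsupp.sum_congr fun μ _ => by simp

section ker

variable (F : _root_.PolLaw.MulLaw A B A d)

lemma mem_kerBC_iff (A' : Type u) [CommRing A'] [Algebra A A'] (b' : A' ⊗[A] B) :
    b' ∈ _root_.PolLaw.kerBC F.law A' ↔
      ∀ (R : Type u) [CommSemiring R] [Algebra A R] [Algebra A' R] [IsScalarTower A A' R]
        (x w : R ⊗[A] B),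
        valS F R (x + w * Algebra.TensorProduct.map (IsScalarTower.toAlgHom A A' R) (AlgHom.id A B) b') =
          valS F R x :=
  ⟨fun h R _ _ _ _ x w => (toFun'_eq_iff F).mp (h R x w),
    fun h R _ _ _ _ x w => (toFun'_eq_iff F).mpr (h R x w)⟩

lemma mem_ker_iff (b : B) :
    b ∈ _root_.PolLaw.ker F.law ↔ ∀ (S : Type u) [CommSemiring S] [Algebra A S] (x w : S ⊗[A] B),
        valS F S (x + w * (1 ⊗ₜ[A] b)) = valS F S x :=
  ⟨fun h S _ _ x w => (toFun'_eq_iff F).mp (h S x w),
    fun h S _ _ x w => (toFun'_eq_iff F).mpr (h S x w)⟩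

lemma mem_ker_iff_one_tmul_mem_kerBC (b : B) :
    b ∈ _root_.PolLaw.ker F.law ↔ (1 : A) ⊗ₜ[A] b ∈ _root_.PolLaw.kerBC F.law A := by
  constructor
  · intro h R _ i₁ i₂ htower x w
    obtain rfl : i₁ = i₂ := @Algebra.algebra_ext _ _ _ _ i₁ i₂ fun a =>
      @IsScalarTower.algebraMap_apply A A R _ _ _ _ i₂ i₁ htower a
    rw [show Algebra.TensorProduct.map (IsScalarTower.toAlgHom A A R) (AlgHom.id A B) ((1 : A) ⊗ₜ[A] b) =
      (1 : R) ⊗ₜ[A] b by simp]
    exact h R x w
  · intro h S _ _ x w
    have := h S x w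
    rwa [show Algebra.TensorProduct.map (IsScalarTower.toAlgHom A A S) (AlgHom.id A B) ((1 : A) ⊗ₜ[A] b) =
      (1 : S) ⊗ₜ[A] b by simp] at this

lemma map_ker_le_kerBC (A' : Type u) [CommRing A'] [Algebra A A'] :
    (_root_.PolLaw.ker F.law).map (Algebra.TensorProduct.includeRight : B →ₐ[A] A' ⊗[A] B) ≤
      _root_.PolLaw.kerBC F.law A' := by
  refine Ideal.map_le_iff_le_comap.mpr fun b hb R _ _ _ _ x w => ?_
  rw [show Algebra.TensorProduct.map (IsScalarTower.toAlgHom A A' R) (AlgHom.id A B)
    ((Algebra.TensorProduct.includeRight : B →ₐ[A] A' ⊗[A] B) b) = (1 : R) ⊗ₜ[A] b by simp]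
  exact hb R x w

/-- The top coefficient of a polynomial in the kernel over `A[X]` is in the kernel. -/
lemma top_mem_ker {n : ℕ} (b : ℕ → B)
    (h : (∑ k ∈ Finset.range (n + 1), (Polynomial.X ^ k : Polynomial A) ⊗ₜ[A] b k) ∈
      _root_.PolLaw.kerBC F.law (Polynomial A)) : b n ∈ _root_.PolLaw.ker F.law := by
  classical
  rw [mem_ker_iff]
  intro S _ _ x w
  -- generic combination `x + ∑ V k • w b k`
  let j : S →ₐ[A] (MvPolynomial (Fin (n + 1)) S) := IsScalarTower.toAlgHom A S (MvPolynomial (Fin (n + 1)) S)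
  let xP := Algebra.TensorProduct.map j (AlgHom.id A B) x
  let wP := Algebra.TensorProduct.map j (AlgHom.id A B) w
  let G : (MvPolynomial (Fin (n + 1)) S) := valS F (MvPolynomial (Fin (n + 1)) S) (xP + wP * ∑ k, (MvPolynomial.X k : (MvPolynomial (Fin (n + 1)) S)) ⊗ₜ[A] b k)
  let σ : (MvPolynomial (Fin (n + 1)) S) →ₐ[S] (MvPolynomial (Fin 2) S) := MvPolynomial.aeval fun k : Fin (n + 1) =>
    MvPolynomial.X 0 * MvPolynomial.X 1 ^ (k : ℕ)
  let jR : S →ₐ[A] (MvPolynomial (Fin 2) S) := IsScalarTower.toAlgHom A S (MvPolynomial (Fin 2) S)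
  have hσj : (σ.restrictScalars A).comp j = jR := AlgHom.ext fun s => σ.commutes s
  let : Algebra (Polynomial A) (MvPolynomial (Fin 2) S) := (Polynomial.aeval (R := A) (MvPolynomial.X 1 : (MvPolynomial (Fin 2) S))).toRingHom.toAlgebra
  have : IsScalarTower A (Polynomial A) (MvPolynomial (Fin 2) S) := IsScalarTower.of_algebraMap_eq fun a =>
    ((Polynomial.aeval (R := A) (MvPolynomial.X 1 : (MvPolynomial (Fin 2) S))).commutes a).symm
  have hG : σ G = jR (valS F S x) := by
    have e := (mem_kerBC_iff F (Polynomial A) _).mp h (MvPolynomial (Fin 2) S) (Algebra.TensorProduct.map jR (AlgHom.id A B) x)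
      (Algebra.TensorProduct.map jR (AlgHom.id A B) w * ((MvPolynomial.X 0 : (MvPolynomial (Fin 2) S)) ⊗ₜ[A] 1))
    rw [valS_map] at e
    rw [← e, show σ G = (σ.restrictScalars A) G from rfl, ← valS_map, map_add, map_mul, map_sum]
    have c : ∀ z, Algebra.TensorProduct.map (σ.restrictScalars A) (AlgHom.id A B)
        (Algebra.TensorProduct.map j (AlgHom.id A B) z) = Algebra.TensorProduct.map jR (AlgHom.id A B) z := by
      intro z
      rw [← AlgHom.comp_apply, ← Algebra.TensorProduct.map_comp, hσj, AlgHom.comp_id]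
    simp only [xP, wP, c, map_sum]
    rw [mul_assoc, Finset.sum_range, Finset.mul_sum _ _ ((MvPolynomial.X 0 : (MvPolynomial (Fin 2) S)) ⊗ₜ[A] (1 : B))]
    congr 3
    refine Finset.sum_congr rfl fun k _ => ?_
    simp [σ, RingHom.algebraMap_toAlgebra]
  -- only the constant coefficient survives along `δ_n`
  have hcoef : ∀ a : ℕ, 0 < a → MvPolynomial.coeff (Finsupp.single (Fin.last n) a) G = 0 := by
    intro a ha
    let e : Fin 2 →₀ ℕ := Finsupp.single 0 a + Finsupp.single 1 (a * n)
    have hmon : ∀ (μ : Fin (n + 1) →₀ ℕ) (c : S), σ (MvPolynomial.monomial μ c) =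
        MvPolynomial.monomial
          (Finsupp.single 0 (∑ k, μ k) + Finsupp.single 1 (∑ k : Fin (n + 1), (k : ℕ) * μ k)) c := by
      intro μ c
      simp only [σ, MvPolynomial.aeval_monomial, mul_pow, ← pow_mul]
      rw [Finsupp.prod_fintype _ _ (fun i => by simp)]
      simp only [Finset.prod_mul_distrib, Finset.prod_pow_eq_pow_sum]
      rw [MvPolynomial.X_pow_eq_monomial, MvPolynomial.X_pow_eq_monomial, MvPolynomial.monomial_mul,
        MvPolynomial.algebraMap_eq, MvPolynomial.C_mul_monomial]
      simp [mul_comm]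
    have e1 : MvPolynomial.coeff e (σ G) = MvPolynomial.coeff (Finsupp.single (Fin.last n) a) G := by
      conv_lhs => rw [G.as_sum, map_sum]
      rw [MvPolynomial.coeff_sum]
      simp only [hmon, MvPolynomial.coeff_monomial]
      rw [Finset.sum_eq_single (Finsupp.single (Fin.last n) a)]
      · rw [if_pos]
        have : ∀ k : Fin (n + 1), (Finsupp.single (Fin.last n) a : Fin (n + 1) →₀ ℕ) k =
            if Fin.last n = k then a else 0 := fun k => Finsupp.single_apply
        simp [this, e, mul_comm]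
      · intro μ _ hμ
        refine if_neg fun he => hμ ?_
        have h0 := congrArg (fun f => f 0) he
        have h1 := congrArg (fun f => f 1) he
        simp [e] at h0 h1
        ext k
        rw [Finsupp.single_apply]
        have hzero : ∀ k : Fin (n + 1), k ≠ Fin.last n → μ k = 0 := by
          intro k hk
          by_contra hne
          have hlt : (k : ℕ) < n := by
            have := k.2
            have : (k : ℕ) ≠ n := fun h => hk (Fin.ext (by simpa using h))
            omega
          have : ∑ k : Fin (n + 1), (k : ℕ) * μ k < ∑ k : Fin (n + 1), n * μ k :=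
            Finset.sum_lt_sum (fun i _ => Nat.mul_le_mul_right _ (Nat.lt_succ_iff.mp i.2))
              ⟨k, Finset.mem_univ k, Nat.mul_lt_mul_of_pos_right hlt (Nat.pos_of_ne_zero hne)⟩
          rw [← Finset.mul_sum, h0, h1, mul_comm] at this
          exact lt_irrefl _ this
        by_cases hk : Fin.last n = k
        · subst hk
          rw [if_pos rfl, ← h0, Finset.sum_eq_single (Fin.last n)]
          · exact fun k _ hk => hzero k hk
          · simp
        · rw [if_neg hk, hzero k (Ne.symm hk)]
      · intro hμ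
        simp [MvPolynomial.notMem_support_iff.mp hμ]
    rw [← e1, hG]
    show MvPolynomial.coeff e (MvPolynomial.C (valS F S x)) = 0
    rw [MvPolynomial.coeff_C, if_neg]
    intro h
    have := congrArg (fun f => f 0) h
    simp [e] at this
    omega
  let ev : (Fin (n + 1) → S) → (MvPolynomial (Fin (n + 1)) S) →ₐ[A] S := fun v => (MvPolynomial.aeval v : (MvPolynomial (Fin (n + 1)) S) →ₐ[S] S).restrictScalars A
  have hj : ∀ v, (ev v).comp j = AlgHom.id A S := fun v =>
    AlgHom.ext fun s => MvPolynomial.aeval_C v s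
  have hev : ∀ v, ev v G = valS F S (x + w * ∑ k, v k ⊗ₜ[A] b k) := by
    intro v
    rw [← valS_map, map_add, map_mul, map_sum]
    have c : ∀ z, Algebra.TensorProduct.map (ev v) (AlgHom.id A B)
        (Algebra.TensorProduct.map j (AlgHom.id A B) z) = z := by
      intro z
      rw [← AlgHom.comp_apply, ← Algebra.TensorProduct.map_comp, hj, AlgHom.comp_id,
        Algebra.TensorProduct.map_id, AlgHom.id_apply]
    simp only [xP, wP, c, map_sum]
    congr 3
    exact Finset.sum_congr rfl fun k _ => by simp [ev]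
  have hδ := hev (Pi.single (Fin.last n) 1)
  have h0 := hev 0
  simp only [Pi.zero_apply, TensorProduct.zero_tmul, Finset.sum_const_zero, mul_zero, add_zero] at h0
  rw [Finset.sum_eq_single (Fin.last n) (fun k _ hk => by
    rw [Pi.single_eq_of_ne hk, TensorProduct.zero_tmul]) (by simp), Pi.single_eq_same] at hδ
  simp only [Fin.val_last] at hδ
  rw [← hδ, ← h0]
  simp only [ev, AlgHom.restrictScalars_apply]
  rw [G.as_sum, map_sum, map_sum]
  refine Finset.sum_congr rfl fun μ _ => ?_
  simp only [MvPolynomial.aeval_monomial, Finsupp.prod_pow]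
  by_cases hμ : μ = 0
  · subst hμ; simp
  · by_cases hk : ∀ k, k ≠ Fin.last n → μ k = 0
    · have hμ' : μ = Finsupp.single (Fin.last n) (μ (Fin.last n)) := by
        ext k
        by_cases h : k = Fin.last n
        · subst h; simp
        · rw [hk k h, Finsupp.single_eq_of_ne h]
      have hpos : 0 < μ (Fin.last n) := Nat.pos_of_ne_zero fun h => hμ (by rw [hμ', h, Finsupp.single_zero])
      rw [hμ', hcoef _ hpos]
      simp
    · push Not at hk
      obtain ⟨k, hk, hne⟩ := hk
      rw [Finset.prod_eq_zero (Finset.mem_univ k), Finset.prod_eq_zero (Finset.mem_univ k)]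
      · simp [hne]
      · simp [Pi.single_eq_of_ne hk, hne]

/-- Over `A[X]` the kernel is extended. -/
theorem kerBC_polynomial_eq :
    _root_.PolLaw.kerBC F.law (Polynomial A) =
      (_root_.PolLaw.ker F.law).map (Algebra.TensorProduct.includeRight : B →ₐ[A] Polynomial A ⊗[A] B) := by
  classical
  refine le_antisymm (fun b' hb' => ?_) (map_ker_le_kerBC F _)
  obtain ⟨n, b, rfl⟩ : ∃ (n : ℕ) (b : ℕ → B),
      b' = ∑ k ∈ Finset.range n, (Polynomial.X ^ k : Polynomial A) ⊗ₜ[A] b k := by
    let E := TensorProduct.equivFinsuppOfBasisLeft (N := B) (Polynomial.basisMonomials A)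
    refine ⟨(E b').support.sup id + 1, fun k => E b' k, ?_⟩
    conv_lhs => rw [← E.symm_apply_apply b']
    rw [TensorProduct.equivFinsuppOfBasisLeft_symm_apply]
    rw [Finsupp.sum_of_support_subset _ (s := Finset.range ((E b').support.sup id + 1))
      (fun k hk => Finset.mem_range.mpr (Nat.lt_succ_of_le (Finset.le_sup (f := id) hk))) _ (by simp)]
    simp [Polynomial.X_pow_eq_monomial]
  induction n with
  | zero => simp
  | succ n ih =>
    have hn := top_mem_ker F b hb'
    have hterm : (Polynomial.X ^ n : Polynomial A) ⊗ₜ[A] b n ∈ (_root_.PolLaw.ker F.law).map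
        (Algebra.TensorProduct.includeRight : B →ₐ[A] Polynomial A ⊗[A] B) := by
      rw [show (Polynomial.X ^ n : Polynomial A) ⊗ₜ[A] b n =
        ((Polynomial.X ^ n : Polynomial A) ⊗ₜ[A] 1) * (Algebra.TensorProduct.includeRight : B →ₐ[A] Polynomial A ⊗[A] B) (b n) by simp]
      exact Ideal.mul_mem_left _ _ (Ideal.mem_map_of_mem _ hn)
    rw [Finset.sum_range_succ] at hb' ⊢
    exact add_mem (ih ((Submodule.add_mem_iff_left _ (map_ker_le_kerBC F _ hterm)).mp hb')) hterm

end ker

end GrothLib.PolLaw
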