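import Mathlib.FieldTheory.IsAlgClosed.Basic
import Mathlib.RingTheory.Ideal.GoingUp
import Mathlib.RingTheory.LocalRing.ResidueField.Instances

/-!
# Extending field valued points along integral extensions
-/

universe u

namespace GrothLib.PolLaw

/-- A point with values in an algebraically closed field extends along an integral extension. -/
theorem exists_extend_point {R T L : Type u} [CommRing R] [CommRing T] [Algebra R T] [Field L]
    [IsAlgClosed L] [Algebra.IsIntegral R T] (hinj : Function.Injective (algebraMap R T)) (f : R →+* L) :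
    ∃ e : T →+* L, e.comp (algebraMap R T) = f := by
  have : (RingHom.ker f).IsPrime := RingHom.ker_isPrime f
  obtain ⟨Q, -, hQp, hQ⟩ := Ideal.exists_ideal_over_prime_of_isIntegral (S := T) (RingHom.ker f) ⊥
    (fun t ht => by
      rw [show t = 0 from hinj (by rw [map_zero]; exact ht)]
      exact zero_mem _)
  have : Q.LiesOver (RingHom.ker f) := ⟨hQ.symm⟩
  let : Algebra (RingHom.ker f).ResidueField Q.ResidueField :=
    (Ideal.ResidueField.map (RingHom.ker f) Q (algebraMap R T) hQ.symm).toAlgebra
  have : IsScalarTower R (RingHom.ker f).ResidueField Q.ResidueField :=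
    IsScalarTower.of_algebraMap_eq fun r => (Ideal.ResidueField.map_algebraMap ..).symm
  have : Algebra.IsIntegral (RingHom.ker f).ResidueField Q.ResidueField := by
    constructor
    intro z
    obtain ⟨a, b, hab, rfl⟩ := IsFractionRing.div_surjective (T ⧸ Q) z
    obtain ⟨a, rfl⟩ := Ideal.Quotient.mk_surjective a
    obtain ⟨b, rfl⟩ := Ideal.Quotient.mk_surjective b
    have h : ∀ t : T, IsIntegral (RingHom.ker f).ResidueField
        (algebraMap (T ⧸ Q) Q.ResidueField (Ideal.Quotient.mk Q t)) := fun t =>
      ((Algebra.IsIntegral.isIntegral (R := R) t).map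
        ((IsScalarTower.toAlgHom R (T ⧸ Q) Q.ResidueField).comp (Ideal.Quotient.mkₐ R Q))).tower_top
    rw [div_eq_mul_inv]
    exact (h a).mul (h b).inv
  let : Algebra (RingHom.ker f).ResidueField L :=
    (Ideal.ResidueField.lift (RingHom.ker f) f le_rfl
      (fun r hr => isUnit_iff_ne_zero.mpr fun h => hr (RingHom.mem_ker.mpr h))).toAlgebra
  let e : Q.ResidueField →ₐ[(RingHom.ker f).ResidueField] L := IsAlgClosed.lift
  refine ⟨e.toRingHom.comp (algebraMap T Q.ResidueField), RingHom.ext fun r => ?_⟩
  show e (algebraMap T Q.ResidueField (algebraMap R T r)) = f r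
  rw [← IsScalarTower.algebraMap_apply R T Q.ResidueField,
    IsScalarTower.algebraMap_apply R (RingHom.ker f).ResidueField Q.ResidueField, e.commutes]
  exact Ideal.ResidueField.lift_algebraMap ..

end GrothLib.PolLaw
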