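import Groth.Agent.Lib.PolLaw.Points
import Mathlib.RingTheory.Spectrum.Prime.Topology
import Mathlib.FieldTheory.IsAlgClosed.AlgebraicClosure
import Mathlib.RingTheory.IntegralClosure.IsIntegral.Basic
import Mathlib.Topology.Connected.Clopen

/-!
# Fibres of the image of a law `B → A` and openness
-/

universe u

open TensorProduct
open Algebra.TensorProduct (includeLeft includeRight productMap)

namespace GrothLib.PolLaw

variable {A : Type u} [CommRing A] {B : Type u} [CommRing B] [Algebra A B] {d : ℕ}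
  (F : _root_.PolLaw.MulLaw A B A d)

theorem isIntegral_image : Algebra.IsIntegral A (_root_.PolLaw.image F.law) := by
  refine ⟨fun z => ?_⟩
  obtain ⟨b, rfl⟩ := Ideal.Quotient.mk_surjective z
  refine ⟨charPoly F A (1 ⊗ₜ[A] b), charPoly_monic F A _, ?_⟩
  have h := aeval_charPoly_mem F A (1 ⊗ₜ[A] b)
  rw [show Polynomial.aeval ((1 : A) ⊗ₜ[A] b) (charPoly F A (1 ⊗ₜ[A] b)) =
    (1 : A) ⊗ₜ[A] Polynomial.aeval b (charPoly F A (1 ⊗ₜ[A] b)) from
      Polynomial.aeval_algHom_apply (includeRight : B →ₐ[A] A ⊗[A] B) b _,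
    ← mem_ker_iff_one_tmul_mem_kerBC] at h
  rw [← Polynomial.aeval_def]
  exact (Polynomial.aeval_algHom_apply (Ideal.Quotient.mkₐ A (_root_.PolLaw.ker F.law)) b _).trans
    (Ideal.Quotient.eq_zero_iff_mem.mpr h)

variable {F}

/-- A point of a law, on the image algebra. -/
noncomputable def HasPoints.bar {L : Type u} [Field L] [Algebra A L] {x : Fin d → (B →ₐ[A] L)}
    (hx : HasPoints F L x) (j : Fin d) : _root_.PolLaw.image F.law →ₐ[A] L :=
  Ideal.Quotient.liftₐ (_root_.PolLaw.ker F.law) (x j) fun _ hb => hx.apply_eq_zero hb j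

lemma HasPoints.bar_mk {L : Type u} [Field L] [Algebra A L] {x : Fin d → (B →ₐ[A] L)}
    (hx : HasPoints F L x) (j : Fin d) (b : B) :
    hx.bar j (Ideal.Quotient.mk (_root_.PolLaw.ker F.law) b) = x j b :=
  rfl

variable {A' : Type u} [CommRing A'] [Algebra A A']

/-- Every prime over the kernel of a geometric point comes from one of the points. -/
theorem HasPoints.exists_prime_eq {L : Type u} [Field L] [IsAlgClosed L] [Algebra A L]
    {x : Fin d → (B →ₐ[A] L)} (hx : HasPoints F L x) (ρ : A' →ₐ[A] L)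
    (P : Ideal (A' ⊗[A] _root_.PolLaw.image F.law)) [P.IsPrime]
    (hP : P.comap (algebraMap A' (A' ⊗[A] _root_.PolLaw.image F.law)) = RingHom.ker ρ) :
    ∃ j, P = RingHom.ker (productMap ρ (hx.bar j)) := by
  have := isIntegral_image F
  have : P.LiesOver (RingHom.ker ρ.toRingHom) := ⟨hP.symm⟩
  have : (RingHom.ker ρ.toRingHom).IsPrime := RingHom.ker_isPrime _
  let : CommRing ((A' ⊗[A] _root_.PolLaw.image F.law) ⧸ P) := Ideal.Quotient.commRing P
  let : Algebra (A' ⧸ RingHom.ker ρ.toRingHom) ((A' ⊗[A] _root_.PolLaw.image F.law) ⧸ P) :=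
    Ideal.Quotient.algebraOfLiesOver P (RingHom.ker ρ.toRingHom)
  have hR : Function.Injective (algebraMap (A' ⧸ RingHom.ker ρ.toRingHom)
      ((A' ⊗[A] _root_.PolLaw.image F.law) ⧸ P)) := by
    rw [injective_iff_map_eq_zero]
    intro a ha
    obtain ⟨a, rfl⟩ := Ideal.Quotient.mk_surjective a
    rw [Ideal.Quotient.eq_zero_iff_mem]
    exact hP.le ((Ideal.Quotient.eq_zero_iff_mem (I := P)).mp ha)
  have : Algebra.IsIntegral (A' ⧸ RingHom.ker ρ.toRingHom) ((A' ⊗[A] _root_.PolLaw.image F.law) ⧸ P) :=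
    ⟨fun z => (Algebra.IsIntegral.isIntegral (R := A') z).tower_top⟩
  obtain ⟨e, he⟩ := exists_extend_point hR (RingHom.kerLift ρ.toRingHom)
  have heinj : Function.Injective e := by
    rw [injective_iff_map_eq_zero]
    intro z hz
    have h : (RingHom.ker e) = ⊥ := by
      have : (RingHom.ker e).IsPrime := RingHom.ker_isPrime e
      refine Ideal.eq_bot_of_comap_eq_bot (R := A' ⧸ RingHom.ker ρ.toRingHom) ?_
      rw [RingHom.comap_ker, he, (RingHom.injective_iff_ker_eq_bot _).mp (RingHom.kerLift_injective _)]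
    rw [← RingHom.mem_ker, h] at hz
    exact hz
  have he' : ∀ a : A', e (Ideal.Quotient.mk P (algebraMap A' _ a)) = ρ a := fun a =>
    RingHom.congr_fun he (Ideal.Quotient.mk _ a)
  let Ψ : A' ⊗[A] _root_.PolLaw.image F.law →ₐ[A] L :=
    { e.comp (Ideal.Quotient.mk P) with
      commutes' := fun a => (congrArg (fun t => e (Ideal.Quotient.mk P t))
        (IsScalarTower.algebraMap_apply A A' (A' ⊗[A] _root_.PolLaw.image F.law) a)).trans
          ((he' _).trans (ρ.commutes a)) }
  let x₀ : B →ₐ[A] L := Ψ.comp (includeRight.comp (Ideal.Quotient.mkₐ A (_root_.PolLaw.ker F.law)))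
  obtain ⟨j, hj⟩ := hx.exists_eq x₀ fun b hb => by
    simp [x₀, Ideal.Quotient.eq_zero_iff_mem.mpr hb]
  refine ⟨j, ?_⟩
  have hΨ : Ψ = productMap ρ (hx.bar j) := by
    refine Algebra.TensorProduct.ext (AlgHom.ext fun a => ?_) (AlgHom.ext fun z => ?_)
    · show Ψ (a ⊗ₜ[A] 1) = productMap ρ (hx.bar j) (a ⊗ₜ[A] 1)
      rw [Algebra.TensorProduct.productMap_apply_tmul, map_one, mul_one]
      exact he' a
    · obtain ⟨b, rfl⟩ := Ideal.Quotient.mk_surjective z
      have := AlgHom.congr_fun hj b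
      simpa [hx.bar_mk j b] using! this
  rw [← hΨ]
  ext z
  rw [RingHom.mem_ker, ← Ideal.Quotient.eq_zero_iff_mem, ← map_eq_zero_iff e heinj]
  rfl

variable (F) in
/-- The image of a basic open set of `A' ⊗ B/ker F` is the union of the `D(cᵢ)` of the coefficients. -/
theorem comap_image_basicOpen (b' : A' ⊗[A] B) :
    PrimeSpectrum.comap (algebraMap A' (A' ⊗[A] _root_.PolLaw.image F.law)) ''
        PrimeSpectrum.basicOpen (Algebra.TensorProduct.map (AlgHom.id A A')
          (Ideal.Quotient.mkₐ A (_root_.PolLaw.ker F.law)) b') =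
      {p | (charPoly F A' b').map (algebraMap A' p.asIdeal.ResidueField) ≠ Polynomial.X ^ d} := by
  ext p
  let L := AlgebraicClosure p.asIdeal.ResidueField
  obtain ⟨x, hx⟩ := exists_points F L
  let ρ : A' →ₐ[A] L := IsScalarTower.toAlgHom A A' L
  have hρ : RingHom.ker ρ = p.asIdeal := by
    ext a
    show algebraMap A' L a = 0 ↔ _
    rw [IsScalarTower.algebraMap_apply A' p.asIdeal.ResidueField L, map_eq_zero_iff _ (RingHom.injective _),
      Ideal.algebraMap_residueField_eq_zero]
  let z := Algebra.TensorProduct.map (AlgHom.id A A') (Ideal.Quotient.mkₐ A (_root_.PolLaw.ker F.law)) b'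
  let r : Fin d → L := fun j => productMap ρ (x j) b'
  have hr : ∀ j, productMap ρ (hx.bar j) z = r j := by
    intro j
    simp only [z, r]
    induction b' using TensorProduct.induction_on with
    | zero => simp
    | tmul a b => simp [hx.bar_mk]
    | add p q hp hq => simp only [map_add, hp, hq]
  have hprod : ((charPoly F A' b').map (algebraMap A' p.asIdeal.ResidueField)).map
      (algebraMap p.asIdeal.ResidueField L) = ∏ j, (Polynomial.X - Polynomial.C (r j)) := by
    rw [Polynomial.map_map, ← IsScalarTower.algebraMap_eq]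
    simpa [r] using! hx.charPoly_map ρ (AlgHom.id A L) b'
  have key : (charPoly F A' b').map (algebraMap A' p.asIdeal.ResidueField) = Polynomial.X ^ d ↔
      ∀ j, r j = 0 := by
    constructor
    · intro h j
      rw [h, Polynomial.map_pow, Polynomial.map_X] at hprod
      have h2 := congrArg (Polynomial.eval (r j)) hprod
      rw [Polynomial.eval_pow, Polynomial.eval_X, Polynomial.eval_prod,
        Finset.prod_eq_zero (Finset.mem_univ j) (by simp)] at h2
      exact pow_eq_zero_iff (Nat.pos_iff_ne_zero.mp (Fin.pos j)) |>.mp h2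
    · intro h
      refine Polynomial.map_injective _ (algebraMap p.asIdeal.ResidueField L).injective ?_
      rw [hprod, Polynomial.map_pow, Polynomial.map_X]
      simp [h]
  rw [Set.mem_ofPred_eq, Ne, key]
  constructor
  · rintro ⟨P, hP, rfl⟩ hall
    obtain ⟨j, hj⟩ := hx.exists_prime_eq ρ P.asIdeal hρ.symm
    refine hP ?_
    rw [hj, RingHom.mem_ker]
    exact (hr j).trans (hall j)
  · intro h
    push Not at h
    obtain ⟨j, hj⟩ := h
    refine ⟨⟨RingHom.ker (productMap ρ (hx.bar j)), RingHom.ker_isPrime _⟩, ?_, PrimeSpectrum.ext ?_⟩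
    · show z ∉ RingHom.ker (productMap ρ (hx.bar j))
      rw [RingHom.mem_ker, hr]
      exact hj
    · refine Eq.trans ?_ hρ
      ext a
      simp [PrimeSpectrum.comap_asIdeal, RingHom.mem_ker]

variable (F) in
theorem isOpenMap_comap (A' : Type u) [CommRing A'] [Algebra A A'] :
    IsOpenMap (PrimeSpectrum.comap (algebraMap A' (A' ⊗[A] _root_.PolLaw.image F.law))) := by
  classical
  rw [PrimeSpectrum.isTopologicalBasis_basic_opens.isOpenMap_iff]
  rintro - ⟨z, rfl⟩
  obtain ⟨b', rfl⟩ : ∃ b', Algebra.TensorProduct.map (AlgHom.id A A')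
      (Ideal.Quotient.mkₐ A (_root_.PolLaw.ker F.law)) b' = z :=
    LinearMap.lTensor_surjective A' (g := (Ideal.Quotient.mkₐ A (_root_.PolLaw.ker F.law)).toLinearMap)
      Ideal.Quotient.mk_surjective z
  rw [comap_image_basicOpen F b']
  have : {p : PrimeSpectrum A' | (charPoly F A' b').map (algebraMap A' p.asIdeal.ResidueField) ≠ Polynomial.X ^ d} =
      ⋃ n, (PrimeSpectrum.basicOpen ((charPoly F A' b' - Polynomial.X ^ d).coeff n) : Set (PrimeSpectrum A')) := by
    ext p
    simp only [Set.mem_ofPred_eq, Set.mem_iUnion, SetLike.mem_coe, PrimeSpectrum.mem_basicOpen, Ne,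
      Polynomial.ext_iff, not_forall]
    refine exists_congr fun n => ?_
    rw [← Ideal.algebraMap_residueField_eq_zero, Polynomial.coeff_sub, map_sub, sub_eq_zero,
      Polynomial.coeff_map, Polynomial.coeff_X_pow, Polynomial.coeff_X_pow]
    split_ifs <;> simp
  rw [this]
  exact isOpen_iUnion fun n => PrimeSpectrum.isOpen_basicOpen

variable (F) in
/-- At most `d` primes over a point. -/
theorem fibre_card_le (p : PrimeSpectrum A') :
    ∃ f : Fin d → PrimeSpectrum (A' ⊗[A] _root_.PolLaw.image F.law),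
      ∀ P, PrimeSpectrum.comap (algebraMap A' (A' ⊗[A] _root_.PolLaw.image F.law)) P = p → ∃ j, f j = P := by
  let L := AlgebraicClosure p.asIdeal.ResidueField
  obtain ⟨x, hx⟩ := exists_points F L
  let ρ : A' →ₐ[A] L := IsScalarTower.toAlgHom A A' L
  have hρ : RingHom.ker ρ = p.asIdeal := by
    ext a
    show algebraMap A' L a = 0 ↔ _
    rw [IsScalarTower.algebraMap_apply A' p.asIdeal.ResidueField L, map_eq_zero_iff _ (RingHom.injective _),
      Ideal.algebraMap_residueField_eq_zero]
  refine ⟨fun j => ⟨RingHom.ker (productMap ρ (hx.bar j)), RingHom.ker_isPrime _⟩, fun P hP => ?_⟩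
  obtain ⟨j, hj⟩ := hx.exists_prime_eq ρ P.asIdeal
    ((congrArg PrimeSpectrum.asIdeal hP).trans hρ.symm)
  exact ⟨j, PrimeSpectrum.ext hj.symm⟩

variable (F) in
theorem generalizingMap_comap (A' : Type u) [CommRing A'] [Algebra A A'] :
    GeneralizingMap (PrimeSpectrum.comap (algebraMap A' (A' ⊗[A] _root_.PolLaw.image F.law))) := by
  classical
  intro P q hq
  obtain ⟨f, hf⟩ := fibre_card_le F q
  by_contra hcon
  push Not at hcon
  let S := Finset.univ.filter fun j : Fin d =>
    PrimeSpectrum.comap (algebraMap A' (A' ⊗[A] _root_.PolLaw.image F.law)) (f j) = q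
  have hz : ∀ j, ∃ z, z ∉ P.asIdeal ∧ (j ∈ S → z ∈ (f j).asIdeal) := by
    intro j
    by_cases hj : j ∈ S
    · have hle : ¬ (f j).asIdeal ≤ P.asIdeal := fun h =>
        hcon (f j) ((PrimeSpectrum.le_iff_specializes _ _).mp h) (Finset.mem_filter.mp hj).2
      obtain ⟨z, h1, h2⟩ := SetLike.not_le_iff_exists.mp hle
      exact ⟨z, h2, fun _ => h1⟩
    · exact ⟨1, P.asIdeal.one_notMem, fun h => absurd h hj⟩
  choose z hz1 hz2 using hz
  have hPz : P ∈ PrimeSpectrum.basicOpen (∏ j, z j) := fun h => by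
    obtain ⟨j, -, hj⟩ := (Ideal.IsPrime.prod_mem_iff).mp h
    exact hz1 j hj
  obtain ⟨Q, hQ, hQq⟩ := (isOpenMap_comap F A' _ PrimeSpectrum.isOpen_basicOpen).stableUnderGeneralization hq
    ⟨P, hPz, rfl⟩
  obtain ⟨j, rfl⟩ := hf Q hQq
  exact hQ (Ideal.prod_mem _ (Finset.mem_univ j) (hz2 j (Finset.mem_filter.mpr ⟨Finset.mem_univ _, hQq⟩)))

/-- In a space where clopens are determined by `d` points there are at most `d` components. -/
lemma card_connectedComponents_le {X : Type u} [TopologicalSpace X] (f : Fin d → X)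
    (h : ∀ U : Set X, IsClopen U → U.Nonempty → ∃ j, f j ∈ U) :
    Finite (ConnectedComponents X) ∧ Nat.card (ConnectedComponents X) ≤ d := by
  classical
  have hinj : ∀ U V : Set X, IsClopen U → IsClopen V → (∀ j, f j ∈ U ↔ f j ∈ V) → U ⊆ V := by
    intro U V hU hV hUV x hx
    by_contra hx'
    obtain ⟨j, hj, hj'⟩ := h (U \ V) (hU.diff hV) ⟨x, hx, hx'⟩
    exact hj' ((hUV j).mp hj)
  have hfin : {U : Set X | IsClopen U}.Finite := by
    refine Set.Finite.of_injOn (f := fun U : Set X => Finset.univ.filter fun j => f j ∈ U)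
      (t := (Set.univ : Set (Finset (Fin d)))) (fun _ _ => Set.mem_univ _) (fun U hU V hV hUV => ?_)
      Set.finite_univ
    simp only [Finset.ext_iff, Finset.mem_filter, Finset.mem_univ, true_and] at hUV
    exact (hinj U V hU hV hUV).antisymm (hinj V U hV hU fun j => (hUV j).symm)
  have hsurj : Function.Surjective fun j => (ConnectedComponents.mk (f j) : ConnectedComponents X) := by
    intro c
    obtain ⟨x, rfl⟩ := ConnectedComponents.surjective_coe c
    let U : Set X := ⋂ W ∈ {W : Set X | IsClopen W ∧ x ∈ W}, W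
    have hW : {W : Set X | IsClopen W ∧ x ∈ W}.Finite := hfin.subset fun W hW => hW.1
    have hU : IsClopen U := hW.isClopen_biInter fun W hW => hW.1
    have hxU : x ∈ U := Set.mem_iInter₂.mpr fun W hW => hW.2
    have hconn : IsPreconnected U := by
      rw [isPreconnected_iff_subset_of_disjoint]
      intro u v hu hv huv hdisj
      have hmin : ∀ W, IsClopen W → x ∈ W → U ⊆ W := fun W h1 h2 => Set.biInter_subset_of_mem ⟨h1, h2⟩
      have hclop : ∀ u v : Set X, IsOpen u → IsOpen v → U ⊆ u ∪ v → U ∩ (u ∩ v) = ∅ → IsClopen (U ∩ u) := by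
        intro u v hu hv huv hdisj
        refine ⟨?_, hU.isOpen.inter hu⟩
        have : U ∩ u = U ∩ vᶜ := by
          ext y
          exact ⟨fun hy => ⟨hy.1, fun hv' => (Set.eq_empty_iff_forall_notMem.mp hdisj y) ⟨hy.1, hy.2, hv'⟩⟩,
            fun hy => ⟨hy.1, (huv hy.1).resolve_right hy.2⟩⟩
        rw [this]
        exact hU.isClosed.inter hv.isClosed_compl
      rcases huv hxU with hx | hx
      · exact Or.inl fun y hy => (hmin _ (hclop u v hu hv huv hdisj) ⟨hxU, hx⟩ hy).2
      · refine Or.inr fun y hy => (hmin _ (hclop v u hv hu ?_ ?_) ⟨hxU, hx⟩ hy).2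
        · rwa [Set.union_comm]
        · rwa [Set.inter_comm v u]
    obtain ⟨j, hj⟩ := h U hU ⟨x, hxU⟩
    exact ⟨j, ConnectedComponents.coe_eq_coe'.mpr (hconn.subset_connectedComponent hxU hj)⟩
  have := Finite.of_surjective _ hsurj
  exact ⟨this, (Nat.card_le_card_of_surjective _ hsurj).trans (by simp)⟩

end GrothLib.PolLaw
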