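import Groth.Agent.Lib.PolLaw.Sym
import Mathlib.LinearAlgebra.PiTensorProduct.Basis
import Mathlib.RingTheory.Nilpotent.Lemmas
import Mathlib.LinearAlgebra.TensorProduct.Basis

/-!
# Divided powers over a field: `K ⊗ Γ^d B` inside `⨂^d_K (K ⊗ B)`, and reducedness
-/

universe u

open TensorProduct

namespace GrothLib.PolLaw

open MvPolynomial (X C monomial)

variable {A : Type u} [CommRing A]

section Transform

variable {M N : Type u} [AddCommGroup M] [Module A M] [AddCommGroup N] [Module A N]
  {K : Type u} [CommRing K] [Algebra A K]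

/-- Coefficients on a family that is a `K`-combination of another one after base change to `K`. -/
lemma tmul_coeff_mem_span {ι κ : Type} [Fintype ι] [Fintype κ] (F : M →ₚₗ[A] N) (b : ι → M)
    (m : κ → M) (k : κ → ι → K) (h : ∀ l, (1 : K) ⊗ₜ[A] m l = ∑ i, k l i • ((1 : K) ⊗ₜ[A] b i))
    (μ : κ →₀ ℕ) :
    (1 : K) ⊗ₜ[A] coeff F m μ ∈
      Submodule.span K (Set.range fun ν : ι →₀ ℕ => (1 : K) ⊗ₜ[A] coeff F b ν) := by
  classical
  let s : ι → MvPolynomial κ K := fun i => ∑ l, C (k l i) * X l
  let ψ : κ → K ⊗[A] M →ₗ[A] MvPolynomial κ K ⊗[A] M := fun l =>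
    LinearMap.rTensor M (((MvPolynomial.monomial (Finsupp.single l 1) : K →ₗ[K] MvPolynomial κ K)).restrictScalars A)
  have e : ∑ l, (X l : MvPolynomial κ K) ⊗ₜ[A] m l = ∑ i, s i ⊗ₜ[A] b i := by
    have hl : ∀ l, (X l : MvPolynomial κ K) ⊗ₜ[A] m l = ∑ i, (C (k l i) * X l) ⊗ₜ[A] b i := by
      intro l
      have := congrArg (ψ l) (h l)
      simpa [ψ, map_sum, TensorProduct.smul_tmul', MvPolynomial.C_mul_X_eq_monomial,
        show (X l : MvPolynomial κ K) = monomial (Finsupp.single l 1) 1 from rfl, MvPolynomial.C_mul_monomial] using this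
    simp only [hl, s, TensorProduct.sum_tmul]
    exact Finset.sum_comm
  have e₂ := congrArg (F.toFun' (MvPolynomial κ K)) e
  rw [toFun'_sum, toFun'_sum] at e₂
  have e₃ := congrArg (LinearMap.rTensor N ((MvPolynomial.lcoeff K μ).restrictScalars A)) e₂
  simp only [map_finsuppSum, LinearMap.rTensor_tmul, LinearMap.coe_restrictScalars,
    MvPolynomial.lcoeff_apply] at e₃
  have hmon : ∀ ν : κ →₀ ℕ, (∏ i, (X i : MvPolynomial κ K) ^ ν i) = monomial ν 1 := by
    intro ν
    rw [MvPolynomial.monomial_eq, Finsupp.prod_fintype _ _ fun i => pow_zero _]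
    simp
  simp only [hmon, MvPolynomial.coeff_monomial] at e₃
  rw [Finsupp.sum, Finset.sum_eq_single μ (fun ν _ hν => by rw [if_neg hν, TensorProduct.zero_tmul])
    (fun hμ => by rw [Finsupp.notMem_support_iff.mp hμ, TensorProduct.tmul_zero]), if_pos rfl] at e₃
  rw [e₃]
  refine Submodule.sum_mem _ fun ν _ => ?_
  show MvPolynomial.coeff μ (∏ i, s i ^ ν i) ⊗ₜ[A] coeff F b ν ∈ _
  rw [← mul_one (MvPolynomial.coeff μ _), ← smul_eq_mul, ← TensorProduct.smul_tmul']
  exact Submodule.smul_mem _ _ (Submodule.subset_span ⟨ν, rfl⟩)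

end Transform

section Embed

variable (A) (B : Type u) [CommRing B] [Algebra A B] (d : ℕ) (K : Type u) [CommRing K] [Algebra A K]

/-- The canonical map from the tensor power over `A` to the tensor power of the base change. -/
noncomputable def toBCPow : (⨂[A] _ : Fin d, B) →ₐ[A] ⨂[K] _ : Fin d, (K ⊗[A] B) :=
  PiTensorProduct.liftAlgHom
    (((PiTensorProduct.tprod K (s := fun _ : Fin d => K ⊗[A] B)).restrictScalars A).compLinearMap
      fun _ => (Algebra.TensorProduct.includeRight : B →ₐ[A] K ⊗[A] B).toLinearMap)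
    (by simp [PiTensorProduct.one_def, Algebra.TensorProduct.one_def]; rfl)
    (by
      intro x y
      simp only [MultilinearMap.compLinearMap_apply, MultilinearMap.coe_restrictScalars,
        AlgHom.toLinearMap_apply, Pi.mul_apply, map_mul]
      exact (PiTensorProduct.tprod_mul_tprod _ _).symm)

@[simp]
lemma toBCPow_tprod (f : Fin d → B) :
    toBCPow A B d K (PiTensorProduct.tprod A f) =
      PiTensorProduct.tprod K (fun l => (1 : K) ⊗ₜ[A] f l) := by
  simp [toBCPow]

variable {A B d}
variable {C : Type u} [CommRing C] [Algebra A C]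

/-- The base change of a map into symmetric tensors. -/
noncomputable def bcPow (f : C →ₐ[A] SymTen.TS A B d) : K ⊗[A] C →ₐ[K] ⨂[K] _ : Fin d, (K ⊗[A] B) :=
  Algebra.TensorProduct.lift (Algebra.ofId K _)
    ((toBCPow A B d K).comp ((SymTen.TS A B d).val.comp f)) fun _ _ => Commute.all _ _

end Embed

/-- Over a field, `K ⊗ Γ^d_A(B)` embeds into the tensor power of `K ⊗ B`. -/
theorem exists_injective_bcPow {B : Type u} [CommRing B] [Algebra A B] {C : Type u} [CommRing C]
    [Algebra A C] {d : ℕ} (γ : _root_.PolLaw.MulLaw A B C d) (hγ : _root_.PolLaw.IsGammaD γ)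
    (K : Type u) [Field K] [Algebra A K] :
    ∃ φ : K ⊗[A] C →ₐ[K] ⨂[K] _ : Fin d, (K ⊗[A] B), Function.Injective φ := by
  classical
  obtain ⟨f, hf, -⟩ := hγ (SymTen.TS A B d) (symLaw A B d)
  refine ⟨bcPow K f, (injective_iff_map_eq_zero _).mpr fun z hz => ?_⟩
  obtain ⟨J₀, hJsub, hJspan, hJli⟩ :=
    exists_linearIndependent K (Set.range fun b : B => (1 : K) ⊗ₜ[A] b)
  choose c hc using fun j : J₀ => hJsub j.2
  have htop : Submodule.span K (Set.range fun b : B => (1 : K) ⊗ₜ[A] b) = ⊤ :=
    top_le_iff.mp fun x _ => by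
      induction x using TensorProduct.induction_on with
      | zero => exact zero_mem _
      | add x y hx hy => exact add_mem (hx trivial) (hy trivial)
      | tmul a b =>
        rw [← mul_one a, ← smul_eq_mul, ← TensorProduct.smul_tmul']
        exact Submodule.smul_mem _ _ (Submodule.subset_span ⟨b, rfl⟩)
  let e : Module.Basis J₀ K (K ⊗[A] B) := Module.Basis.mk hJli (by rw [Subtype.range_coe, hJspan, htop])
  have he : ∀ j, e j = (1 : K) ⊗ₜ[A] c j := fun j => by rw [Module.Basis.mk_apply]; exact (hc j).symm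
  let W : Finset J₀ → Submodule K (K ⊗[A] C) := fun t =>
    Submodule.span K (Set.range fun ν : Fin t.card →₀ ℕ =>
      (1 : K) ⊗ₜ[A] coeff γ.law (fun i => c (t.equivFin.symm i)) ν)
  have hW : ∃ s : Finset J₀, ∀ t, s ⊆ t → z ∈ W t := by
    clear hz
    induction z using TensorProduct.induction_on with
    | zero => exact ⟨∅, fun t _ => zero_mem _⟩
    | add x y hx hy =>
      obtain ⟨s₁, h₁⟩ := hx
      obtain ⟨s₂, h₂⟩ := hy
      exact ⟨s₁ ∪ s₂, fun t ht => add_mem (h₁ t (Finset.union_subset_left ht))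
        (h₂ t (Finset.union_subset_right ht))⟩
    | tmul a x =>
      suffices h : ∃ s : Finset J₀, ∀ t, s ⊆ t → (1 : K) ⊗ₜ[A] x ∈ W t by
        obtain ⟨s, hs⟩ := h
        refine ⟨s, fun t ht => ?_⟩
        rw [← mul_one a, ← smul_eq_mul, ← TensorProduct.smul_tmul']
        exact Submodule.smul_mem _ _ (hs t ht)
      have hx : x ∈ coeffSpan γ.law := by rw [coeffSpan_eq_top hγ]; trivial
      induction hx using Submodule.span_induction with
      | zero => exact ⟨∅, fun t _ => by simp⟩
      | add x y _ _ hx hy =>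
        obtain ⟨s₁, h₁⟩ := hx
        obtain ⟨s₂, h₂⟩ := hy
        exact ⟨s₁ ∪ s₂, fun t ht => by
          rw [TensorProduct.tmul_add]
          exact add_mem (h₁ t (Finset.union_subset_left ht)) (h₂ t (Finset.union_subset_right ht))⟩
      | smul r x _ hx =>
        obtain ⟨s, hs⟩ := hx
        exact ⟨s, fun t ht => by
          rw [TensorProduct.tmul_smul, ← algebraMap_smul K r]
          exact Submodule.smul_mem _ _ (hs t ht)⟩
      | mem x hx =>
        obtain ⟨n, m, μ, rfl⟩ := hx
        refine ⟨Finset.univ.biUnion fun l => (e.repr ((1 : K) ⊗ₜ[A] m l)).support, fun t ht => ?_⟩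
        refine tmul_coeff_mem_span γ.law _ m
          (fun l i => e.repr ((1 : K) ⊗ₜ[A] m l) (t.equivFin.symm i)) (fun l => ?_) μ
        have hsub : (e.repr ((1 : K) ⊗ₜ[A] m l)).support ⊆ t := fun j hj =>
          ht (Finset.mem_biUnion.mpr ⟨l, Finset.mem_univ _, hj⟩)
        rw [Equiv.sum_comp t.equivFin.symm
          fun j : t => e.repr ((1 : K) ⊗ₜ[A] m l) j • ((1 : K) ⊗ₜ[A] c j),
          Finset.sum_coe_sort t fun j => e.repr ((1 : K) ⊗ₜ[A] m l) j • ((1 : K) ⊗ₜ[A] c j)]
        conv_lhs => rw [← e.linearCombination_repr ((1 : K) ⊗ₜ[A] m l),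
          Finsupp.linearCombination_apply, Finsupp.sum_of_support_subset _ hsub _ (by simp)]
        simp only [he]
  obtain ⟨t, ht⟩ := hW
  let g : Fin t.card → J₀ := fun i => t.equivFin.symm i
  have hg : Function.Injective g := Subtype.val_injective.comp t.equivFin.symm.injective
  obtain ⟨lam, hlam⟩ := Finsupp.mem_span_range_iff_exists_finsupp.mp (ht t subset_rfl)
  have hlam' : (lam.sum fun ν a => a • ((1 : K) ⊗ₜ[A] coeff γ.law (fun i => c (g i)) ν)) = z := hlam
  let E := Basis.piTensorProduct fun _ : Fin d => e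
  have himg : ∀ ν, bcPow K f ((1 : K) ⊗ₜ[A] coeff γ.law (fun i => c (g i)) ν) =
      ∑ p : Fin d → Fin t.card with pat p = ν, E (g ∘ p) := by
    intro ν
    have hfc : f (coeff γ.law (fun i => c (g i)) ν) =
        coeff (symLaw A B d).law (fun i => c (g i)) ν := by
      rw [← hf, coeff_postcomp]
      rfl
    simp [bcPow, hfc, coe_coeff_symLaw, orbit, E, he, Function.comp_def]
    convert rfl
  have hzero : ∀ ν : Fin t.card →₀ ℕ, ∑ i, ν i = d → lam ν = 0 := by
    intro ν hν
    obtain ⟨p₀, rfl⟩ := exists_pat_eq d hν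
    have h0 := congrArg (fun y => E.repr y (g ∘ p₀)) hz
    simp only [← hlam', map_finsuppSum, map_smul, Finsupp.sum_apply, Finsupp.smul_apply, himg,
      map_sum, Finsupp.finsetSum_apply, Module.Basis.repr_self, Finsupp.single_apply, map_zero,
      Finsupp.zero_apply, smul_eq_mul] at h0
    simp only [(hg.comp_left (α := Fin d)).eq_iff, Finset.sum_ite_eq', Finset.mem_filter,
      Finset.mem_univ, true_and] at h0
    rw [Finsupp.sum, Finset.sum_eq_single (pat p₀)
      (fun ν _ hν => by rw [if_neg hν.symm, mul_zero])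
      (fun hν => by rw [Finsupp.notMem_support_iff.mp hν, zero_mul]), if_pos rfl, mul_one] at h0
    exact h0
  rw [← hlam']
  refine Finset.sum_eq_zero fun ν _ => ?_
  by_cases hν : ∑ i, ν i = d
  · simp [hzero ν hν]
  · simp [coeff_eq_zero γ.homog _ hν]

section Reduced

variable {K : Type u} [Field K] {V : Type u} [CommRing V] [Algebra K V]

/-- A reduced algebra tensored with a geometrically reduced one is reduced. -/
lemma isReduced_tensor (hV : ∀ (L : Type u) [Field L] [Algebra K L], IsReduced (L ⊗[K] V))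
    (R : Type u) [CommRing R] [Algebra K R] [IsReduced R] : IsReduced (R ⊗[K] V) := by
  refine ⟨fun x hx => ?_⟩
  let b := Module.Free.chooseBasis K V
  refine (Algebra.TensorProduct.basis R b).repr.injective (Finsupp.ext fun i => ?_)
  rw [map_zero, Finsupp.zero_apply]
  refine IsReduced.eq_zero _ (nilpotent_iff_mem_prime.mpr fun p hp => ?_)
  let φ : R →ₐ[K] FractionRing (R ⧸ p) :=
    (IsScalarTower.toAlgHom K (R ⧸ p) (FractionRing (R ⧸ p))).comp (Ideal.Quotient.mkₐ K p)
  have hrepr : ∀ y : R ⊗[K] V, (Algebra.TensorProduct.basis (FractionRing (R ⧸ p)) b).repr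
      (Algebra.TensorProduct.map φ (AlgHom.id K V) y) i =
        φ ((Algebra.TensorProduct.basis R b).repr y i) := by
    intro y
    induction y using TensorProduct.induction_on with
    | zero => simp
    | add x y hx hy => simp [hx, hy]
    | tmul r v => simp
  have := hV (FractionRing (R ⧸ p))
  have h0 := hrepr x
  rw [(hx.map (Algebra.TensorProduct.map φ (AlgHom.id K V))).eq_zero, map_zero,
    Finsupp.zero_apply] at h0
  refine Ideal.Quotient.eq_zero_iff_mem.mp
    (FaithfulSMul.algebraMap_injective (R ⧸ p) (FractionRing (R ⧸ p)) ?_)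
  rw [map_zero]
  exact h0.symm

variable (K V) in
/-- Adding a slot to the tensor power. -/
noncomputable def consPow (n : ℕ) : (⨂[K] _ : Fin n, V) →ₐ[K] ⨂[K] _ : Fin (n + 1), V :=
  PiTensorProduct.liftAlgHom ((PiTensorProduct.tprod K (s := fun _ : Fin (n + 1) => V)).curryLeft 1)
    (by
      rw [MultilinearMap.curryLeft_apply, PiTensorProduct.one_def]
      congr 1
      exact funext fun j => Fin.cases rfl (fun _ => rfl) j)
    (by
      intro x y
      simp only [MultilinearMap.curryLeft_apply]
      rw [PiTensorProduct.tprod_mul_tprod]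
      congr 1
      exact funext fun j => Fin.cases (one_mul (1 : V)).symm (fun _ => rfl) j)

/-- Tensor powers of a geometrically reduced algebra are reduced. -/
theorem isReduced_pow (hV : ∀ (L : Type u) [Field L] [Algebra K L], IsReduced (L ⊗[K] V)) :
    ∀ n : ℕ, IsReduced (⨂[K] _ : Fin n, V) := by
  intro n
  induction n with
  | zero =>
    refine ⟨fun x hx => ?_⟩
    let e := PiTensorProduct.isEmptyEquiv (R := K) (s := fun _ : Fin 0 => V) (Fin 0)
    have hsymm : ∀ a : K, e.symm a = algebraMap K (⨂[K] _ : Fin 0, V) a := fun a => by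
      rw [Algebra.algebraMap_eq_smul_one, PiTensorProduct.one_def]
      simp [e, Subsingleton.elim (isEmptyElim : (i : Fin 0) → V) 1]
    obtain ⟨a, rfl⟩ : ∃ a, algebraMap K (⨂[K] _ : Fin 0, V) a = x :=
      ⟨e x, by rw [← hsymm, e.symm_apply_apply]⟩
    have hinj : Function.Injective (algebraMap K (⨂[K] _ : Fin 0, V)) := fun a b h => by
      rw [← hsymm, ← hsymm] at h
      exact e.symm.injective h
    rw [((IsNilpotent.map_iff hinj).mp hx).eq_zero, map_zero]
  | succ n ih =>
    classical
    let θ : (⨂[K] _ : Fin n, V) ⊗[K] V →ₐ[K] ⨂[K] _ : Fin (n + 1), V :=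
      Algebra.TensorProduct.lift (consPow K V n)
        (PiTensorProduct.singleAlgHom (R := K) (A := fun _ : Fin (n + 1) => V) 0) fun _ _ => Commute.all _ _
    let b := Module.Free.chooseBasis K V
    let e := ((Basis.piTensorProduct fun _ : Fin n => b).tensorProduct b).equiv
      (Basis.piTensorProduct fun _ : Fin (n + 1) => b) ((Equiv.prodComm _ _).trans (Fin.consEquiv fun _ => _))
    have hθ : θ.toLinearMap = e.toLinearMap := by
      refine ((Basis.piTensorProduct fun _ : Fin n => b).tensorProduct b).ext fun ⟨q, i⟩ => ?_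
      rw [LinearEquiv.coe_coe, Module.Basis.equiv_apply]
      simp only [Module.Basis.tensorProduct_apply, Equiv.trans_apply, Equiv.prodComm_apply, Prod.swap_prod_mk, Fin.consEquiv_apply,
        Basis.piTensorProduct_apply, AlgHom.toLinearMap_apply, θ, Algebra.TensorProduct.lift_tmul,
        consPow, PiTensorProduct.liftAlgHom_apply, PiTensorProduct.lift.tprod, MultilinearMap.curryLeft_apply,
        PiTensorProduct.singleAlgHom_apply, MonoidHom.mulSingle_apply]
      rw [PiTensorProduct.tprod_mul_tprod]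
      congr 1
      refine funext fun j => Fin.cases ?_ (fun k => ?_) j <;> simp [Fin.succ_ne_zero]
    have hinj : Function.Injective θ := fun x y h =>
      e.injective (((LinearMap.congr_fun hθ x).symm.trans h).trans (LinearMap.congr_fun hθ y))
    have hsurj : Function.Surjective θ := fun y =>
      ⟨e.symm y, (LinearMap.congr_fun hθ (e.symm y)).trans (e.apply_symm_apply y)⟩
    have := isReduced_tensor hV (⨂[K] _ : Fin n, V)
    exact isReduced_of_injective (AlgEquiv.ofBijective θ ⟨hinj, hsurj⟩).symm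
      (AlgEquiv.ofBijective θ ⟨hinj, hsurj⟩).symm.injective

end Reduced

/-- Base changes of `Γ^d` to fields are reduced when those of `B` are. -/
theorem isReduced_fieldBaseChange {B : Type u} [CommRing B] [Algebra A B] {C : Type u} [CommRing C]
    [Algebra A C] {d : ℕ} (γ : _root_.PolLaw.MulLaw A B C d) (hγ : _root_.PolLaw.IsGammaD γ)
    (hred : ∀ (K : Type u) [Field K] [Algebra A K], IsReduced (K ⊗[A] B))
    (K : Type u) [Field K] [Algebra A K] : IsReduced (K ⊗[A] C) := by
  obtain ⟨φ, hφ⟩ := exists_injective_bcPow γ hγ K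
  have := isReduced_pow (K := K) (V := K ⊗[A] B) (fun L _ _ => by
    let := Algebra.compHom L (algebraMap A K)
    have : IsScalarTower A K L := IsScalarTower.of_algebraMap_eq fun _ => rfl
    have := hred L
    exact isReduced_of_injective (Algebra.TensorProduct.cancelBaseChange A K L L B)
      (Algebra.TensorProduct.cancelBaseChange A K L L B).injective) d
  exact isReduced_of_injective φ hφ

end GrothLib.PolLaw
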