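import Groth.Agent.Lib.PolLaw.SymFlat
import Groth.Agent.Lib.PolLaw.Sym

/-!
# Uniqueness of degree-`d` divided power algebras and flatness
-/

universe u

open TensorProduct

namespace GrothLib.PolLaw

variable {A : Type u} [CommRing A]

lemma postcomp_id {M N : Type u} [AddCommGroup M] [Module A M] [AddCommGroup N] [Module A N]
    (F : M →ₚₗ[A] N) : _root_.PolLaw.postcomp (LinearMap.id : N →ₗ[A] N) F = F := by
  refine PolynomialLaw.ext ?_
  funext S _ _ x
  show (LinearMap.id : N →ₗ[A] N).lTensor S (F.toFun' S x) = F.toFun' S x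
  simp

lemma postcomp_comp {M N P Q : Type u} [AddCommGroup M] [Module A M] [AddCommGroup N] [Module A N]
    [AddCommGroup P] [Module A P] [AddCommGroup Q] [Module A Q]
    (g : P →ₗ[A] Q) (f : N →ₗ[A] P) (F : M →ₚₗ[A] N) :
    _root_.PolLaw.postcomp (g ∘ₗ f) F = _root_.PolLaw.postcomp g (_root_.PolLaw.postcomp f F) := by
  refine PolynomialLaw.ext ?_
  funext S _ _ x
  show (g ∘ₗ f).lTensor S (F.toFun' S x) = g.lTensor S (f.lTensor S (F.toFun' S x))
  rw [LinearMap.lTensor_comp_apply]

variable {B C P : Type u} [CommRing B] [Algebra A B] [CommRing C] [Algebra A C] [CommRing P] [Algebra A P]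
  {d : ℕ}

/-- Two universal laws give isomorphic algebras, compatibly with the laws. -/
lemma exists_algEquiv_of_isGammaD {γ : _root_.PolLaw.MulLaw A B C d} (hγ : _root_.PolLaw.IsGammaD γ)
    {τ : _root_.PolLaw.MulLaw A B P d} (hτ : _root_.PolLaw.IsGammaD τ) :
    ∃ e : C ≃ₐ[A] P, _root_.PolLaw.postcomp e.toAlgHom.toLinearMap γ.law = τ.law := by
  obtain ⟨f, hf, -⟩ := hγ P τ
  obtain ⟨g, hg, -⟩ := hτ C γ
  have h1 : g.comp f = AlgHom.id A C := by
    refine (hγ C γ).unique ?_ (postcomp_id γ.law)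
    rw [AlgHom.comp_toLinearMap, postcomp_comp, hf, hg]
  have h2 : f.comp g = AlgHom.id A P := by
    refine (hτ P τ).unique ?_ (postcomp_id τ.law)
    rw [AlgHom.comp_toLinearMap, postcomp_comp, hg, hf]
  exact ⟨AlgEquiv.ofAlgHom f g h2 h1, hf⟩

lemma flat_TS [Module.Flat A B] : Module.Flat A (SymTen.TS A B d) := by
  have := flat_symTensor (A := A) (M := B) (d := d)
  let e : SymTen.TS A B d ≃ₗ[A] symTensor A B d :=
    { tsToSymTensor A B d with
      invFun := fun t => ⟨t.1, mem_symTensor.mp t.2⟩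
      left_inv := fun t => rfl
      right_inv := fun t => rfl }
  exact Module.Flat.of_linearEquiv e

end GrothLib.PolLaw
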