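import Groth.Agent.Lib.PolLaw.FiniteType
import Groth.Agent.Lib.PolLaw.CharPoly
import Groth.Agent.Lib.PolLaw.Descend
import Groth.Agent.Lib.PolLaw.Unique
import Mathlib.RingTheory.FinitePresentation
import Mathlib.RingTheory.RingHom.FinitePresentation
import Mathlib.Algebra.MvPolynomial.Eval
import Mathlib.LinearAlgebra.TensorProduct.Basis

/-!
# `Γ^d` of a finitely presented algebra is finitely presented
-/

universe u

open TensorProduct
open Algebra.TensorProduct (productMap)

namespace GrothLib.PolLaw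

variable {A : Type u} [CommRing A] {r d : ℕ}

/-- Symmetric tensors of a polynomial ring are finitely presented. -/
theorem finitePresentation_TS_polynomial (A₀ : Type u) [CommRing A₀] [IsNoetherianRing A₀] [Algebra A₀ A] :
    Algebra.FinitePresentation A (SymTen.TS A (MvPolynomial (Fin r) A) d) := by
  classical
  let T₀ := SymTen.TS A₀ (MvPolynomial (Fin r) A₀) d
  have : Algebra.FiniteType A₀ T₀ := finiteType_TS_of_noetherian
  have : Algebra.FinitePresentation A₀ T₀ := Algebra.FinitePresentation.of_finiteType.mp inferInstance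
  let b₀ := (MvPolynomial.basisMonomials (Fin r) A₀).reindex (Equiv.ulift.{u, 0}).symm
  let b := (MvPolynomial.basisMonomials (Fin r) A).reindex (Equiv.ulift.{u, 0}).symm
  let Ψ : A ⊗[A₀] (⨂[A₀] _ : Fin d, MvPolynomial (Fin r) A₀) →ₐ[A] ⨂[A] _ : Fin d, MvPolynomial (Fin r) A :=
    Algebra.TensorProduct.lift (Algebra.ofId A _) (powMap A₀) fun _ _ => Commute.all _ _
  let Φ : A ⊗[A₀] T₀ →ₐ[A] ⨂[A] _ : Fin d, MvPolynomial (Fin r) A :=
    Ψ.comp (Algebra.TensorProduct.map (AlgHom.id A A) T₀.val)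
  have hΨ : Function.Injective Ψ := by
    let e := (Algebra.TensorProduct.basis A (Basis.piTensorProduct fun _ : Fin d => b₀)).equiv
      (Basis.piTensorProduct fun _ : Fin d => b) (Equiv.refl _)
    have he : Ψ.toLinearMap = e.toLinearMap := by
      refine (Algebra.TensorProduct.basis A (Basis.piTensorProduct fun _ : Fin d => b₀)).ext fun q => ?_
      rw [LinearEquiv.coe_coe, Module.Basis.equiv_apply]
      simp [Ψ, b, b₀, powMap, MvPolynomial.coe_basisMonomials, MvPolynomial.mapAlgHom_apply]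
    intro x y h
    exact e.injective (((LinearMap.congr_fun he x).symm.trans h).trans (LinearMap.congr_fun he y))
  have hinj : Function.Injective Φ := hΨ.comp (injective_lTensor_val b₀ A)
  have hmem : ∀ z, Φ z ∈ SymTen.TS A (MvPolynomial (Fin r) A) d := by
    intro z
    induction z using TensorProduct.induction_on with
    | zero => rw [map_zero]; exact zero_mem _
    | add x y hx hy => rw [map_add]; exact add_mem hx hy
    | tmul a t =>
      have e : Φ (a ⊗ₜ[A₀] t) = a • powMap A₀ (t : ⨂[A₀] _ : Fin d, MvPolynomial (Fin r) A₀) := by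
        simp only [Φ, Ψ, AlgHom.comp_apply, Algebra.TensorProduct.map_tmul, AlgHom.id_apply,
          Algebra.TensorProduct.lift_tmul]
        exact (Algebra.smul_def _ _).symm
      rw [e]
      refine Subalgebra.smul_mem _ ?_ a
      have ht := mem_span_orbit_basis b₀ (mem_symTensor.mpr t.2)
      refine Submodule.span_induction ?_ ?_ (fun u v _ _ hu hv => by rw [map_add]; exact add_mem hu hv)
        (fun c u _ hu => by rw [map_smul, ← algebraMap_smul A c]; exact Subalgebra.smul_mem _ hu _) ht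
      · rintro _ ⟨n, m, μ, rfl⟩
        rw [powMap_orbit]
        exact mem_symTensor.mp (orbit_mem_symTensor _ μ)
      · rw [map_zero]; exact zero_mem _
  have hsurj : ∀ t ∈ SymTen.TS A (MvPolynomial (Fin r) A) d, ∃ z, Φ z = t := by
    intro t ht
    refine Submodule.span_induction ?_ ⟨0, map_zero _⟩
      (fun u v _ _ ⟨x, hx⟩ ⟨y, hy⟩ => ⟨x + y, by rw [map_add, hx, hy]⟩)
      (fun c u _ ⟨x, hx⟩ => ⟨c • x, by rw [map_smul, hx]⟩) (mem_span_orbit_basis b (mem_symTensor.mpr ht))
    rintro _ ⟨n, e, μ, rfl⟩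
    refine ⟨(1 : A) ⊗ₜ[A₀] (⟨orbit A₀ (fun i => (MvPolynomial.monomial (e i).down (1 : A₀) : MvPolynomial (Fin r) A₀)) μ,
      mem_symTensor.mp (orbit_mem_symTensor _ μ)⟩ : T₀), ?_⟩
    simp only [Φ, Ψ, AlgHom.comp_apply, Algebra.TensorProduct.map_tmul, AlgHom.id_apply,
      Algebra.TensorProduct.lift_tmul, map_one, one_mul]
    show powMap A₀ (orbit A₀ _ μ) = _
    rw [powMap_orbit]
    congr 1
    funext i
    simp [b, MvPolynomial.coe_basisMonomials]
  let Φ' : A ⊗[A₀] T₀ →ₐ[A] SymTen.TS A (MvPolynomial (Fin r) A) d := Φ.codRestrict _ hmem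
  refine Algebra.FinitePresentation.equiv (AlgEquiv.ofBijective Φ' ⟨?_, ?_⟩)
  · intro x y h
    exact hinj (congrArg Subtype.val h)
  · intro t
    obtain ⟨z, hz⟩ := hsurj t.1 t.2
    exact ⟨z, Subtype.ext hz⟩

section CH

variable {B : Type u} [CommRing B] [Algebra A B]

/-- The value at `y` of the symmetric law, with coefficients pushed to `R`. -/
noncomputable def valT {R : Type u} [CommSemiring R] [Algebra A R] (ι : SymTen.TS A B d →ₐ[A] R)
    (y : R ⊗[A] B) : R :=
  productMap (AlgHom.id A R) ι ((symLaw A B d).law.toFun' R y)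

lemma valT_map {R R' : Type u} [CommSemiring R] [Algebra A R] [CommSemiring R'] [Algebra A R']
    (φ : R →ₐ[A] R') (ι : SymTen.TS A B d →ₐ[A] R) (y : R ⊗[A] B) :
    φ (valT ι y) = valT (φ.comp ι) (Algebra.TensorProduct.map φ (AlgHom.id A B) y) := by
  rw [valT, valT, map_eq_rTensor, ← (symLaw A B d).law.isCompat_apply' φ y]
  generalize (symLaw A B d).law.toFun' R y = z
  induction z using TensorProduct.induction_on with
  | zero => simp
  | tmul s t => simp
  | add p q hp hq => simp [hp, hq]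

variable (d) in
/-- The coefficients of `∏ j (X - x^{(j)})` are symmetric tensors. -/
lemma exists_symCoeff (x : B) : ∃ q : Polynomial (SymTen.TS A B d),
    (q.natDegree ≤ d ∧ q.coeff d = 1) ∧ q.map (SymTen.TS A B d).val.toRingHom = ∏ j : Fin d,
      (Polynomial.X - Polynomial.C (PiTensorProduct.singleAlgHom (R := A) (A := fun _ : Fin d => B) j x)) := by
  classical
  rcases subsingleton_or_nontrivial (⨂[A] _ : Fin d, B) with hT | hT
  · exact ⟨Polynomial.X ^ d, ⟨Polynomial.natDegree_X_pow_le d, by simp⟩, Subsingleton.elim _ _⟩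
  let P : Polynomial (⨂[A] _ : Fin d, B) := ∏ j : Fin d,
    (Polynomial.X - Polynomial.C (PiTensorProduct.singleAlgHom (R := A) (A := fun _ : Fin d => B) j x))
  have hfix : ∀ τ : Equiv.Perm (Fin d), P.map (SymTen.perm A B d τ).toRingHom = P := by
    intro τ
    simp only [P, Polynomial.map_prod]
    refine Fintype.prod_equiv τ _ _ fun j => ?_
    rw [Polynomial.map_sub, Polynomial.map_X, Polynomial.map_C]
    congr 2
    show SymTen.perm A B d τ _ = _
    simp only [PiTensorProduct.singleAlgHom_apply, MonoidHom.mulSingle_apply, SymTen.perm_tprod]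
    congr 1
    funext i
    simp [Pi.mulSingle_apply, Equiv.symm_apply_eq]
  have hlift : P ∈ Polynomial.lifts (algebraMap (SymTen.TS A B d) (⨂[A] _ : Fin d, B)) := by
    refine (Polynomial.lifts_iff_coeff_lifts _).mpr fun n => ⟨⟨P.coeff n, fun τ => ?_⟩, rfl⟩
    rw [← SymTen.perm_apply]
    conv_rhs => rw [← hfix τ, Polynomial.coeff_map]
    rfl
  obtain ⟨q, hq, -, hmon⟩ := Polynomial.lifts_and_degree_eq_and_monic hlift
    (Polynomial.monic_prod_of_monic _ _ fun j _ => Polynomial.monic_X_sub_C _)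
  have hdeg : q.natDegree = d := by
    rw [← Polynomial.natDegree_map_eq_of_injective (f := algebraMap (SymTen.TS A B d) (⨂[A] _ : Fin d, B))
      Subtype.val_injective, hq, Polynomial.natDegree_prod_of_monic _ _ fun j _ => Polynomial.monic_X_sub_C _]
    simp
  refine ⟨q, ⟨hdeg.le, ?_⟩, hq⟩
  have := hmon.coeff_natDegree
  rwa [hdeg] at this

/-- The image of `q(x)` in `R ⊗ B`. -/
noncomputable def chElt {R : Type u} [CommSemiring R] [Algebra A R] (ι : SymTen.TS A B d →ₐ[A] R)
    (q : Polynomial (SymTen.TS A B d)) (x : B) : R ⊗[A] B :=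
  q.sum fun k c => ι c ⊗ₜ[A] (x ^ k)

/-- Cayley–Hamilton for the symmetric law. -/
lemma valT_add_chElt (x : B) (q : Polynomial (SymTen.TS A B d))
    (hq : q.map (SymTen.TS A B d).val.toRingHom = ∏ j : Fin d,
      (Polynomial.X - Polynomial.C (PiTensorProduct.singleAlgHom (R := A) (A := fun _ : Fin d => B) j x)))
    {R : Type u} [CommSemiring R] [Algebra A R] (ι : SymTen.TS A B d →ₐ[A] R) (y w : R ⊗[A] B) :
    valT ι (y + w * chElt ι q x) = valT ι y := by
  classical
  obtain ⟨n, s, m, rfl⟩ := toFun'_tmul_eq_sum y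
  obtain ⟨k, s', m', rfl⟩ := toFun'_tmul_eq_sum w
  let T := SymTen.TS A B d
  let T' := ⨂[A] _ : Fin d, B
  let σ := Fin n ⊕ Fin k
  let ιU : T →ₐ[A] MvPolynomial σ T := IsScalarTower.toAlgHom A T _
  let φ : MvPolynomial σ T →ₐ[A] R := MvPolynomial.aevalTower ι (Sum.elim s s')
  have hφ : φ.comp ιU = ι := AlgHom.ext fun t => MvPolynomial.aevalTower_C _ _ t
  let y₀ : MvPolynomial σ T ⊗[A] B := ∑ i, (MvPolynomial.X (Sum.inl i) : MvPolynomial σ T) ⊗ₜ[A] m i
  let w₀ : MvPolynomial σ T ⊗[A] B := ∑ j, (MvPolynomial.X (Sum.inr j) : MvPolynomial σ T) ⊗ₜ[A] m' j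
  have key : valT ιU (y₀ + w₀ * chElt ιU q x) = valT ιU y₀ := by
    let v : MvPolynomial σ T →ₐ[A] MvPolynomial σ T' := MvPolynomial.mapAlgHom (SymTen.TS A B d).val
    have hv : Function.Injective v := MvPolynomial.map_injective _ Subtype.val_injective
    refine hv ?_
    let c : T' →ₐ[A] MvPolynomial σ T' := IsScalarTower.toAlgHom A T' _
    have hvι : v.comp ιU = c.comp (SymTen.TS A B d).val :=
      AlgHom.ext fun t => MvPolynomial.map_C _ _
    rw [valT_map, valT_map, hvι, valT, valT, tpow_symLaw, tpow_symLaw]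
    refine Finset.prod_congr rfl fun j _ => ?_
    rw [map_add, map_mul, map_add, map_mul]
    have h0 : productMap (AlgHom.id A _) (c.comp (PiTensorProduct.singleAlgHom (A := fun _ : Fin d => B) j))
        (Algebra.TensorProduct.map v (AlgHom.id A B) (chElt ιU q x)) = 0 := by
      have e : ∀ (l : ℕ) (t : T), productMap (AlgHom.id A _)
          (c.comp (PiTensorProduct.singleAlgHom (A := fun _ : Fin d => B) j))
          (Algebra.TensorProduct.map v (AlgHom.id A B) (ιU t ⊗ₜ[A] (x ^ l))) =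
            c ((t : T') * (PiTensorProduct.singleAlgHom (R := A) (A := fun _ : Fin d => B) j x) ^ l) := by
        intro l t
        rw [Algebra.TensorProduct.map_tmul, Algebra.TensorProduct.productMap_apply_tmul, AlgHom.id_apply,
          AlgHom.id_apply, map_pow, map_mul, map_pow]
        exact congrArg (· * _) (AlgHom.congr_fun hvι t)
      rw [chElt, Polynomial.sum_def, map_sum, map_sum]
      simp only [e, ← map_sum]
      rw [show ∑ l ∈ q.support, (q.coeff l : T') *
          (PiTensorProduct.singleAlgHom (R := A) (A := fun _ : Fin d => B) j x) ^ l =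
        (q.map (SymTen.TS A B d).val.toRingHom).eval
          (PiTensorProduct.singleAlgHom (R := A) (A := fun _ : Fin d => B) j x) from by
        rw [Polynomial.eval_map, Polynomial.eval₂_eq_sum, Polynomial.sum_def]
        rfl, hq, Polynomial.eval_prod, Finset.prod_eq_zero (Finset.mem_univ j) (by simp), map_zero]
    rw [h0, mul_zero, add_zero]
  have h := congrArg φ key
  rw [valT_map, valT_map, hφ] at h
  have hθ : Algebra.TensorProduct.map φ (AlgHom.id A B) (chElt ιU q x) = chElt ι q x := by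
    simp only [chElt, Polynomial.sum_def, map_sum, Algebra.TensorProduct.map_tmul, AlgHom.id_apply]
    exact Finset.sum_congr rfl fun l _ => by rw [← AlgHom.comp_apply, hφ]
  rw [map_add, map_mul, hθ] at h
  simpa [y₀, w₀, φ, map_sum] using! h

end CH

/-- An exponent box. -/
noncomputable def boxMon (α : Fin r → Fin d) : MvPolynomial (Fin r) A :=
  ∏ l, MvPolynomial.X l ^ (α l : ℕ)

set_option maxHeartbeats 1000000 in
/-- Modulo Cayley–Hamilton elements every element is a combination of box monomials. -/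
lemma exists_box_rep {R : Type u} [CommRing R] [Algebra A R] (ι : SymTen.TS A (MvPolynomial (Fin r) A) d →ₐ[A] R)
    (q : Fin r → Polynomial (SymTen.TS A (MvPolynomial (Fin r) A) d))
    (hq : ∀ l, (q l).natDegree ≤ d ∧ (q l).coeff d = 1) (z : R ⊗[A] MvPolynomial (Fin r) A) :
    ∃ u : (Fin r → Fin d) → R, z - ∑ α, u α ⊗ₜ[A] boxMon α ∈
      Ideal.span (Set.range fun l => chElt ι (q l) (MvPolynomial.X l)) := by
  classical
  set J := Ideal.span (Set.range fun l => chElt ι (q l) (MvPolynomial.X l))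
  let N : Submodule R (R ⊗[A] MvPolynomial (Fin r) A) :=
    Submodule.span R (Set.range fun α : Fin r → Fin d => (1 : R) ⊗ₜ[A] boxMon α) ⊔ J.restrictScalars R
  have hθ : ∀ l, chElt ι (q l) (MvPolynomial.X l) = (1 : R) ⊗ₜ[A] ((MvPolynomial.X l : MvPolynomial (Fin r) A) ^ d) +
      ∑ k ∈ Finset.range d, ι ((q l).coeff k) ⊗ₜ[A] ((MvPolynomial.X l : MvPolynomial (Fin r) A) ^ k) := by
    intro l
    rw [chElt, Polynomial.sum_over_range' (q l) (fun k => by rw [map_zero, TensorProduct.zero_tmul]) (d + 1)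
      (Nat.lt_succ_of_le (hq l).1), Finset.sum_range_succ, (hq l).2, map_one, add_comm]
  have hbox : ∀ α, (1 : R) ⊗ₜ[A] boxMon (A := A) α ∈ N := fun α =>
    Submodule.mem_sup_left (Submodule.subset_span ⟨α, rfl⟩)
  have hrest : ∀ (α : Fin r → Fin d) l (k : Fin d), boxMon (A := A) (Function.update α l k) =
      MvPolynomial.X l ^ (k : ℕ) * ∏ i ∈ Finset.univ.erase l, MvPolynomial.X i ^ (α i : ℕ) := by
    intro α l k
    rw [boxMon, ← Finset.mul_prod_erase _ _ (Finset.mem_univ l), Function.update_self]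
    congr 1
    exact Finset.prod_congr rfl fun i hi => by rw [Function.update_of_ne (Finset.ne_of_mem_erase hi)]
  have hX : ∀ (l : Fin r) (v), v ∈ N → ((1 : R) ⊗ₜ[A] (MvPolynomial.X l : MvPolynomial (Fin r) A)) * v ∈ N := by
    intro l v hv
    obtain ⟨v₁, hv₁, v₂, hv₂, rfl⟩ := Submodule.mem_sup.mp hv
    rw [mul_add]
    refine add_mem ?_ (Submodule.mem_sup_right (Ideal.mul_mem_left J _ hv₂))
    clear hv hv₂
    induction hv₁ using Submodule.span_induction with
    | zero => rw [mul_zero]; exact zero_mem _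
    | add a b _ _ ha hb => rw [mul_add]; exact add_mem ha hb
    | smul c a _ ha => rw [mul_smul_comm]; exact N.smul_mem c ha
    | mem a ha =>
      obtain ⟨α, rfl⟩ := ha
      set rest : MvPolynomial (Fin r) A := ∏ i ∈ Finset.univ.erase l, MvPolynomial.X i ^ (α i : ℕ) with hrest'
      have hα : boxMon (A := A) α = MvPolynomial.X l ^ (α l : ℕ) * rest := by
        conv_lhs => rw [← Function.update_eq_self l α]
        exact hrest α l (α l)
      rw [Algebra.TensorProduct.tmul_mul_tmul, mul_one, hα, ← mul_assoc, ← pow_succ']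
      by_cases hlt : (α l : ℕ) + 1 < d
      · have := hbox (Function.update α l ⟨_, hlt⟩)
        rwa [hrest] at this
      · rw [show (α l : ℕ) + 1 = d by have := (α l).2; omega]
        have e : (1 : R) ⊗ₜ[A] (MvPolynomial.X l ^ d * rest) =
            chElt ι (q l) (MvPolynomial.X l) * ((1 : R) ⊗ₜ[A] rest) -
              ∑ k ∈ Finset.range d, ι ((q l).coeff k) • ((1 : R) ⊗ₜ[A] (MvPolynomial.X l ^ k * rest)) := by
          rw [hθ, add_mul, Finset.sum_mul, Algebra.TensorProduct.tmul_mul_tmul, mul_one]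
          simp [TensorProduct.smul_tmul', Algebra.TensorProduct.tmul_mul_tmul]
        rw [e]
        refine sub_mem (Submodule.mem_sup_right (Ideal.mul_mem_right _ J (Ideal.subset_span ⟨l, rfl⟩)))
          (Submodule.sum_mem _ fun k hk => N.smul_mem _ ?_)
        have := hbox (Function.update α l ⟨k, Finset.mem_range.mp hk⟩)
        rwa [hrest] at this
  have h1 : (1 : R ⊗[A] MvPolynomial (Fin r) A) ∈ N := by
    rcases Nat.eq_zero_or_pos d with hd | hd
    · rcases Nat.eq_zero_or_pos r with hr | hr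
      · subst hr
        have := hbox finZeroElim
        simpa [boxMon, Algebra.TensorProduct.one_def] using this
      · refine Submodule.mem_sup_right ?_
        have e : (1 : R ⊗[A] MvPolynomial (Fin r) A) = chElt ι (q ⟨0, hr⟩) (MvPolynomial.X ⟨0, hr⟩) := by
          rw [hθ, Finset.sum_eq_zero (fun k hk => absurd (Finset.mem_range.mp hk) (by omega)), add_zero]
          simp [hd, Algebra.TensorProduct.one_def]
        rw [e]
        exact Ideal.subset_span ⟨_, rfl⟩
    · have := hbox fun _ => ⟨0, hd⟩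
      simpa [boxMon, Algebra.TensorProduct.one_def] using this
  have hall : z ∈ N := by
    induction z using TensorProduct.induction_on with
    | zero => exact zero_mem _
    | add a b ha hb => exact add_mem ha hb
    | tmul u p =>
      rw [← mul_one u, ← smul_eq_mul, ← TensorProduct.smul_tmul']
      refine N.smul_mem _ ?_
      induction p using MvPolynomial.induction_on with
      | C a =>
        rw [← mul_one (MvPolynomial.C a), ← MvPolynomial.smul_eq_C_mul, TensorProduct.tmul_smul,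
          ← algebraMap_smul R a, ← Algebra.TensorProduct.one_def]
        exact N.smul_mem _ h1
      | add a b ha hb => rw [TensorProduct.tmul_add]; exact add_mem ha hb
      | mul_X p l hp =>
        rw [mul_comm p, ← mul_one (1 : R), ← Algebra.TensorProduct.tmul_mul_tmul]
        exact hX l _ hp
  obtain ⟨v₁, hv₁, v₂, hv₂, e⟩ := Submodule.mem_sup.mp hall
  obtain ⟨u, hu⟩ := (Submodule.mem_span_range_iff_exists_fun R).mp hv₁
  refine ⟨u, ?_⟩
  rw [show z - ∑ α, u α ⊗ₜ[A] boxMon α = v₂ by
    rw [← e, ← hu]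
    simp [TensorProduct.smul_tmul']]
  exact hv₂

lemma postcomp_toFun'_eq_valT {B Q U : Type u} [CommRing B] [Algebra A B] [CommRing Q] [Algebra A Q]
    [CommRing U] [Algebra A U] (qm : SymTen.TS A B d →ₐ[A] Q) (y : U ⊗[A] B) :
    ((symLaw A B d).postcomp qm).law.toFun' U y =
      valT ((Algebra.TensorProduct.includeRight : Q →ₐ[A] U ⊗[A] Q).comp qm)
        (Algebra.TensorProduct.map (Algebra.TensorProduct.includeLeft : U →ₐ[A] U ⊗[A] Q) (AlgHom.id A B) y) := by
  rw [valT, map_eq_rTensor, ← (symLaw A B d).law.isCompat_apply' _ y]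
  show qm.toLinearMap.lTensor U ((symLaw A B d).law.toFun' U y) = _
  generalize (symLaw A B d).law.toFun' U y = z
  induction z using TensorProduct.induction_on with
  | zero => simp
  | tmul a t => simp [Algebra.TensorProduct.tmul_mul_tmul]
  | add a b ha hb => simp [ha, hb]

/-- Finitely many equations put `g` in the kernel. -/
lemma valT_eq_of_box {R : Type u} [CommRing R] [Algebra A R]
    (ι : SymTen.TS A (MvPolynomial (Fin r) A) d →ₐ[A] R) (g : MvPolynomial (Fin r) A)
    (hg : ∀ μ, ι (coeff (symLaw A (MvPolynomial (Fin r) A) d).law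
        (Sum.elim (boxMon (d := d)) fun α : Fin r → Fin d => boxMon α * g) μ) =
      ι (coeff (symLaw A (MvPolynomial (Fin r) A) d).law (Sum.elim (boxMon (d := d)) fun _ : Fin r → Fin d => 0) μ))
    (y v : R ⊗[A] MvPolynomial (Fin r) A) : valT ι (y + v * ((1 : R) ⊗ₜ[A] g)) = valT ι y := by
  classical
  choose q hq hqmap using fun l => exists_symCoeff (A := A) (B := MvPolynomial (Fin r) A) d (MvPolynomial.X l)
  have hJ : ∀ j ∈ Ideal.span (Set.range fun l => chElt ι (q l) (MvPolynomial.X l : MvPolynomial (Fin r) A)),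
      ∀ y w : R ⊗[A] MvPolynomial (Fin r) A, valT ι (y + w * j) = valT ι y := by
    intro j hj
    induction hj using Submodule.span_induction with
    | zero => simp
    | mem j hj =>
      obtain ⟨l, rfl⟩ := hj
      exact fun y w => valT_add_chElt _ (q l) (hqmap l) ι y w
    | add a b _ _ ha hb => intro y w; rw [mul_add, ← add_assoc, hb, ha]
    | smul c a _ ha => intro y w; rw [smul_eq_mul, ← mul_assoc, ha]
  have hJ1 : ∀ j ∈ Ideal.span (Set.range fun l => chElt ι (q l) (MvPolynomial.X l : MvPolynomial (Fin r) A)),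
      ∀ y : R ⊗[A] MvPolynomial (Fin r) A, valT ι (y + j) = valT ι y := fun j hj y => by simpa using hJ j hj y 1
  obtain ⟨u₁, hu₁⟩ := exists_box_rep ι q hq y
  obtain ⟨u₂, hu₂⟩ := exists_box_rep ι q hq v
  have ey : valT ι y = valT ι (∑ α, u₁ α ⊗ₜ[A] boxMon α) := by
    have := hJ1 _ hu₁ (∑ α, u₁ α ⊗ₜ[A] boxMon α)
    rwa [add_sub_cancel] at this
  have eyv : valT ι (y + v * ((1 : R) ⊗ₜ[A] g)) = valT ι ((∑ α, u₁ α ⊗ₜ[A] boxMon α) +
      (∑ α, u₂ α ⊗ₜ[A] boxMon α) * ((1 : R) ⊗ₜ[A] g)) := by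
    have := hJ1 _ (add_mem hu₁ (Ideal.mul_mem_right ((1 : R) ⊗ₜ[A] g) _ hu₂))
      ((∑ α, u₁ α ⊗ₜ[A] boxMon α) + (∑ α, u₂ α ⊗ₜ[A] boxMon α) * ((1 : R) ⊗ₜ[A] g))
    rw [← this]
    congr 1
    ring
  rw [ey, eyv]
  have hsum : ∀ (c : (Fin r → Fin d) ⊕ (Fin r → Fin d) → R)
      (Mf : (Fin r → Fin d) ⊕ (Fin r → Fin d) → MvPolynomial (Fin r) A)
      (S₀ : Finset ((Fin r → Fin d) ⊕ (Fin r → Fin d) →₀ ℕ)),
      (coeff (symLaw A (MvPolynomial (Fin r) A) d).law Mf).support ⊆ S₀ →
      valT ι (∑ i, c i ⊗ₜ[A] Mf i) =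
        ∑ μ ∈ S₀, (∏ i, c i ^ μ i) * ι (coeff (symLaw A (MvPolynomial (Fin r) A) d).law Mf μ) := by
    intro c Mf S₀ hS₀
    rw [valT, toFun'_sum, Finsupp.sum_of_support_subset _ hS₀ _ (fun _ _ => TensorProduct.tmul_zero _ _),
      map_sum]
    exact Finset.sum_congr rfl fun μ _ => by simp
  have e1 : (∑ α, u₁ α ⊗ₜ[A] boxMon α) + (∑ α, u₂ α ⊗ₜ[A] boxMon α) * ((1 : R) ⊗ₜ[A] g) =
      ∑ i, Sum.elim u₁ u₂ i ⊗ₜ[A] (Sum.elim boxMon (fun α => boxMon α * g) i) := by
    simp [Finset.sum_mul, Algebra.TensorProduct.tmul_mul_tmul]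
  have e0 : (∑ α, u₁ α ⊗ₜ[A] boxMon (A := A) α) =
      ∑ i, Sum.elim u₁ u₂ i ⊗ₜ[A] (Sum.elim boxMon (fun _ : Fin r → Fin d => (0 : MvPolynomial (Fin r) A)) i) := by
    simp
  rw [e1, e0, hsum _ _ _ (Finset.subset_union_left (s₂ := (coeff (symLaw A (MvPolynomial (Fin r) A) d).law
      (Sum.elim boxMon fun _ : Fin r → Fin d => 0)).support)),
    hsum _ _ _ (Finset.subset_union_right (s₁ := (coeff (symLaw A (MvPolynomial (Fin r) A) d).law
      (Sum.elim boxMon fun α : Fin r → Fin d => boxMon α * g)).support))]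
  exact Finset.sum_congr rfl fun μ _ => by rw [hg]

/-- Finitely many equations put `g` in the kernel. -/
lemma mem_ker_of_box {Q : Type u} [CommRing Q] [Algebra A Q]
    (qm : SymTen.TS A (MvPolynomial (Fin r) A) d →ₐ[A] Q) (g : MvPolynomial (Fin r) A)
    (hg : ∀ μ, qm (coeff (symLaw A (MvPolynomial (Fin r) A) d).law
        (Sum.elim (boxMon (d := d)) fun α : Fin r → Fin d => boxMon α * g) μ) =
      qm (coeff (symLaw A (MvPolynomial (Fin r) A) d).law (Sum.elim (boxMon (d := d)) fun _ : Fin r → Fin d => 0) μ)) :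
    g ∈ _root_.PolLaw.ker ((symLaw A (MvPolynomial (Fin r) A) d).postcomp qm).law := by
  intro S _ _ x w
  obtain ⟨n, s, m, rfl⟩ := toFun'_tmul_eq_sum x
  obtain ⟨k, s', m', rfl⟩ := toFun'_tmul_eq_sum w
  let incl : MvPolynomial (Fin n ⊕ Fin k) A →ₐ[A] MvPolynomial (Fin n ⊕ Fin k) A ⊗[A] Q :=
    Algebra.TensorProduct.includeLeft
  have h := valT_eq_of_box ((Algebra.TensorProduct.includeRight :
      Q →ₐ[A] MvPolynomial (Fin n ⊕ Fin k) A ⊗[A] Q).comp qm) g
    (fun μ => congrArg (Algebra.TensorProduct.includeRight : Q →ₐ[A] _ ⊗[A] Q) (hg μ))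
    (Algebra.TensorProduct.map incl (AlgHom.id A _)
      (∑ i, (MvPolynomial.X (Sum.inl i) : MvPolynomial (Fin n ⊕ Fin k) A) ⊗ₜ[A] m i))
    (Algebra.TensorProduct.map incl (AlgHom.id A _)
      (∑ j, (MvPolynomial.X (Sum.inr j) : MvPolynomial (Fin n ⊕ Fin k) A) ⊗ₜ[A] m' j))
  rw [show ((1 : MvPolynomial (Fin n ⊕ Fin k) A ⊗[A] Q) ⊗ₜ[A] g) =
    Algebra.TensorProduct.map incl (AlgHom.id A _)
      ((1 : MvPolynomial (Fin n ⊕ Fin k) A) ⊗ₜ[A] g) by rw [Algebra.TensorProduct.map_tmul, map_one]; rfl,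
    ← map_mul, ← map_add, ← postcomp_toFun'_eq_valT, ← postcomp_toFun'_eq_valT] at h
  let α : MvPolynomial (Fin n ⊕ Fin k) A →ₐ[A] S := MvPolynomial.aeval (Sum.elim s s')
  have e := congrArg (α.toLinearMap.rTensor Q) h
  rw [PolynomialLaw.isCompat_apply', PolynomialLaw.isCompat_apply', ← map_eq_rTensor, ← map_eq_rTensor,
    map_add, map_mul] at e
  simp only [map_sum, Algebra.TensorProduct.map_tmul, AlgHom.id_apply, map_one] at e
  simpa [α, MvPolynomial.aeval_X] using! e

lemma exists_quotient (T : Type u) [CommRing T] [Algebra A T] (I : Ideal T) :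
    ∃ (Q : Type u) (_ : CommRing Q) (_ : Algebra A Q) (qm : T →ₐ[A] Q), ∀ t, qm t = 0 ↔ t ∈ I :=
  ⟨T ⧸ I, inferInstance, inferInstance, Ideal.Quotient.mkₐ A I, fun _ => Ideal.Quotient.eq_zero_iff_mem⟩

set_option maxHeartbeats 400000 in
/-- The divided power algebra of a finitely presented algebra is finitely presented. -/
theorem finitePresentation_of_isGammaD {B C : Type u} [CommRing B] [Algebra A B] [CommRing C]
    [Algebra A C] (γ : _root_.PolLaw.MulLaw A B C d) (hγ : _root_.PolLaw.IsGammaD γ)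
    [Algebra.FinitePresentation A B] : Algebra.FinitePresentation A C := by
  classical
  let : Algebra (ULift.{u} ℤ) A :=
    ((Int.castRingHom A).comp (ULift.ringEquiv (R := ℤ)).toRingHom).toAlgebra
  have : IsNoetherianRing (ULift.{u} ℤ) := isNoetherianRing_of_ringEquiv ℤ ULift.ringEquiv.symm
  obtain ⟨r, π, hπ, gens, hgens⟩ := ‹Algebra.FinitePresentation A B›.out
  have : Algebra.FinitePresentation A (SymTen.TS A (MvPolynomial (Fin r) A) d) := finitePresentation_TS_polynomial (ULift.{u} ℤ)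
  have : Module.Free A (MvPolynomial (Fin r) A) := Module.Free.of_basis (MvPolynomial.basisMonomials _ _)
  have hsym : _root_.PolLaw.IsGammaD (symLaw A (MvPolynomial (Fin r) A) d) := isGammaD_symLaw_of_flat
  obtain ⟨f, hf, -⟩ := hsym C (γ.precomp π)
  have hfc : ∀ {κ : Type} [Fintype κ] (m : κ → (MvPolynomial (Fin r) A)) (μ : κ →₀ ℕ),
      f (coeff (symLaw A (MvPolynomial (Fin r) A) d).law m μ) = coeff γ.law (π ∘ m) μ := by
    intro κ _ m μ
    refine ((coeff_postcomp f.toLinearMap (symLaw A (MvPolynomial (Fin r) A) d).law m μ).symm.trans ?_)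
    rw [hf]
    show coeff (_root_.PolLaw.precomp γ.law π.toLinearMap) m μ = _
    rw [coeff_precomp]
    rfl
  have hsurj : Function.Surjective f := fun c => by
    have hc : c ∈ coeffSpan γ.law := by rw [coeffSpan_eq_top hγ]; trivial
    refine (show c ∈ LinearMap.range f.toLinearMap from Submodule.span_le.mpr ?_ hc)
    rintro _ ⟨n, m, μ, rfl⟩
    choose m' hm' using fun i => hπ (m i)
    exact ⟨_, (hfc m' μ).trans (by rw [show π ∘ m' = m from funext hm'])⟩
  -- the finitely many equations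
  let M1 : (MvPolynomial (Fin r) A) → (Fin r → Fin d) ⊕ (Fin r → Fin d) → (MvPolynomial (Fin r) A) := fun g => Sum.elim boxMon fun α => boxMon α * g
  let M0 : (Fin r → Fin d) ⊕ (Fin r → Fin d) → (MvPolynomial (Fin r) A) := Sum.elim boxMon fun _ => 0
  let E : (MvPolynomial (Fin r) A) → Finset (SymTen.TS A (MvPolynomial (Fin r) A) d) := fun g =>
    ((coeff (symLaw A (MvPolynomial (Fin r) A) d).law (M1 g)).support ∪ (coeff (symLaw A (MvPolynomial (Fin r) A) d).law M0).support).image fun μ =>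
      coeff (symLaw A (MvPolynomial (Fin r) A) d).law (M1 g) μ - coeff (symLaw A (MvPolynomial (Fin r) A) d).law M0 μ
  let I : Ideal (SymTen.TS A (MvPolynomial (Fin r) A) d) := Ideal.span (gens.biUnion E : Set (SymTen.TS A (MvPolynomial (Fin r) A) d))
  have hI : I ≤ RingHom.ker f := Ideal.span_le.mpr fun t ht => by
    obtain ⟨g, hg, ht⟩ := Finset.mem_biUnion.mp ht
    obtain ⟨μ, -, rfl⟩ := Finset.mem_image.mp ht
    have hπg : π g = 0 := (show g ∈ RingHom.ker π.toRingHom from hgens ▸ Ideal.subset_span hg)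
    show f _ = 0
    rw [map_sub, hfc, hfc, sub_eq_zero]
    congr 2
    funext α
    rcases α with α | α <;> simp [M1, M0, hπg]
  obtain ⟨Q, _, _, qm, hqm⟩ := exists_quotient (A := A) (SymTen.TS A (MvPolynomial (Fin r) A) d) I
  let G : _root_.PolLaw.MulLaw A (MvPolynomial (Fin r) A) Q d :=
    (symLaw A (MvPolynomial (Fin r) A) d).postcomp qm
  have hgker : ∀ g ∈ gens, g ∈ _root_.PolLaw.ker G.law := by
    intro g hg
    refine mem_ker_of_box qm g fun μ => ?_
    by_cases hμ : μ ∈ (coeff (symLaw A (MvPolynomial (Fin r) A) d).law (M1 g)).support ∪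
        (coeff (symLaw A (MvPolynomial (Fin r) A) d).law M0).support
    · rw [← sub_eq_zero, ← map_sub, hqm]
      exact (Ideal.subset_span (Finset.mem_biUnion.mpr
        ⟨g, hg, Finset.mem_image.mpr ⟨μ, hμ, rfl⟩⟩))
    · simp only [Finset.mem_union, not_or, Finsupp.notMem_support_iff] at hμ
      exact congrArg qm (hμ.1.trans hμ.2.symm)
  have hle : RingHom.ker π.toRingHom ≤ _root_.PolLaw.ker G.law := hgens ▸ Ideal.span_le.mpr hgker
  have hdesc : ∀ (S : Type u) [CommSemiring S] [Algebra A S] (x y : S ⊗[A] (MvPolynomial (Fin r) A)),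
      π.toLinearMap.lTensor S x = π.toLinearMap.lTensor S y → G.law.toFun' S x = G.law.toFun' S y := by
    intro S _ _ x y hxy
    let : AddCommGroup S := Module.addCommMonoidToAddCommGroup A
    let : AddCommGroup (LinearMap.ker π.toLinearMap) := Module.addCommMonoidToAddCommGroup A
    have hex := lTensor_exact S (f := (LinearMap.ker π.toLinearMap).subtype) (g := π.toLinearMap)
      (LinearMap.exact_subtype_ker_map π.toLinearMap) hπ
    have h0 : π.toLinearMap.lTensor S (x - y) = 0 := by rw [map_sub, hxy]; exact sub_self _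
    obtain ⟨k, hk⟩ := (hex (x - y)).mp h0
    rw [← sub_add_cancel x y, add_comm, ← hk]
    clear hk hxy h0
    induction k using TensorProduct.induction_on generalizing y with
    | zero => simp
    | tmul s t =>
      rw [LinearMap.lTensor_tmul]
      have := hle (show (t : (MvPolynomial (Fin r) A)) ∈ RingHom.ker π.toRingHom from t.2) S y (s ⊗ₜ[A] 1)
      rwa [Algebra.TensorProduct.tmul_mul_tmul, mul_one, one_mul] at this
    | add a b ha hb => rw [map_add, ← add_assoc, hb, ha]
  obtain ⟨h', hh', -⟩ := hγ Q (descendLaw G π hπ hdesc)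
  have hcomp : h'.comp f = qm := by
    refine algHom_ext_coeff (A := A) (B := (MvPolynomial (Fin r) A)) (γ := symLaw A (MvPolynomial (Fin r) A) d) hsym (C' := Q) (f := h'.comp f) (g := qm) fun n m μ => ?_
    rw [AlgHom.comp_apply, hfc, ← AlgHom.toLinearMap_apply, ← coeff_postcomp, hh']
    show coeff (descendLaw G π hπ hdesc).law (π.toLinearMap ∘ m) μ = _
    rw [← coeff_precomp, precomp_descendLaw]
    exact coeff_postcomp qm.toLinearMap (symLaw A (MvPolynomial (Fin r) A) d).law m μ
  refine Algebra.FinitePresentation.of_surjective hsurj ⟨gens.biUnion E, le_antisymm hI fun t ht => ?_⟩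
  refine (hqm t).mp ?_
  rw [← AlgHom.congr_fun hcomp t, AlgHom.comp_apply, show f t = 0 from ht, map_zero]

end GrothLib.PolLaw
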