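import Groth.Agent.Lib.PolLaw.Residue
import Groth.Agent.Lib.PolLaw.Sym
import Mathlib.RingTheory.Adjoin.Tower
import Mathlib.RingTheory.FiniteType
import Mathlib.RingTheory.IntegralClosure.IsIntegralClosure.Basic
import Mathlib.RingTheory.Polynomial.Basic
import Mathlib.Algebra.MvPolynomial.Basic
import Mathlib.Algebra.Algebra.ZMod

/-!
# `Γ^d` of a finite type algebra is of finite type
-/

universe u

open TensorProduct

namespace GrothLib.PolLaw

section Noetherian

variable {A B : Type u} [CommRing A] [CommRing B] [Algebra A B] {d : ℕ}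

instance finiteType_pow [Algebra.FiniteType A B] : Algebra.FiniteType A (⨂[A] _ : Fin d, B) := by
  classical
  obtain ⟨s, hs⟩ := (Algebra.FiniteType.out : (⊤ : Subalgebra A B).FG)
  refine ⟨⟨(Finset.univ : Finset (Fin d)).biUnion fun j =>
    s.image (PiTensorProduct.singleAlgHom (R := A) (A := fun _ : Fin d => B) j), ?_⟩⟩
  refine eq_top_iff.mpr fun t _ => ?_
  induction t using PiTensorProduct.induction_on with
  | add x y hx hy => exact add_mem (hx trivial) (hy trivial)
  | smul_tprod r f =>
    refine Subalgebra.smul_mem _ ?_ r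
    rw [← prod_singleAlgHom]
    refine Subalgebra.prod_mem _ fun j _ => ?_
    have : f j ∈ Algebra.adjoin A (s : Set B) := hs ▸ trivial
    have h2 : PiTensorProduct.singleAlgHom (R := A) (A := fun _ : Fin d => B) j (f j) ∈
        (Algebra.adjoin A (s : Set B)).map (PiTensorProduct.singleAlgHom (R := A) (A := fun _ : Fin d => B) j) :=
      ⟨_, this, rfl⟩
    rw [AlgHom.map_adjoin] at h2
    refine Algebra.adjoin_mono ?_ h2
    intro z hz
    simp only [Finset.coe_biUnion, Finset.coe_image, Set.mem_iUnion]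
    exact ⟨j, Finset.mem_univ j, hz⟩

/-- Symmetric tensors of a finite type algebra over a Noetherian ring are of finite type. -/
theorem finiteType_TS_of_noetherian [IsNoetherianRing A] [Algebra.FiniteType A B] :
    Algebra.FiniteType A (SymTen.TS A B d) := by
  have := isIntegral_TS (A := A) (B := B) (d := d)
  have : Algebra.FiniteType (SymTen.TS A B d) (⨂[A] _ : Fin d, B) :=
    Algebra.FiniteType.of_restrictScalars_finiteType A _ _
  have hfin : Module.Finite (SymTen.TS A B d) (⨂[A] _ : Fin d, B) := Algebra.IsIntegral.finite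
  exact ⟨fg_of_fg_of_fg A (SymTen.TS A B d) (⨂[A] _ : Fin d, B) Algebra.FiniteType.out hfin.fg_top
    Subtype.val_injective⟩

end Noetherian

section Polynomial

variable (A₀ : Type u) [CommRing A₀] {A : Type u} [CommRing A] [Algebra A₀ A] {r d : ℕ}

/-- Change of scalars on tensor powers of polynomial rings. -/
noncomputable def powMap : (⨂[A₀] _ : Fin d, MvPolynomial (Fin r) A₀) →ₐ[A₀]
    ⨂[A] _ : Fin d, MvPolynomial (Fin r) A :=
  PiTensorProduct.liftAlgHom
    (((PiTensorProduct.tprod A (s := fun _ : Fin d => MvPolynomial (Fin r) A)).restrictScalars A₀).compLinearMap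
      fun _ => (MvPolynomial.mapAlgHom (Algebra.ofId A₀ A)).toLinearMap)
    (by
      simp only [MultilinearMap.compLinearMap_apply, MultilinearMap.coe_restrictScalars, Pi.one_apply,
        AlgHom.toLinearMap_apply, map_one]
      rfl)
    (by
      intro x y
      simp only [MultilinearMap.compLinearMap_apply, MultilinearMap.coe_restrictScalars,
        AlgHom.toLinearMap_apply, Pi.mul_apply, map_mul]
      exact (PiTensorProduct.tprod_mul_tprod _ _).symm)

lemma powMap_orbit {n : ℕ} (m : Fin n → MvPolynomial (Fin r) A₀) (μ : Fin n →₀ ℕ) :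
    powMap A₀ (A := A) (d := d) (orbit A₀ m μ) =
      orbit A (fun i => MvPolynomial.map (algebraMap A₀ A) (m i)) μ := by
  classical
  rw [orbit, orbit, map_sum]
  refine Finset.sum_congr rfl fun p _ => ?_
  simp [powMap, Function.comp_def, MvPolynomial.mapAlgHom_apply]

/-- Symmetric tensors of a polynomial ring are of finite type. -/
theorem finiteType_TS_polynomial [IsNoetherianRing A₀] :
    Algebra.FiniteType A (SymTen.TS A (MvPolynomial (Fin r) A) d) := by
  classical
  obtain ⟨s, hs⟩ := (finiteType_TS_of_noetherian (A := A₀) (B := MvPolynomial (Fin r) A₀) (d := d)).out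
  let b := (MvPolynomial.basisMonomials (Fin r) A).reindex (Equiv.ulift.{u, 0}).symm
  have hmem : ∀ g : SymTen.TS A₀ (MvPolynomial (Fin r) A₀) d,
      powMap A₀ (A := A) (g : ⨂[A₀] _ : Fin d, MvPolynomial (Fin r) A₀) ∈
        SymTen.TS A (MvPolynomial (Fin r) A) d := by
    intro g σ
    conv_rhs => rw [← g.2 σ]
    generalize (g : ⨂[A₀] _ : Fin d, MvPolynomial (Fin r) A₀) = t
    induction t using PiTensorProduct.induction_on with
    | smul_tprod c f =>
      have hs' : ∀ y : ⨂[A] _ : Fin d, MvPolynomial (Fin r) A,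
          PiTensorProduct.reindex A (fun _ : Fin d => MvPolynomial (Fin r) A) σ (c • y) =
            c • PiTensorProduct.reindex A (fun _ : Fin d => MvPolynomial (Fin r) A) σ y := fun y => by
        rw [← algebraMap_smul A c y, LinearEquiv.map_smul, algebraMap_smul]
      rw [map_smul (powMap A₀), hs', LinearEquiv.map_smul, map_smul (powMap A₀)]
      congr 1
      simp [powMap, PiTensorProduct.reindex_tprod]
    | add x y hx hy => simp only [map_add, hx, hy]
  let G : SymTen.TS A₀ (MvPolynomial (Fin r) A₀) d → SymTen.TS A (MvPolynomial (Fin r) A) d :=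
    fun g => ⟨_, hmem g⟩
  refine ⟨⟨s.image G, eq_top_iff.mpr fun t _ => ?_⟩⟩
  let K := (Algebra.adjoin A (s.image G : Set (SymTen.TS A (MvPolynomial (Fin r) A) d))).map
    (SymTen.TS A (MvPolynomial (Fin r) A) d).val
  suffices h : (t : ⨂[A] _ : Fin d, MvPolynomial (Fin r) A) ∈ K by
    obtain ⟨t', ht', e⟩ := h
    rwa [show t = t' from Subtype.ext e.symm]
  have hK : ∀ g : SymTen.TS A₀ (MvPolynomial (Fin r) A₀) d,
      powMap A₀ (A := A) (g : ⨂[A₀] _ : Fin d, MvPolynomial (Fin r) A₀) ∈ K := by
    intro g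
    have hg : g ∈ Algebra.adjoin A₀ (s : Set (SymTen.TS A₀ (MvPolynomial (Fin r) A₀) d)) := hs ▸ trivial
    induction hg using Algebra.adjoin_induction with
    | mem x hx => exact ⟨G x, Algebra.subset_adjoin (Finset.mem_image_of_mem _ hx), rfl⟩
    | algebraMap c =>
      rw [show ((algebraMap A₀ (SymTen.TS A₀ (MvPolynomial (Fin r) A₀) d) c :
          SymTen.TS A₀ (MvPolynomial (Fin r) A₀) d) : ⨂[A₀] _ : Fin d, MvPolynomial (Fin r) A₀) =
        algebraMap A₀ _ c from rfl, AlgHom.commutes, Algebra.algebraMap_eq_smul_one, ← algebraMap_smul A c]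
      exact K.smul_mem (one_mem K) _
    | add x y _ _ hx hy => rw [AddMemClass.coe_add, map_add]; exact add_mem hx hy
    | mul x y _ _ hx hy => rw [MulMemClass.coe_mul, map_mul]; exact mul_mem hx hy
  refine Submodule.span_le.mpr ?_ (mem_span_orbit_basis b (mem_symTensor.mpr t.2))
    |> fun h => (show _ ∈ Subalgebra.toSubmodule K from h)
  rintro _ ⟨n, e, μ, rfl⟩
  have he : orbit A (b ∘ e) μ = powMap A₀ (A := A) (d := d)
      (orbit A₀ (fun i => (MvPolynomial.monomial (e i).down (1 : A₀) : MvPolynomial (Fin r) A₀)) μ) := by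
    rw [powMap_orbit]
    congr 1
    funext i
    simp [b, MvPolynomial.coe_basisMonomials]
  rw [he]
  exact hK ⟨_, mem_symTensor.mp (orbit_mem_symTensor _ μ)⟩

end Polynomial

/-- The divided power algebra of a finite type algebra is of finite type. -/
theorem finiteType_of_isGammaD {A B C : Type u} [CommRing A] [CommRing B] [Algebra A B] [CommRing C]
    [Algebra A C] {d : ℕ} (γ : _root_.PolLaw.MulLaw A B C d) (hγ : _root_.PolLaw.IsGammaD γ)
    [Algebra.FiniteType A B] : Algebra.FiniteType A C := by
  let : Algebra (ULift.{u} ℤ) A :=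
    ((Int.castRingHom A).comp (ULift.ringEquiv (R := ℤ)).toRingHom).toAlgebra
  have : IsNoetherianRing (ULift.{u} ℤ) := isNoetherianRing_of_ringEquiv ℤ ULift.ringEquiv.symm
  obtain ⟨r, π, hπ⟩ := Algebra.FiniteType.iff_quotient_mvPolynomial''.mp (‹Algebra.FiniteType A B›)
  have := finiteType_TS_polynomial (ULift.{u} ℤ) (A := A) (r := r) (d := d)
  have : Module.Free A (MvPolynomial (Fin r) A) := Module.Free.of_basis (MvPolynomial.basisMonomials _ _)
  obtain ⟨f, hf, -⟩ := isGammaD_symLaw_of_flat C (γ.precomp π)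
  refine Algebra.FiniteType.of_surjective f fun c => ?_
  have hc : c ∈ coeffSpan γ.law := by rw [coeffSpan_eq_top hγ]; trivial
  refine (show c ∈ LinearMap.range f.toLinearMap from Submodule.span_le.mpr ?_ hc)
  rintro _ ⟨n, m, μ, rfl⟩
  choose m' hm' using fun i => hπ (m i)
  refine ⟨coeff (symLaw A (MvPolynomial (Fin r) A) d).law m' μ, ?_⟩
  rw [← coeff_postcomp, hf]
  show coeff (_root_.PolLaw.precomp γ.law π.toLinearMap) m' μ = _
  rw [coeff_precomp]
  congr 2
  exact funext hm'

end GrothLib.PolLaw
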