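import Groth.Agent.Lib.PolLaw.Free
import Mathlib.RingTheory.Flat.EquationalCriterion
import Mathlib.LinearAlgebra.Finsupp.Supported
import Mathlib.LinearAlgebra.Basis.Prod
import Mathlib.RingTheory.Finiteness.Basic

/-!
# Symmetric tensors of a flat module

A tensor killed in `⨂^d M`, `M` flat, is killed at a finite free stage; hence symmetric tensors of a
flat module are spanned by orbit sums and homogeneous laws extend linearly to them.
-/

universe u

open TensorProduct

namespace GrothLib.PolLaw

variable {A : Type u} [CommRing A] {M : Type u} [AddCommGroup M] [Module A M] {d : ℕ}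

/-- The map on tensor powers induced by a linear map. -/
noncomputable abbrev tmap₁ {L L' : Type u} [AddCommGroup L] [Module A L] [AddCommGroup L'] [Module A L']
    (f : L →ₗ[A] L') : (⨂[A] _ : Fin d, L) →ₗ[A] (⨂[A] _ : Fin d, L') :=
  PiTensorProduct.map fun _ : Fin d => f

section maps

variable {L L' L'' : Type u} [AddCommGroup L] [Module A L] [AddCommGroup L'] [Module A L']
  [AddCommGroup L''] [Module A L'']

lemma tmap₁_comp (g : L' →ₗ[A] L'') (f : L →ₗ[A] L') (t : ⨂[A] _ : Fin d, L) :
    tmap₁ (g ∘ₗ f) t = tmap₁ g (tmap₁ f t) := by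
  induction t using PiTensorProduct.induction_on with
  | smul_tprod r x => simp [tmap₁, PiTensorProduct.map_tprod]
  | add x y hx hy => simp [hx, hy]

lemma tmap₁_reindex (f : L →ₗ[A] L') (σ : Equiv.Perm (Fin d)) (t : ⨂[A] _ : Fin d, L) :
    tmap₁ f (PiTensorProduct.reindex A (fun _ : Fin d => L) σ t) =
      PiTensorProduct.reindex A (fun _ : Fin d => L') σ (tmap₁ f t) := by
  induction t using PiTensorProduct.induction_on with
  | smul_tprod r x =>
    simp only [map_smul, tmap₁, PiTensorProduct.reindex_tprod, PiTensorProduct.map_tprod]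
  | add x y hx hy => simp [hx, hy]

lemma tmap₁_orbit (f : L →ₗ[A] L') {ι : Type} [Fintype ι] (m : ι → L) (μ : ι →₀ ℕ) :
    tmap₁ f (orbit (d := d) A m μ) = orbit A (f ∘ m) μ := by
  simp [orbit, tmap₁, PiTensorProduct.map_tprod, map_sum, Function.comp_def]

lemma tmap₁_mem_symTensor (f : L →ₗ[A] L') {t : ⨂[A] _ : Fin d, L} (ht : t ∈ symTensor A L d) :
    tmap₁ f t ∈ symTensor A L' d := by
  rw [mem_symTensor] at ht ⊢
  intro σ
  rw [← tmap₁_reindex, ht σ]

/-- The kernel of the power of a surjection consists of tensors with a factor in the kernel. -/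
lemma ker_tmap₁_le (π : L →ₗ[A] L') (hπ : Function.Surjective π) :
    LinearMap.ker (tmap₁ (d := d) π) ≤
      Submodule.span A {x | ∃ (f : Fin d → L) (j : Fin d), π (f j) = 0 ∧ x = PiTensorProduct.tprod A f} := by
  set R := Submodule.span A {x | ∃ (f : Fin d → L) (j : Fin d), π (f j) = 0 ∧ x = PiTensorProduct.tprod A f}
  let s : L' → L := Function.surjInv hπ
  have hs : ∀ y, π (s y) = y := Function.surjInv_eq hπ
  have hupd : ∀ [DecidableEq (Fin d)] (f : Fin d → L) (j : Fin d) (v w : L), π v = π w →
      R.mkQ (PiTensorProduct.tprod A (Function.update f j v)) =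
        R.mkQ (PiTensorProduct.tprod A (Function.update f j w)) := by
    intro _ f j v w h
    rw [← sub_eq_zero, ← map_sub, ← MultilinearMap.map_update_sub, Submodule.mkQ_apply,
      Submodule.Quotient.mk_eq_zero]
    exact Submodule.subset_span ⟨_, j, by simp [h], rfl⟩
  have hs' : ∀ [DecidableEq (Fin d)] (b : Fin d → L') (j : Fin d) (y : L'),
      (fun i => s (Function.update b j y i)) = Function.update (fun i => s (b i)) j (s y) := by
    intro _ b j y
    funext i
    exact Function.apply_update (fun _ => s) b j y i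
  let inv : MultilinearMap A (fun _ : Fin d => L') ((⨂[A] _ : Fin d, L) ⧸ R) :=
    { toFun := fun b => R.mkQ (PiTensorProduct.tprod A fun i => s (b i))
      map_update_add' := fun b j x y => by
        simp only [hs']
        rw [hupd _ j (s (x + y)) (s x + s y) (by simp [hs]), MultilinearMap.map_update_add, map_add]
      map_update_smul' := fun b j c x => by
        simp only [hs']
        rw [hupd _ j (s (c • x)) (c • s x) (by simp [hs]), MultilinearMap.map_update_smul, map_smul] }
  have hinv : ∀ t, PiTensorProduct.lift inv (tmap₁ π t) = R.mkQ t := by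
    intro t
    induction t using PiTensorProduct.induction_on with
    | smul_tprod r f =>
      simp only [map_smul, tmap₁, PiTensorProduct.map_tprod, PiTensorProduct.lift.tprod]
      congr 1
      show R.mkQ (PiTensorProduct.tprod A fun i => s (π (f i))) = R.mkQ (PiTensorProduct.tprod A f)
      classical
      suffices h : ∀ (S : Finset (Fin d)), R.mkQ (PiTensorProduct.tprod A fun i => if i ∈ S then s (π (f i)) else f i) =
          R.mkQ (PiTensorProduct.tprod A f) by simpa using! h Finset.univ
      intro S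
      induction S using Finset.induction_on with
      | empty => simp
      | insert j S hj ih =>
        rw [← ih]
        have e1 : (fun i => if i ∈ insert j S then s (π (f i)) else f i) =
            Function.update (fun i => if i ∈ S then s (π (f i)) else f i) j (s (π (f j))) := by
          funext i
          by_cases hi : i = j
          · subst hi; simp
          · simp [hi]
        have e2 : (fun i => if i ∈ S then s (π (f i)) else f i) =
            Function.update (fun i => if i ∈ S then s (π (f i)) else f i) j (f j) := by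
          funext i
          by_cases hi : i = j
          · subst hi; simp [hj]
          · simp [hi]
        rw [e1, hupd _ j _ (f j) (hs _), ← e2]
    | add x y hx hy => simp [hx, hy]
  intro t ht
  rw [← Submodule.Quotient.mk_eq_zero R, ← Submodule.mkQ_apply, ← hinv, LinearMap.mem_ker.mp ht, map_zero]

end maps

variable [Module.Flat A M]

/-- A tensor killed in `⨂^d M` is killed at a finite free stage. -/
lemma exists_kill {L : Type u} [AddCommGroup L] [Module A L] [Module.Free A L] [Module.Finite A L]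
    (x : L →ₗ[A] M) {t : ⨂[A] _ : Fin d, L} (ht : tmap₁ x t = 0) :
    ∃ (k : ℕ) (a : L →ₗ[A] (Fin k →₀ A)) (y : (Fin k →₀ A) →ₗ[A] M), x = y ∘ₗ a ∧ tmap₁ a t = 0 := by
  classical
  let π : L × (M →₀ A) →ₗ[A] M := x.coprod (Finsupp.linearCombination A (id : M → M))
  have hπ : Function.Surjective π := fun m => ⟨(0, Finsupp.single m 1), by simp [π]⟩
  have h0 : tmap₁ (LinearMap.inl A L (M →₀ A)) t ∈ LinearMap.ker (tmap₁ (d := d) π) := by
    rw [LinearMap.mem_ker, ← tmap₁_comp]
    simp [π, LinearMap.coprod_inl, ht]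
  obtain ⟨n, c, g, hg⟩ := Submodule.mem_span_set'.mp (ker_tmap₁_le π hπ h0)
  choose f j hfj hgf using fun i => (g i).2
  let s : Finset M := Finset.univ.biUnion fun i => ((f i (j i)).2).support
  let ρ : L × (M →₀ A) →ₗ[A] L × (s →₀ A) :=
    LinearMap.id.prodMap (Finsupp.lsubtypeDomain (R := A) (M := A) (s : Set M))
  let x₁ : L × (s →₀ A) →ₗ[A] M := x.coprod (Finsupp.linearCombination A ((↑) : s → M))
  let v : Fin n → L × (s →₀ A) := fun i => ρ (f i (j i))
  have hv : ∀ i, x₁ (v i) = 0 := by
    intro i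
    rw [← hfj i]
    have hsub : (↑((f i (j i)).2).support : Set M) ⊆ (s : Set M) := fun m hm => by
      simp only [s, Finset.coe_biUnion, Set.mem_iUnion]
      exact ⟨i, Finset.mem_univ i, hm⟩
    simp only [v, x₁, π, ρ, LinearMap.prodMap_apply, LinearMap.coprod_apply, LinearMap.id_coe, id]
    congr 1
    rw [Finsupp.linearCombination_apply, Finsupp.linearCombination_apply]
    exact Finsupp.sum_subtypeDomain_index (p := fun m => m ∈ (s : Set M))
      (h := fun m a => a • m) fun m hm => hsub hm
  have : Module.Free A (L × (s →₀ A)) :=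
    Module.Free.of_basis ((Module.Free.chooseBasis A L).prod Finsupp.basisSingleOne)
  have : Module.Finite A (L × (s →₀ A)) :=
    Module.Finite.of_basis ((Module.Free.chooseBasis A L).prod Finsupp.basisSingleOne)
  obtain ⟨k, a, y, hxy, hav⟩ := Module.Flat.exists_factorization_of_comp_eq_zero_of_free
    (f := Fintype.linearCombination A v) (x := x₁) (by
      refine LinearMap.ext fun c => ?_
      simp [Fintype.linearCombination_apply, hv])
  refine ⟨k, a ∘ₗ LinearMap.inl A L (s →₀ A), y, ?_, ?_⟩
  · rw [← LinearMap.comp_assoc, ← hxy]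
    simp [x₁, LinearMap.coprod_inl]
  · have e : a ∘ₗ LinearMap.inl A L (s →₀ A) = (a ∘ₗ ρ) ∘ₗ LinearMap.inl A L (M →₀ A) := by
      ext l
      simp [ρ]
    rw [e, tmap₁_comp, ← hg, map_sum]
    refine Finset.sum_eq_zero fun i _ => ?_
    rw [map_smul, hgf i, tmap₁, PiTensorProduct.map_tprod,
      MultilinearMap.map_coord_zero _ (j i), smul_zero]
    have := DFunLike.congr_fun hav (Pi.single i 1)
    simpa [Fintype.linearCombination_apply_single, v] using! this

omit [Module.Flat A M] in
/-- Every tensor comes from a finite free stage. -/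
lemma exists_lift_tensor (t : ⨂[A] _ : Fin d, M) :
    ∃ (n : ℕ) (y : (Fin n →₀ A) →ₗ[A] M) (t₀ : ⨂[A] _ : Fin d, (Fin n →₀ A)), tmap₁ y t₀ = t := by
  induction t using PiTensorProduct.induction_on with
  | smul_tprod r f =>
    refine ⟨d, Finsupp.linearCombination A f,
      r • PiTensorProduct.tprod A fun i => Finsupp.single i 1, ?_⟩
    simp [tmap₁, PiTensorProduct.map_tprod]
  | add t₁ t₂ h₁ h₂ =>
    obtain ⟨n₁, y₁, s₁, rfl⟩ := h₁
    obtain ⟨n₂, y₂, s₂, rfl⟩ := h₂
    let e : (Fin (n₁ + n₂) →₀ A) ≃ₗ[A] (Fin n₁ →₀ A) × (Fin n₂ →₀ A) :=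
      (Finsupp.domLCongr finSumFinEquiv.symm).trans (Finsupp.sumFinsuppLEquivProdFinsupp A)
    refine ⟨n₁ + n₂, (y₁.coprod y₂) ∘ₗ e.toLinearMap,
      tmap₁ (e.symm.toLinearMap ∘ₗ LinearMap.inl A _ _) s₁ +
        tmap₁ (e.symm.toLinearMap ∘ₗ LinearMap.inr A _ _) s₂, ?_⟩
    rw [map_add, ← tmap₁_comp, ← tmap₁_comp]
    congr 2 <;> congr 1 <;> ext <;> simp

/-- Symmetric tensors lift to symmetric tensors at a finite free stage. -/
lemma exists_symm_lift {t : ⨂[A] _ : Fin d, M} (ht : t ∈ symTensor A M d) :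
    ∃ (n : ℕ) (y : (Fin n →₀ A) →ₗ[A] M) (t₀ : ⨂[A] _ : Fin d, (Fin n →₀ A)),
      t₀ ∈ symTensor A _ d ∧ tmap₁ y t₀ = t := by
  classical
  suffices h : ∀ S : Finset (Equiv.Perm (Fin d)),
      ∃ (n : ℕ) (y : (Fin n →₀ A) →ₗ[A] M) (t₀ : ⨂[A] _ : Fin d, (Fin n →₀ A)),
        (∀ σ ∈ S, PiTensorProduct.reindex A (fun _ : Fin d => (Fin n →₀ A)) σ t₀ = t₀) ∧
          tmap₁ y t₀ = t by
    obtain ⟨n, y, t₀, h₁, h₂⟩ := h Finset.univ
    exact ⟨n, y, t₀, mem_symTensor.mpr fun σ => h₁ σ (Finset.mem_univ σ), h₂⟩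
  intro S
  induction S using Finset.induction_on with
  | empty =>
    obtain ⟨n, y, t₀, h⟩ := exists_lift_tensor t
    exact ⟨n, y, t₀, by simp, h⟩
  | insert σ S _ ih =>
    obtain ⟨n, y, t₀, hS, hy⟩ := ih
    obtain ⟨k, a, y', hyy, hat⟩ := exists_kill y
      (t := PiTensorProduct.reindex A (fun _ : Fin d => (Fin n →₀ A)) σ t₀ - t₀) (by
        rw [map_sub, tmap₁_reindex, hy, mem_symTensor.mp ht, sub_self])
    refine ⟨k, y', tmap₁ a t₀, fun τ hτ => ?_, by rw [← tmap₁_comp, ← hyy, hy]⟩
    rcases Finset.mem_insert.mp hτ with rfl | hτ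
    · rw [← tmap₁_reindex]
      exact sub_eq_zero.mp ((map_sub _ _ _).symm.trans hat)
    · rw [← tmap₁_reindex, hS τ hτ]

lemma symTensor_eq_orbitSpan_of_flat : symTensor A M d = orbitSpan A M d := by
  refine le_antisymm (fun t ht => ?_) orbitSpan_le
  obtain ⟨n, y, t₀, h₀, rfl⟩ := exists_symm_lift ht
  rw [symTensor_eq_orbitSpan (Finsupp.basisSingleOne (R := A) (ι := ULift.{u} (Fin n)) |>.map
    (Finsupp.domLCongr Equiv.ulift))] at h₀
  clear ht
  induction h₀ using Submodule.span_induction with
  | mem s hs =>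
    obtain ⟨k, m, μ, rfl⟩ := hs
    rw [tmap₁_orbit]
    exact Submodule.subset_span ⟨k, _, μ, rfl⟩
  | zero => simp
  | add a b _ _ ha hb => rw [map_add]; exact add_mem ha hb
  | smul r a _ ha => rw [map_smul]; exact Submodule.smul_mem _ _ ha

end GrothLib.PolLaw
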