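import Groth.Agent.Lib.PolLaw.ToTensor
import Mathlib.LinearAlgebra.PiTensorProduct.Basis
import Mathlib.LinearAlgebra.FreeModule.Basic
import Mathlib.Data.Fintype.Perm
import Mathlib.Logic.Equiv.Basic

/-!
# Symmetric tensors of a free module and homogeneous laws

For free `M` the symmetric tensors are spanned by the orbit sums `orbit A m μ` and every homogeneous
law `F` of degree `d` gives a linear map `psi F b` on the tensor power taking `orbit A m μ` to the
coefficient of `F` at `μ`.
-/

universe u

open TensorProduct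

namespace GrothLib.PolLaw

open MvPolynomial (X C monomial)

variable {A : Type u} [CommRing A] {M N : Type u} [AddCommGroup M] [Module A M]
  [AddCommGroup N] [Module A N] {d : ℕ}

lemma exists_perm_of_pat_eq {α : Type*} {p q : Fin d → α} (h : pat p = pat q) :
    ∃ σ : Equiv.Perm (Fin d), q ∘ σ = p := by
  classical
  have e : ∀ c, {a // p a = c} ≃ {b // q b = c} := fun c => Fintype.equivOfCardEq (by
    have h' := congrArg (· c) h
    simp only [pat_apply] at h'
    simpa [Fintype.card_subtype] using h')
  exact ⟨Equiv.ofFiberEquiv e, funext fun a => Equiv.ofFiberEquiv_map e a⟩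

lemma pat_map {α β : Type*} (e : α → β) (p : Fin d → α) : pat (e ∘ p) = (pat p).mapDomain e := by
  simp [pat, Finsupp.mapDomain_finsetSum, Finsupp.mapDomain_single]

lemma mem_range_of_pat_eq_mapDomain {α β : Type*} {e : α → β} {q : Fin d → β} {ν : α →₀ ℕ}
    (h : pat q = ν.mapDomain e) (l : Fin d) : q l ∈ Set.range e := by
  classical
  by_contra hl
  have h' := congrArg (· (q l)) h
  simp only [pat_apply, Finsupp.mapDomain_of_notMem_range ν _ hl] at h'
  exact Finset.notMem_empty l (Finset.card_eq_zero.mp h' ▸ Finset.mem_filter.mpr ⟨Finset.mem_univ l, rfl⟩)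

/-- Restricting a coefficient to a section of the index list. -/
lemma coeff_comp_section {ι : Type} [Fintype ι] {F : M →ₚₗ[A] N} (hF : _root_.PolLaw.IsHomog F d)
    (m : ι → M) (p : Fin d → ι) (q : Fin d → Fin d) (hpq : p ∘ q = p)
    (hq : ∀ i j, p i = p j → q i = q j) :
    coeff F (m ∘ p) (pat q) = coeff F m (pat p) := by
  classical
  have e : m ∘ p = fun k => ∑ i, (if p k = i then (1 : A) else 0) • m i := by
    funext k; simp [ite_smul]
  rw [e, coeff_linComb, Finsupp.sum, Finset.sum_eq_single (pat p)]
  · rw [prod_pow_pat, coeff_prod_linearForm, Finset.sum_eq_single q, Finset.prod_eq_one, one_smul]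
    · exact fun l _ => if_pos (congrFun hpq l)
    · intro g hg hne
      obtain ⟨σ, hσ⟩ := exists_perm_of_pat_eq (Finset.mem_filter.mp hg).2
      obtain ⟨l, hl⟩ := Function.ne_iff.mp hne
      refine Finset.prod_eq_zero (Finset.mem_univ l) (if_neg fun hpl => hl ?_)
      have hql : q (σ l) = g l := congrFun hσ l
      calc g l = q (σ l) := hql.symm
        _ = q l := hq _ _ (by
          rw [← hql] at hpl
          exact (congrFun hpq (σ l)).symm.trans hpl)
    · intro h; exact absurd (by simp) h
  · intro μ hμ hne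
    have hdeg : ∑ i, μ i = d := by
      by_contra h
      exact Finsupp.mem_support_iff.mp hμ (coeff_eq_zero hF m h)
    obtain ⟨r, rfl⟩ := exists_pat_eq d hdeg
    rw [prod_pow_pat, coeff_prod_linearForm, Finset.sum_eq_zero, zero_smul]
    intro g hg
    by_contra hprod
    obtain ⟨σ, hσ⟩ := exists_perm_of_pat_eq (Finset.mem_filter.mp hg).2
    refine hne ?_
    have hr : r = p ∘ σ := funext fun l => by
      have hl : p (g l) = r l := by
        by_contra hl
        exact hprod (Finset.prod_eq_zero (Finset.mem_univ l) (if_neg hl))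
      rw [← hl, ← hσ]
      exact congrFun hpq (σ l)
    rw [hr, pat_comp_perm]
  · intro h; simp [Finsupp.notMem_support_iff.mp h]

variable (A) in
/-- The orbit sum of a family at an exponent vector. -/
noncomputable def orbit {ι : Type} [Fintype ι] (m : ι → M) (μ : ι →₀ ℕ) : ⨂[A] _ : Fin d, M :=
  open Classical in ∑ p : Fin d → ι with pat p = μ, PiTensorProduct.tprod A (m ∘ p)

variable (A M d) in
/-- Symmetric tensors of a module. -/
noncomputable def symTensor : Submodule A (⨂[A] _ : Fin d, M) :=
  ⨅ σ : Equiv.Perm (Fin d),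
    LinearMap.eqLocus (PiTensorProduct.reindex A (fun _ : Fin d => M) σ).toLinearMap LinearMap.id

lemma mem_symTensor {t : ⨂[A] _ : Fin d, M} : t ∈ symTensor A M d ↔
    ∀ σ : Equiv.Perm (Fin d), PiTensorProduct.reindex A (fun _ : Fin d => M) σ t = t := by
  simp [symTensor, LinearMap.mem_eqLocus]

lemma orbit_mem_symTensor {ι : Type} [Fintype ι] (m : ι → M) (μ : ι →₀ ℕ) :
    orbit (d := d) A m μ ∈ symTensor A M d := by
  classical
  refine mem_symTensor.mpr fun σ => ?_
  rw [orbit, map_sum]
  refine Finset.sum_bij (fun p _ => p ∘ σ.symm) ?_ ?_ ?_ ?_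
  · intro p hp
    simp only [Finset.mem_filter, Finset.mem_univ, true_and] at hp ⊢
    rw [pat_comp_perm, hp]
  · exact fun p _ q _ h => funext fun l => by simpa using congrFun h (σ l)
  · intro p hp
    simp only [Finset.mem_filter, Finset.mem_univ, true_and] at hp
    exact ⟨p ∘ σ, Finset.mem_filter.mpr ⟨Finset.mem_univ _, by rw [pat_comp_perm, hp]⟩,
      funext fun l => by simp⟩
  · intro p _
    rw [PiTensorProduct.reindex_tprod]
    rfl

variable {I : Type u} (b : Module.Basis I A M)

/-- A chosen list of indices with a given pattern, if there is one. -/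
noncomputable def rep' (d : ℕ) (q : Fin d → I) : Fin d → I :=
  (⟨q, rfl⟩ : ∃ r : Fin d → I, pat r = pat q).choose

lemma rep'_eq_of_pat_eq {q q' : Fin d → I} (h : pat q = pat q') : rep' (I := I) d q = rep' (I := I) d q' := by
  unfold rep'
  simp only [h]

/-- First occurrence of each entry. -/
noncomputable def firstIdx {α : Type*} (r : Fin d → α) (l : Fin d) : Fin d :=
  open Classical in (Finset.univ.filter fun l' => r l' = r l).min' ⟨l, by simp⟩

lemma apply_firstIdx {α : Type*} (r : Fin d → α) (l : Fin d) : r (firstIdx r l) = r l := by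
  classical
  exact (Finset.mem_filter.mp
    (Finset.min'_mem (Finset.univ.filter fun l' => r l' = r l) ⟨l, by simp⟩)).2

lemma firstIdx_eq {α : Type*} (r : Fin d → α) {i j : Fin d} (h : r i = r j) :
    firstIdx r i = firstIdx r j := by
  classical
  unfold firstIdx
  congr 1
  ext l
  simp [h]

/-- The linear map on the tensor power attached to a law and a basis. -/
noncomputable def psi (F : M →ₚₗ[A] N) : (⨂[A] _ : Fin d, M) →ₗ[A] N :=
  open Classical in (Basis.piTensorProduct fun _ : Fin d => b).constr A fun r =>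
    if rep' (I := I) d r = r then coeff F (fun l => b (r l)) (pat (firstIdx r)) else 0

variable {F : M →ₚₗ[A] N} (hF : _root_.PolLaw.IsHomog F d)

include hF in
lemma psi_orbit {ι : Type} [Fintype ι] (m : ι → M) (μ : ι →₀ ℕ) :
    psi b F (orbit (d := d) A m μ) = coeff F m μ := by
  classical
  let J : Finset I := Finset.univ.biUnion fun i => (b.repr (m i)).support
  let eJ := J.equivFin.symm
  let e : Fin J.card → I := fun j => (eJ j : I)
  have he : Function.Injective e := fun i j h => eJ.injective (Subtype.ext h)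
  let a : ι → Fin J.card → A := fun i j => b.repr (m i) (e j)
  have hm : m = fun i => ∑ j, a i j • b (e j) := by
    funext i
    have hsub : (b.repr (m i)).support ⊆ J :=
      Finset.subset_biUnion_of_mem (fun i => (b.repr (m i)).support) (Finset.mem_univ i)
    conv_lhs => rw [← b.linearCombination_repr (m i),
      Finsupp.linearCombination_apply, Finsupp.sum_of_support_subset _ hsub _ (by simp),
      ← Finset.sum_coe_sort, ← eJ.sum_comp]
  have hexp : ∀ p : Fin d → ι, psi b F (PiTensorProduct.tprod A (m ∘ p)) =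
      ∑ r : Fin d → Fin J.card, (∏ l, a (p l) (r l)) •
        (if rep' (I := I) d (e ∘ r) = e ∘ r then coeff F (b ∘ e) (pat r) else 0) := by
    intro p
    rw [hm, show ((fun i => ∑ j, a i j • b (e j)) ∘ p) = fun l => ∑ j, a (p l) j • b (e j) from rfl,
      MultilinearMap.map_sum, map_sum]
    refine Finset.sum_congr rfl fun r _ => ?_
    rw [MultilinearMap.map_smul_univ, map_smul]
    congr 1
    have hb : PiTensorProduct.tprod A (fun l => b (e (r l))) =
        Basis.piTensorProduct (fun _ : Fin d => b) (e ∘ r) := by simp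
    rw [hb, psi, Module.Basis.constr_basis]
    split_ifs with h
    · have hfi : firstIdx (e ∘ r) = firstIdx r := by
        funext l
        unfold firstIdx
        congr 1
        ext l'
        simp [he.eq_iff]
      rw [hfi]
      exact coeff_comp_section hF (b ∘ e) r _ (funext fun l => apply_firstIdx r l)
        fun i j h => firstIdx_eq r h
    · rfl
  let W : (Fin d → Fin J.card) → A := fun r => ∑ p : Fin d → ι with pat p = μ, ∏ l, a (p l) (r l)
  have hW : ∀ r, W r = MvPolynomial.coeff μ (∏ j, (∑ i, C (a i j) * X i) ^ (pat r) j) := by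
    intro r
    rw [prod_pow_pat, coeff_prod_linearForm]
  let R := Finset.univ.filter fun r : Fin d → Fin J.card => rep' (I := I) d (e ∘ r) = e ∘ r
  have hL : psi b F (orbit (d := d) A m μ) = ∑ r ∈ R, W r • coeff F (b ∘ e) (pat r) := by
    rw [orbit, map_sum, Finset.sum_congr rfl fun p _ => hexp p, Finset.sum_comm, Finset.sum_filter]
    refine Finset.sum_congr rfl fun r _ => ?_
    split_ifs with h
    · rw [Finset.sum_smul]
    · simp
  have inj : Set.InjOn (fun r : Fin d → Fin J.card => pat r) R := by
    intro r hr r' hr' h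
    simp only [R, Finset.coe_filter, Finset.mem_univ, true_and, Set.mem_ofPred_eq] at hr hr'
    have h' : rep' (I := I) d (e ∘ r) = rep' (I := I) d (e ∘ r') := by
      refine rep'_eq_of_pat_eq ?_
      rw [pat_map, pat_map]; exact congrArg (Finsupp.mapDomain e) h
    rw [hr, hr'] at h'
    exact funext fun l => he (congrFun h' l)
  have himg : (coeff F (b ∘ e)).support ⊆ R.image (fun r => pat r) := by
    intro ν hν
    have hdeg : ∑ i, ν i = d := by
      by_contra h
      exact Finsupp.mem_support_iff.mp hν (coeff_eq_zero hF _ h)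
    obtain ⟨r₀, rfl⟩ := exists_pat_eq d hdeg
    have hpat : pat (rep' (I := I) d (e ∘ r₀)) = pat (e ∘ r₀) :=
      (⟨e ∘ r₀, rfl⟩ : ∃ r : Fin d → I, pat r = pat (e ∘ r₀)).choose_spec
    have hr : ∀ l, ∃ j, e j = rep' (I := I) d (e ∘ r₀) l := fun l =>
      mem_range_of_pat_eq_mapDomain (hpat.trans (pat_map e r₀)) l
    choose r hr using hr
    have hr' : e ∘ r = rep' (I := I) d (e ∘ r₀) := funext hr
    have hp : pat r = pat r₀ := Finsupp.mapDomain_injective he (by
      rw [← pat_map, ← pat_map, hr', hpat])
    refine Finset.mem_image.mpr ⟨r, Finset.mem_filter.mpr ⟨Finset.mem_univ _, ?_⟩, hp⟩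
    rw [hr']
    have hh : pat (e ∘ r) = pat (e ∘ r₀) := by rw [pat_map, pat_map, hp]
    rw [hr'] at hh
    exact rep'_eq_of_pat_eq hh
  rw [hL, show coeff F m μ = coeff F (fun i => ∑ j, a i j • (b ∘ e) j) μ by rw [hm]; rfl,
    coeff_linComb, Finsupp.sum_of_support_subset _ himg _ (fun i _ => smul_zero _),
    Finset.sum_image inj]
  exact Finset.sum_congr rfl fun r _ => by rw [hW]

variable (A M d) in
/-- The span of all orbit sums. -/
noncomputable def orbitSpan : Submodule A (⨂[A] _ : Fin d, M) :=
  Submodule.span A {t | ∃ (n : ℕ) (m : Fin n → M) (μ : Fin n →₀ ℕ), orbit A m μ = t}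

lemma orbitSpan_le : orbitSpan A M d ≤ symTensor A M d := by
  refine Submodule.span_le.mpr ?_
  rintro _ ⟨n, m, μ, rfl⟩
  exact orbit_mem_symTensor m μ

include b in
lemma mem_span_orbit_basis {t : ⨂[A] _ : Fin d, M} (ht : t ∈ symTensor A M d) :
    t ∈ Submodule.span A {s | ∃ (n : ℕ) (e : Fin n → I) (μ : Fin n →₀ ℕ), orbit A (b ∘ e) μ = s} := by
  classical
  rw [mem_symTensor] at ht
  let B := Basis.piTensorProduct fun _ : Fin d => b
  let c : (Fin d → I) → A := fun q => B.repr t q
  have hc : ∀ (q : Fin d → I) (σ : Equiv.Perm (Fin d)), c (q ∘ σ) = c q := by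
    intro q σ
    have key : ∀ s, B.repr (PiTensorProduct.reindex A (fun _ : Fin d => M) σ s) q = B.repr s (q ∘ σ) := by
      intro s
      induction s using PiTensorProduct.induction_on with
      | smul_tprod r f =>
        simp only [map_smul, Finsupp.smul_apply, PiTensorProduct.reindex_tprod, B,
          Basis.piTensorProduct_repr_tprod_apply]
        congr 1
        exact (Equiv.prod_comp σ fun i => b.repr (f (σ.symm i)) (q i)).symm.trans (by simp)
      | add x y hx hy => simp [hx, hy]
    show B.repr t (q ∘ σ) = B.repr t q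
    rw [← key, ht]
  rw [← B.linearCombination_repr t, Finsupp.linearCombination_apply, Finsupp.sum,
    ← Finset.sum_fiberwise_of_maps_to (g := fun q : Fin d → I => pat q)
      (t := (B.repr t).support.image fun q => pat q) (fun q hq => Finset.mem_image_of_mem _ hq)]
  refine Submodule.sum_mem _ fun ν hν => ?_
  obtain ⟨q₀, hq₀, rfl⟩ := Finset.mem_image.mp hν
  let J : Finset I := Finset.univ.image q₀
  let eJ := J.equivFin.symm
  let e : Fin J.card → I := fun j => (eJ j : I)
  have he : Function.Injective e := fun i j h => eJ.injective (Subtype.ext h)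
  have hrange : ∀ q : Fin d → I, pat q = pat q₀ → ∃ r : Fin d → Fin J.card, e ∘ r = q := by
    intro q hq
    obtain ⟨σ, hσ⟩ := exists_perm_of_pat_eq hq
    have : ∀ l, ∃ j, e j = q l := fun l => by
      obtain ⟨j, hj⟩ := eJ.surjective ⟨q l, Finset.mem_image.mpr ⟨σ l, Finset.mem_univ _, congrFun hσ l⟩⟩
      exact ⟨j, by simp [e, hj]⟩
    choose r hr using this
    exact ⟨r, funext hr⟩
  obtain ⟨r₀, hr₀⟩ := hrange q₀ rfl
  have key : ∑ q ∈ (B.repr t).support with pat q = pat q₀, B.repr t q • B q =
      c q₀ • orbit A (b ∘ e) (pat r₀) := by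
    rw [orbit, Finset.smul_sum]
    symm
    refine Finset.sum_bij (fun r _ => e ∘ r) ?_ ?_ ?_ ?_
    · intro r hr
      have hp : pat (e ∘ r) = pat q₀ := by
        simp only [Finset.mem_filter, Finset.mem_univ, true_and] at hr
        rw [pat_map, hr, ← pat_map, hr₀]
      refine Finset.mem_filter.mpr ⟨Finsupp.mem_support_iff.mpr ?_, hp⟩
      obtain ⟨σ, hσ⟩ := exists_perm_of_pat_eq hp
      rw [← hσ]
      exact (hc q₀ σ).trans_ne (Finsupp.mem_support_iff.mp hq₀)
    · exact fun r _ r' _ h => funext fun l => he (congrFun h l)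
    · intro q hq
      obtain ⟨r, hr⟩ := hrange q (Finset.mem_filter.mp hq).2
      refine ⟨r, ?_, hr⟩
      simp only [Finset.mem_filter, Finset.mem_univ, true_and]
      refine Finsupp.mapDomain_injective he ?_
      rw [← pat_map, ← pat_map, hr, hr₀, (Finset.mem_filter.mp hq).2]
    · intro r hr
      obtain ⟨σ, hσ⟩ := exists_perm_of_pat_eq
        (show pat (e ∘ r) = pat q₀ by
          simp only [Finset.mem_filter, Finset.mem_univ, true_and] at hr
          rw [pat_map, hr, ← pat_map, hr₀])
      rw [show B.repr t (e ∘ r) = c q₀ by rw [← hσ]; exact hc q₀ σ]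
      simp [B, Function.comp_def]
  rw [key]
  exact Submodule.smul_mem _ _ (Submodule.subset_span ⟨_, _, _, rfl⟩)

include b in
lemma symTensor_eq_orbitSpan : symTensor A M d = orbitSpan A M d := by
  refine le_antisymm (fun t ht => ?_) orbitSpan_le
  refine Submodule.span_mono ?_ (mem_span_orbit_basis b ht)
  rintro s ⟨n, e, μ, h⟩
  exact ⟨n, _, μ, h⟩

end GrothLib.PolLaw
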