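import Groth.Agent.Lib.PolLaw.Norm
import Groth.Agent.Lib.PolLaw.Flat

/-!
# The norm law `⨂^d B → Γ^d B`
-/

universe u

open TensorProduct

namespace GrothLib.PolLaw

variable {A B : Type u} [CommRing A] [CommRing B] [Algebra A B] {d : ℕ}

lemma tmap₁_eq_tmap {B' : Type u} [CommRing B'] [Algebra A B'] (f : B' →ₐ[A] B) :
    tmap₁ (d := d) f.toLinearMap = (SymTen.tmap A d f).toLinearMap :=
  PiTensorProduct.ext <| MultilinearMap.ext fun g => by simp [tmap₁, PiTensorProduct.map_tprod]

lemma tmap_surjective {B' : Type u} [CommRing B'] [Algebra A B'] (f : B' →ₐ[A] B)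
    (hf : Function.Surjective f) : Function.Surjective (SymTen.tmap A d f) := by
  intro t
  induction t using PiTensorProduct.induction_on with
  | smul_tprod r g =>
    choose g' hg' using fun i => hf (g i)
    exact ⟨r • PiTensorProduct.tprod A g', by simp [hg']⟩
  | add x y hx hy =>
    obtain ⟨x, rfl⟩ := hx
    obtain ⟨y, rfl⟩ := hy
    exact ⟨x + y, map_add _ _ _⟩

lemma tmap_symmLaw {B' : Type u} [CommRing B'] [Algebra A B'] (f : B' →ₐ[A] B) :
    _root_.PolLaw.postcomp (SymTen.tmap A d f).toLinearMap (SymTen.symmLaw A B' d).law =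
      _root_.PolLaw.precomp (SymTen.symmLaw A B d).law (SymTen.tmap A d f).toLinearMap := by
  ext S _ _ x
  show (SymTen.tmap A d f).toLinearMap.lTensor S ((SymTen.symmLaw A B' d).law.toFun' S x) =
    (SymTen.symmLaw A B d).law.toFun' S ((SymTen.tmap A d f).toLinearMap.lTensor S x)
  simp only [SymTen.symmLaw, _root_.PolLaw.MulLaw.prodMap_toFun', _root_.PolLaw.lTensor_algHom_apply,
    map_prod]
  refine Finset.prod_congr rfl fun σ _ => ?_
  induction x using TensorProduct.induction_on with
  | zero => simp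
  | tmul s t =>
    simp only [Algebra.TensorProduct.map_tmul, AlgHom.id_apply]
    congr 1
    rw [SymTen.perm_apply, SymTen.perm_apply, SymTen.tmap_reindex]
  | add x y hx hy => simp only [map_add, hx, hy]

/-- The norm law on tensors, with the lift to symmetric tensors of a polynomial cover. -/
theorem exists_normLaw {C : Type u} [CommRing C] [Algebra A C] (γ : _root_.PolLaw.MulLaw A B C d)
    (hγ : _root_.PolLaw.IsGammaD γ) (φ : C →ₐ[A] SymTen.TS A B d)
    (hφ : ∀ (S : Type u) [CommSemiring S] [Algebra A S] (n : ℕ) (s : Fin n → S) (b : Fin n → B),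
      ((SymTen.TS A B d).val.comp φ).toLinearMap.lTensor S (γ.law.toFun' S (∑ j, s j ⊗ₜ[A] b j)) =
        ∑ c : Fin d → Fin n, (∏ i, s (c i)) ⊗ₜ[A] PiTensorProduct.tprod A (fun i => b (c i))) :
    ∃ F : _root_.PolLaw.MulLaw A (⨂[A] _ : Fin d, B) C d.factorial,
      _root_.PolLaw.postcomp ((SymTen.TS A B d).val.comp φ).toLinearMap F.law =
        (SymTen.symmLaw A B d).law ∧
      _root_.PolLaw.precomp F.law ((SymTen.TS A B d).val.comp φ).toLinearMap =
        _root_.PolLaw.powLaw (A := A) (B := C) d.factorial := by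
  classical
  let B' := MvPolynomial B A
  obtain ⟨π, hπ⟩ : ∃ π : B' →ₐ[A] B, Function.Surjective π :=
    ⟨MvPolynomial.aeval id, fun b => ⟨MvPolynomial.X b, MvPolynomial.aeval_X _ b⟩⟩
  obtain ⟨πC, hπC, -⟩ := isGammaD_symLaw_of_flat (A := A) (B := B') (d := d) C
    (_root_.PolLaw.MulLaw.precomp γ π)
  have hπC' : ∀ {ι : Type} [Fintype ι] (m : ι → B') (μ : ι →₀ ℕ),
      πC (coeff (symLaw A B' d).law m μ) = coeff γ.law (π ∘ m) μ := by
    intro ι _ m μ
    rw [show πC (coeff (symLaw A B' d).law m μ) = πC.toLinearMap (coeff (symLaw A B' d).law m μ) from rfl,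
      ← coeff_postcomp, hπC]
    exact congrFun (congrArg DFunLike.coe (coeff_precomp γ.law π.toLinearMap m)) μ
  let G := _root_.PolLaw.MulLaw.postcomp πC (symmLawTS A B' d)
  let q : (⨂[A] _ : Fin d, B') →ₐ[A] (⨂[A] _ : Fin d, B) := SymTen.tmap A d π
  have hq : Function.Surjective q := tmap_surjective π hπ
  have key : ∀ {K : Type} [Fintype K] (m m' : K → Fin d → B') (ν : K →₀ ℕ),
      (∀ k l, π (m k l) = π (m' k l)) →
        coeff G.law (fun k => PiTensorProduct.tprod A (m k)) ν =
          coeff G.law (fun k => PiTensorProduct.tprod A (m' k)) ν := by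
    intro K _ m m' ν hm
    obtain ⟨ι, _, N, e, s, c, hc⟩ := coeff_symmLaw_tprod d ν
    have val_eq : ∀ m : K → Fin d → B',
        coeff (symmLawTS A B' d).law (fun k => PiTensorProduct.tprod A (m k)) ν =
          ∑ μ ∈ s, c μ • coeff (symLaw A B' d).law (fun i => evalExp m (e i)) μ := by
      intro m
      refine Subtype.ext ?_
      have := congrArg (fun L => coeff L (fun k => PiTensorProduct.tprod A (m k)) ν)
        (postcomp_val_symmLawTS (A := A) (B := B') (d := d))
      simp only [coeff_postcomp] at this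
      refine this.trans ?_
      rw [hc, AddSubmonoidClass.coe_finsetSum]
      refine Finset.sum_congr rfl fun μ _ => ?_
      rw [AddSubmonoidClass.coe_nsmul, coe_coeff_symLaw]
    have hev : π ∘ (fun i => evalExp m (e i)) = π ∘ fun i => evalExp m' (e i) := by
      funext i
      simp [evalExp, map_prod, hm]
    show coeff (_root_.PolLaw.postcomp πC.toLinearMap (symmLawTS A B' d).law) _ ν =
      coeff (_root_.PolLaw.postcomp πC.toLinearMap (symmLawTS A B' d).law) _ ν
    simp only [coeff_postcomp, val_eq, map_sum, map_nsmul, AlgHom.toLinearMap_apply, hπC', hev]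
  have key' : ∀ (S : Type u) [CommSemiring S] [Algebra A S] {n : ℕ} (s : Fin n → S)
      (m m' : Fin n → Fin d → B'), (∀ k l, π (m k l) = π (m' k l)) →
        G.law.toFun' S (∑ k, s k ⊗ₜ[A] PiTensorProduct.tprod A (m k)) =
          G.law.toFun' S (∑ k, s k ⊗ₜ[A] PiTensorProduct.tprod A (m' k)) := by
    intro S _ _ n s m m' hm
    rw [toFun'_sum, toFun'_sum, Finsupp.ext fun ν => key m m' ν hm]
  have step : ∀ (S : Type u) [CommSemiring S] [Algebra A S] (s : S) (f : Fin d → B') (j : Fin d),
      π (f j) = 0 → ∀ x, G.law.toFun' S (x + s ⊗ₜ[A] PiTensorProduct.tprod A f) = G.law.toFun' S x := by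
    intro S _ _ s f j hf x
    obtain ⟨n, a, m, rfl⟩ := exists_tprod_presentation x
    have h := key' S (Fin.snoc a s) (Fin.snoc m f) (Fin.snoc m (Function.update f j 0)) (by
      refine Fin.lastCases ?_ fun k => ?_
      · intro l
        simp only [Fin.snoc_last]
        by_cases hl : l = j
        · subst hl; simp [hf]
        · rw [Function.update_of_ne hl]
      · intro l; simp only [Fin.snoc_castSucc])
    simp only [Fin.sum_univ_castSucc, Fin.snoc_castSucc, Fin.snoc_last] at h
    rw [h, MultilinearMap.map_update_zero, TensorProduct.tmul_zero, add_zero]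
  have step' : ∀ (S : Type u) [CommSemiring S] [Algebra A S] (s : S) (t : ⨂[A] _ : Fin d, B'),
      t ∈ LinearMap.ker (tmap₁ (d := d) π.toLinearMap) →
        ∀ x, G.law.toFun' S (x + s ⊗ₜ[A] t) = G.law.toFun' S x := by
    intro S _ _ s t ht
    have ht' := ker_tmap₁_le π.toLinearMap hπ ht
    clear ht
    induction ht' using Submodule.span_induction generalizing s with
    | mem t ht =>
      obtain ⟨f, j, hfj, rfl⟩ := ht
      exact step S s f j hfj
    | zero => simp
    | add a b _ _ ha hb => intro x; rw [TensorProduct.tmul_add, ← add_assoc, hb, ha]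
    | smul r a _ ha => intro x; rw [← TensorProduct.smul_tmul, ha]
  have hdesc : ∀ (S : Type u) [CommSemiring S] [Algebra A S] (x y : S ⊗[A] (⨂[A] _ : Fin d, B')),
      q.toLinearMap.lTensor S x = q.toLinearMap.lTensor S y → G.law.toFun' S x = G.law.toFun' S y := by
    intro S _ _ x y hxy
    let : AddCommGroup S := Module.addCommMonoidToAddCommGroup A
    let : AddCommGroup (LinearMap.ker q.toLinearMap) := Module.addCommMonoidToAddCommGroup A
    have hex := lTensor_exact S (f := (LinearMap.ker q.toLinearMap).subtype) (g := q.toLinearMap) (LinearMap.exact_subtype_ker_map q.toLinearMap) hq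
    have h0 : q.toLinearMap.lTensor S (x - y) = 0 := by rw [map_sub, hxy]; exact sub_self _
    obtain ⟨k, hk⟩ := (hex (x - y)).mp h0
    rw [← sub_add_cancel x y, add_comm, ← hk]
    clear hk hxy h0
    induction k using TensorProduct.induction_on generalizing y with
    | zero => simp
    | tmul s t =>
      rw [LinearMap.lTensor_tmul]
      refine step' S s _ ?_ y
      rw [tmap₁_eq_tmap]
      exact t.2
    | add a b ha hb => rw [map_add, ← add_assoc, hb, ha]
  let F := descendLaw G q hq hdesc
  have hFq : _root_.PolLaw.precomp F.law q.toLinearMap = G.law := precomp_descendLaw G q hq hdesc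
  have hφπ : ((SymTen.TS A B d).val.comp φ).comp πC = q.comp (SymTen.TS A B' d).val := by
    refine algHom_ext_coeff (isGammaD_symLaw_of_flat (A := A) (B := B') (d := d)) fun n m μ => ?_
    show ((SymTen.TS A B d).val.comp φ) (πC (coeff (symLaw A B' d).law m μ)) =
      q (coeff (symLaw A B' d).law m μ : ⨂[A] _ : Fin d, B')
    rw [hπC', coe_coeff_symLaw]
    refine (apply_coeff_eq_sum ((SymTen.TS A B d).val.comp φ).toLinearMap hφ (π ∘ m) μ).trans ?_
    rw [orbit, map_sum]
    refine Finset.sum_congr (by congr!) fun p _ => ?_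
    exact (SymTen.tmap_tprod (A := A) (d := d) π (m ∘ p)).symm
  refine ⟨F, law_ext_of_surjective q.toLinearMap hq ?_, ?_⟩
  · rw [← tmap_symmLaw π, ← postcomp_val_symmLawTS]
    have e : _root_.PolLaw.precomp (_root_.PolLaw.postcomp ((SymTen.TS A B d).val.comp φ).toLinearMap F.law)
        q.toLinearMap = _root_.PolLaw.postcomp ((SymTen.TS A B d).val.comp φ).toLinearMap
          (_root_.PolLaw.precomp F.law q.toLinearMap) := rfl
    rw [e, hFq]
    ext S _ _ x
    show ((SymTen.TS A B d).val.comp φ).toLinearMap.lTensor S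
        (πC.toLinearMap.lTensor S ((symmLawTS A B' d).law.toFun' S x)) =
      q.toLinearMap.lTensor S ((SymTen.TS A B' d).val.toLinearMap.lTensor S ((symmLawTS A B' d).law.toFun' S x))
    rw [← LinearMap.comp_apply, ← LinearMap.lTensor_comp, ← LinearMap.comp_apply (f := q.toLinearMap.lTensor S),
      ← LinearMap.lTensor_comp, ← AlgHom.comp_toLinearMap, ← AlgHom.comp_toLinearMap, hφπ]
  · have hsurj : Function.Surjective πC := fun c => by
      have hc : c ∈ coeffSpan γ.law := coeffSpan_eq_top hγ ▸ Submodule.mem_top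
      induction hc using Submodule.span_induction with
      | mem c hc =>
        obtain ⟨n, m, μ, rfl⟩ := hc
        choose m' hm' using fun i => hπ (m i)
        refine ⟨coeff (symLaw A B' d).law m' μ, ?_⟩
        rw [hπC', show π ∘ m' = m from funext hm']
      | zero => exact ⟨0, map_zero _⟩
      | add a b _ _ ha hb => obtain ⟨a, rfl⟩ := ha; obtain ⟨b, rfl⟩ := hb; exact ⟨a + b, map_add _ _ _⟩
      | smul r a _ ha => obtain ⟨a, rfl⟩ := ha; exact ⟨r • a, map_smul _ _ _⟩
    refine law_ext_of_surjective πC.toLinearMap hsurj ?_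
    have hpow : _root_.PolLaw.precomp (symmLawTS A B' d).law (SymTen.TS A B' d).val.toLinearMap =
        _root_.PolLaw.powLaw (A := A) (B := SymTen.TS A B' d) d.factorial := by
      refine law_ext_val ?_
      rw [← symmLaw_comp_val, ← postcomp_val_symmLawTS]
      rfl
    ext S _ _ x
    show F.law.toFun' S (((SymTen.TS A B d).val.comp φ).toLinearMap.lTensor S (πC.toLinearMap.lTensor S x)) =
      (πC.toLinearMap.lTensor S x) ^ d.factorial
    rw [← LinearMap.comp_apply, ← LinearMap.lTensor_comp, ← AlgHom.comp_toLinearMap, hφπ,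
      AlgHom.comp_toLinearMap, LinearMap.lTensor_comp, LinearMap.comp_apply,
      show F.law.toFun' S (q.toLinearMap.lTensor S ((SymTen.TS A B' d).val.toLinearMap.lTensor S x)) =
        G.law.toFun' S ((SymTen.TS A B' d).val.toLinearMap.lTensor S x) from
          descendLaw_toFun' G q hq hdesc S _]
    show πC.toLinearMap.lTensor S ((symmLawTS A B' d).law.toFun' S
      ((SymTen.TS A B' d).val.toLinearMap.lTensor S x)) = _
    rw [show (symmLawTS A B' d).law.toFun' S ((SymTen.TS A B' d).val.toLinearMap.lTensor S x) =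
        x ^ d.factorial from congrFun (congrArg (fun L : SymTen.TS A B' d →ₚₗ[A] SymTen.TS A B' d => L.toFun' S) hpow) x,
      _root_.PolLaw.lTensor_algHom_apply, _root_.PolLaw.lTensor_algHom_apply, map_pow]

end GrothLib.PolLaw

namespace GrothLib.PolLaw

variable {A B C : Type u} [CommRing A] [CommRing B] [Algebra A B] [CommRing C] [Algebra A C] {d : ℕ}

lemma exists_normLaw_symTensor (γ : _root_.PolLaw.MulLaw A B C d) (hγ : _root_.PolLaw.IsGammaD γ)
    (φ : C →ₐ[A] SymTen.TS A B d)
    (hφ : ∀ (S : Type u) [CommSemiring S] [Algebra A S] (n : ℕ) (s : Fin n → S) (b : Fin n → B),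
      ((SymTen.TS A B d).val.comp φ).toLinearMap.lTensor S (γ.law.toFun' S (∑ j, s j ⊗ₜ[A] b j)) =
        ∑ c : Fin d → Fin n, (∏ i, s (c i)) ⊗ₜ[A] PiTensorProduct.tprod A (fun i => b (c i))) :
    ∃ F : _root_.PolLaw.MulLaw A (SymTen.TS A B d) C d.factorial,
      _root_.PolLaw.MulLaw.postcomp φ F = _root_.PolLaw.MulLaw.pow A (SymTen.TS A B d) d.factorial ∧
      _root_.PolLaw.MulLaw.precomp F φ = _root_.PolLaw.MulLaw.pow A C d.factorial := by
  obtain ⟨F, h1, h2⟩ := exists_normLaw γ hγ φ hφ
  refine ⟨_root_.PolLaw.MulLaw.precomp F (SymTen.TS A B d).val, ?_, ?_⟩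
  · refine _root_.PolLaw.MulLaw.ext (law_ext_val ?_)
    refine Eq.trans ?_ symmLaw_comp_val
    rw [← h1]
    ext S _ _ x
    show (SymTen.TS A B d).val.toLinearMap.lTensor S
        (φ.toLinearMap.lTensor S (F.law.toFun' S ((SymTen.TS A B d).val.toLinearMap.lTensor S x))) =
      ((SymTen.TS A B d).val.comp φ).toLinearMap.lTensor S
        (F.law.toFun' S ((SymTen.TS A B d).val.toLinearMap.lTensor S x))
    rw [← LinearMap.comp_apply, ← LinearMap.lTensor_comp]
    rfl
  · refine _root_.PolLaw.MulLaw.ext ?_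
    refine Eq.trans ?_ h2
    ext S _ _ x
    show F.law.toFun' S ((SymTen.TS A B d).val.toLinearMap.lTensor S (φ.toLinearMap.lTensor S x)) =
      F.law.toFun' S (((SymTen.TS A B d).val.comp φ).toLinearMap.lTensor S x)
    rw [← LinearMap.comp_apply ((SymTen.TS A B d).val.toLinearMap.lTensor S), ← LinearMap.lTensor_comp]
    rfl

lemma ground_pow (R : Type u) [CommRing R] [Algebra A R] (n : ℕ) (r : R) :
    (_root_.PolLaw.MulLaw.pow A R n).law.ground r = r ^ n := by
  show TensorProduct.lid A R (((1 : A) ⊗ₜ[A] r) ^ n) = r ^ n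
  rw [Algebra.TensorProduct.tmul_pow]
  simp

lemma pow_factorial_of_ker (γ : _root_.PolLaw.MulLaw A B C d) (hγ : _root_.PolLaw.IsGammaD γ)
    (φ : C →ₐ[A] SymTen.TS A B d)
    (hφ : ∀ (S : Type u) [CommSemiring S] [Algebra A S] (n : ℕ) (s : Fin n → S) (b : Fin n → B),
      ((SymTen.TS A B d).val.comp φ).toLinearMap.lTensor S (γ.law.toFun' S (∑ j, s j ⊗ₜ[A] b j)) =
        ∑ c : Fin d → Fin n, (∏ i, s (c i)) ⊗ₜ[A] PiTensorProduct.tprod A (fun i => b (c i))) :
    (∀ x : C, φ x = 0 → x ^ d.factorial = 0) ∧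
      (∀ y : SymTen.TS A B d, y ^ d.factorial ∈ φ.range) := by
  obtain ⟨F, h1, h2⟩ := exists_normLaw_symTensor γ hγ φ hφ
  have hpost : ∀ y, φ (F.law.ground y) = y ^ d.factorial := by
    intro y
    rw [← ground_pow (A := A) (SymTen.TS A B d) d.factorial y, ← h1]
    show φ (TensorProduct.lid A C (F.law.toFun' A (1 ⊗ₜ[A] y))) =
      TensorProduct.lid A _ (φ.toLinearMap.lTensor A (F.law.toFun' A (1 ⊗ₜ[A] y)))
    generalize F.law.toFun' A (1 ⊗ₜ[A] y) = z
    induction z using TensorProduct.induction_on with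
    | zero => simp
    | tmul a c => simp
    | add a b ha hb => simp [ha, hb]
  have hpre : ∀ x, F.law.ground (φ x) = x ^ d.factorial := by
    intro x
    rw [← ground_pow (A := A) C d.factorial x, ← h2]
    rfl
  have h0 : F.law.ground 0 = 0 := by
    show TensorProduct.lid A C (F.law.toFun' A ((1 : A) ⊗ₜ[A] (0 : SymTen.TS A B d))) = 0
    have := F.homog A 0 0
    rw [zero_smul, zero_pow d.factorial_pos.ne', zero_smul] at this
    rw [TensorProduct.tmul_zero, this, map_zero]
  refine ⟨fun x hx => ?_, fun y => ⟨F.law.ground y, hpost y⟩⟩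
  rw [← hpre, hx, h0]

end GrothLib.PolLaw
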