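import Groth.Agent.Lib.PolLaw.Mult

/-!
# Coefficients on a family lying in the span of another family
-/

universe u

open TensorProduct

namespace GrothLib.PolLaw

variable {A : Type u} [CommRing A] {M N : Type u} [AddCommGroup M] [Module A M]
  [AddCommGroup N] [Module A N] {ι κ : Type} [Fintype ι] [Fintype κ]

lemma coeff_mem_span_of_mem_span (F : M →ₚₗ[A] N) (g : ι → M) (m : κ → M)
    (h : ∀ k, m k ∈ Submodule.span A (Set.range g)) (ν : κ →₀ ℕ) :
    coeff F m ν ∈ Submodule.span A (Set.range fun μ : ι →₀ ℕ => coeff F g μ) := by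
  choose a ha using fun k => Submodule.mem_span_range_iff_exists_fun A |>.mp (h k)
  rw [show m = fun k => ∑ i, a k i • g i from funext fun k => (ha k).symm, coeff_linComb]
  exact Submodule.sum_mem _ fun μ _ => Submodule.smul_mem _ _ (Submodule.subset_span ⟨μ, rfl⟩)

lemma span_coeff_fg (F : M →ₚₗ[A] N) (g : ι → M) :
    (Submodule.span A (Set.range fun μ : ι →₀ ℕ => coeff F g μ)).FG := by
  classical
  refine Submodule.fg_def.mpr ⟨(coeff F g) '' ((coeff F g).support : Set (ι →₀ ℕ)),
    (Finset.finite_toSet _).image _, le_antisymm (Submodule.span_mono (Set.image_subset_range _ _))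
      (Submodule.span_le.mpr ?_)⟩
  rintro _ ⟨μ, rfl⟩
  by_cases hμ : μ ∈ (coeff F g).support
  · exact Submodule.subset_span ⟨μ, hμ, rfl⟩
  · simp [Finsupp.notMem_support_iff.mp hμ]

variable {B C : Type u} [CommRing B] [Algebra A B] [CommRing C] [Algebra A C] {d : ℕ}

/-- If the span of `g` is a subalgebra, the span of the coefficients on `g` is closed under products. -/
lemma mul_mem_span_coeff (γ : _root_.PolLaw.MulLaw A B C d) (g : ι → B)
    (hg : ∀ i j, g i * g j ∈ Submodule.span A (Set.range g)) {x y : C}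
    (hx : x ∈ Submodule.span A (Set.range fun μ : ι →₀ ℕ => coeff γ.law g μ))
    (hy : y ∈ Submodule.span A (Set.range fun μ : ι →₀ ℕ => coeff γ.law g μ)) :
    x * y ∈ Submodule.span A (Set.range fun μ : ι →₀ ℕ => coeff γ.law g μ) := by
  induction hx using Submodule.span_induction with
  | mem a ha =>
    obtain ⟨μ, rfl⟩ := ha
    induction hy using Submodule.span_induction with
    | mem b hb =>
      obtain ⟨ν, rfl⟩ := hb
      refine Submodule.span_le.mpr ?_ (coeff_mul_coeff_mem γ.mult g g μ ν)
      rintro _ ⟨ρ, rfl⟩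
      have h := coeff_mem_span_of_mem_span γ.law g (fun q : ι × ι => g q.1 * g q.2) (fun q => hg q.1 q.2) ρ
      exact SetLike.mem_coe.mpr h
    | zero => simp
    | add b c _ _ hb hc => rw [mul_add]; exact add_mem hb hc
    | smul r b _ hb => rw [mul_smul_comm]; exact Submodule.smul_mem _ _ hb
  | zero => simp
  | add a c _ _ ha hc => rw [add_mul]; exact add_mem ha hc
  | smul r a _ ha => rw [smul_mul_assoc]; exact Submodule.smul_mem _ _ ha

lemma one_mem_span_coeff (γ : _root_.PolLaw.MulLaw A B C d) (g : ι → B)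
    (hg : (1 : B) ∈ Submodule.span A (Set.range g)) :
    (1 : C) ∈ Submodule.span A (Set.range fun μ : ι →₀ ℕ => coeff γ.law g μ) := by
  have h : γ.law.toFun' (MvPolynomial (Fin 1) A) (univ A ![(1 : B)]) =
      ((MvPolynomial.X 0 : MvPolynomial (Fin 1) A) ^ d) ⊗ₜ[A] (1 : C) := by
    have h1 : univ A ![(1 : B)] =
        (MvPolynomial.X 0 : MvPolynomial (Fin 1) A) • (1 : MvPolynomial (Fin 1) A ⊗[A] B) := by
      simp [univ, Algebra.TensorProduct.one_def, TensorProduct.smul_tmul']
    rw [h1, γ.homog, (γ.mult _).1]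
    simp [Algebra.TensorProduct.one_def, TensorProduct.smul_tmul']
  have h2 : coeff γ.law ![(1 : B)] (Finsupp.single 0 d) = 1 := by
    rw [coeff, h, coeffEquiv_tmul, MvPolynomial.X_pow_eq_monomial]
    simp
  rw [← h2]
  exact coeff_mem_span_of_mem_span γ.law g _ (fun k => by fin_cases k; simpa using hg) _

end GrothLib.PolLaw
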