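import Groth.Agent.Lib.PolLaw.Eval
import Mathlib.RingTheory.Flat.Equalizer
import Mathlib.RingTheory.Localization.Basic
import Mathlib.Algebra.Polynomial.Taylor
import Mathlib.Algebra.Algebra.Rat
import Mathlib.RingTheory.Nilpotent.Basic
import Mathlib.Tactic.LinearCombination
import Mathlib.Tactic.Positivity

/-!
# Kernels of base-changed laws `B → A`: functoriality, universal equation, trace criterion
-/

universe u

open TensorProduct

namespace GrothLib.PolLaw

variable {A : Type u} [CommRing A] {B : Type u} [CommRing B] [Algebra A B] {d : ℕ}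
  (F : _root_.PolLaw.MulLaw A B A d)

lemma map_map' {S S' S'' : Type u} [CommSemiring S] [Algebra A S] [CommSemiring S'] [Algebra A S']
    [CommSemiring S''] [Algebra A S''] (ψ : S' →ₐ[A] S'') (φ : S →ₐ[A] S') (z : S ⊗[A] B) :
    Algebra.TensorProduct.map ψ (AlgHom.id A B) (Algebra.TensorProduct.map φ (AlgHom.id A B) z) =
      Algebra.TensorProduct.map (ψ.comp φ) (AlgHom.id A B) z := by
  induction z using TensorProduct.induction_on with
  | zero => simp
  | tmul s b => simp
  | add p q hp hq => simp [hp, hq]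

lemma map_id' {S : Type u} [CommSemiring S] [Algebra A S] (φ : S →ₐ[A] S) (h : φ = AlgHom.id A S)
    (z : S ⊗[A] B) : Algebra.TensorProduct.map φ (AlgHom.id A B) z = z := by
  rw [h, Algebra.TensorProduct.map_id, AlgHom.id_apply]

/-- Membership in the base-changed kernel can be tested on rings. -/
lemma mem_kerBC_of_forall_ring {A' : Type u} [CommRing A'] [Algebra A A'] {b' : A' ⊗[A] B}
    (h : ∀ (R : Type u) [CommRing R] [Algebra A R] [Algebra A' R] [IsScalarTower A A' R]
      (x w : R ⊗[A] B),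
        valS F R (x + w * Algebra.TensorProduct.map (IsScalarTower.toAlgHom A A' R) (AlgHom.id A B) b') =
          valS F R x) :
    b' ∈ _root_.PolLaw.kerBC F.law A' := by
  classical
  rw [mem_kerBC_iff]
  intro R _ _ _ _ x w
  obtain ⟨n, s, m, rfl⟩ := toFun'_tmul_eq_sum x
  obtain ⟨k, s', m', rfl⟩ := toFun'_tmul_eq_sum w
  let Q := MvPolynomial (Fin n ⊕ Fin k) A'
  let φ : Q →ₐ[A] R := (MvPolynomial.aeval (Sum.elim s s') : Q →ₐ[A'] R).restrictScalars A
  have hφ : φ.comp (IsScalarTower.toAlgHom A A' Q) = IsScalarTower.toAlgHom A A' R :=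
    AlgHom.ext fun a => (MvPolynomial.aeval (Sum.elim s s') : Q →ₐ[A'] R).commutes a
  have e := congrArg φ (h Q (∑ i, (MvPolynomial.X (Sum.inl i) : Q) ⊗ₜ[A] m i)
    (∑ j, (MvPolynomial.X (Sum.inr j) : Q) ⊗ₜ[A] m' j))
  rw [← valS_map, ← valS_map, map_add, map_mul, map_map', hφ] at e
  simpa [φ, Q, map_sum, MvPolynomial.aeval_X] using! e

/-- Base-changed kernels are functorial. -/
lemma map_mem_kerBC {T T' : Type u} [CommRing T] [Algebra A T] [CommRing T'] [Algebra A T']
    (φ : T →ₐ[A] T') {b : T ⊗[A] B} (hb : b ∈ _root_.PolLaw.kerBC F.law T) :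
    Algebra.TensorProduct.map φ (AlgHom.id A B) b ∈ _root_.PolLaw.kerBC F.law T' := by
  refine mem_kerBC_of_forall_ring F fun R _ _ _ _ x w => ?_
  let := ((algebraMap T' R).comp φ.toRingHom).toAlgebra
  have : IsScalarTower A T R := IsScalarTower.of_algebraMap_eq fun a => by
    show _ = algebraMap T' R (φ (algebraMap A T a))
    rw [φ.commutes, ← IsScalarTower.algebraMap_apply]
  rw [map_map', show (IsScalarTower.toAlgHom A T' R).comp φ = IsScalarTower.toAlgHom A T R from
    AlgHom.ext fun _ => rfl]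
  exact (mem_kerBC_iff F T b).mp hb R x w

section Universal

variable {n : ℕ} (e : Fin n → B)

lemma exists_eq_sum_of_span (he : Submodule.span A (Set.range e) = ⊤) {R : Type u} [CommSemiring R]
    [Algebra A R] (x : R ⊗[A] B) : ∃ r : Fin n → R, x = ∑ i, r i ⊗ₜ[A] e i := by
  induction x using TensorProduct.induction_on with
  | zero => exact ⟨0, by simp⟩
  | tmul a b =>
    obtain ⟨c, rfl⟩ := (Submodule.mem_span_range_iff_exists_fun A).mp
      (by rw [he]; trivial : b ∈ Submodule.span A (Set.range e))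
    exact ⟨fun i => c i • a, by simp only [TensorProduct.tmul_sum, TensorProduct.smul_tmul]⟩
  | add x y hx hy =>
    obtain ⟨r, rfl⟩ := hx
    obtain ⟨r', rfl⟩ := hy
    exact ⟨r + r', by simp [TensorProduct.add_tmul, Finset.sum_add_distrib]⟩

/-- The generic point of `Q ⊗ B`. -/
noncomputable def univX (T : Type u) [CommRing T] [Algebra A T] : MvPolynomial (Fin n ⊕ Fin n) T ⊗[A] B :=
  ∑ i, (MvPolynomial.X (Sum.inl i) : MvPolynomial (Fin n ⊕ Fin n) T) ⊗ₜ[A] e i

/-- The generic translate of the generic point along `b`. -/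
noncomputable def univY (T : Type u) [CommRing T] [Algebra A T] (b : T ⊗[A] B) :
    MvPolynomial (Fin n ⊕ Fin n) T ⊗[A] B :=
  univX e T + (∑ i, (MvPolynomial.X (Sum.inr i) : MvPolynomial (Fin n ⊕ Fin n) T) ⊗ₜ[A] e i) *
    Algebra.TensorProduct.map (IsScalarTower.toAlgHom A T _) (AlgHom.id A B) b

/-- The universal equation of the base-changed kernel. -/
noncomputable def univEq (T : Type u) [CommRing T] [Algebra A T] (b : T ⊗[A] B) :
    MvPolynomial (Fin n ⊕ Fin n) T :=
  valS F (MvPolynomial (Fin n ⊕ Fin n) T) (univY e T b) -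
    valS F (MvPolynomial (Fin n ⊕ Fin n) T) (univX e T)

omit F in
lemma map_univX {T : Type u} [CommRing T] [Algebra A T] {R : Type u} [CommSemiring R] [Algebra A R]
    (ψ : MvPolynomial (Fin n ⊕ Fin n) T →ₐ[A] R) :
    Algebra.TensorProduct.map ψ (AlgHom.id A B) (univX e T) =
      ∑ i, ψ (MvPolynomial.X (Sum.inl i)) ⊗ₜ[A] e i := by
  simp [univX, map_sum]

lemma map_univY {T : Type u} [CommRing T] [Algebra A T] {R : Type u} [CommSemiring R] [Algebra A R]
    (ψ : MvPolynomial (Fin n ⊕ Fin n) T →ₐ[A] R) (b : T ⊗[A] B) :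
    Algebra.TensorProduct.map ψ (AlgHom.id A B) (univY e T b) =
      (∑ i, ψ (MvPolynomial.X (Sum.inl i)) ⊗ₜ[A] e i) +
        (∑ i, ψ (MvPolynomial.X (Sum.inr i)) ⊗ₜ[A] e i) *
          Algebra.TensorProduct.map (ψ.comp (IsScalarTower.toAlgHom A T _)) (AlgHom.id A B) b := by
  rw [univY, map_add, map_mul, map_map', map_univX]
  simp [map_sum]

lemma univEq_eq_zero_iff (he : Submodule.span A (Set.range e) = ⊤) (T : Type u) [CommRing T]
    [Algebra A T] (b : T ⊗[A] B) :
    univEq F e T b = 0 ↔ b ∈ _root_.PolLaw.kerBC F.law T := by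
  refine ⟨fun h => ?_, fun h => sub_eq_zero.mpr ((mem_kerBC_iff F T b).mp h _ _ _)⟩
  refine mem_kerBC_of_forall_ring F fun R _ _ _ _ x w => ?_
  obtain ⟨r, rfl⟩ := exists_eq_sum_of_span e he x
  obtain ⟨r', rfl⟩ := exists_eq_sum_of_span e he w
  let Q := MvPolynomial (Fin n ⊕ Fin n) T
  let φ : Q →ₐ[A] R := (MvPolynomial.aeval (Sum.elim r r') : Q →ₐ[T] R).restrictScalars A
  have hφ : φ.comp (IsScalarTower.toAlgHom A T Q) = IsScalarTower.toAlgHom A T R :=
    AlgHom.ext fun a => (MvPolynomial.aeval (Sum.elim r r') : Q →ₐ[T] R).commutes a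
  have e' := congrArg φ (sub_eq_zero.mp h)
  rw [← valS_map, ← valS_map, map_univY, map_univX, hφ] at e'
  simpa [φ, MvPolynomial.aeval_X] using! e'

lemma univEq_map {T T' : Type u} [CommRing T] [Algebra A T] [CommRing T'] [Algebra A T']
    (φ : T →ₐ[A] T') (b : T ⊗[A] B) :
    univEq F e T' (Algebra.TensorProduct.map φ (AlgHom.id A B) b) =
      MvPolynomial.map φ.toRingHom (univEq F e T b) := by
  show _ = MvPolynomial.mapAlgHom φ _
  rw [univEq, univEq, map_sub, ← valS_map, ← valS_map, map_univY, map_univX, univY, univX, map_map']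
  have hc : (MvPolynomial.mapAlgHom φ : MvPolynomial (Fin n ⊕ Fin n) T →ₐ[A] _).comp
      (IsScalarTower.toAlgHom A T _) = (IsScalarTower.toAlgHom A T' _).comp φ :=
    AlgHom.ext fun t => by simp [MvPolynomial.mapAlgHom_apply, MvPolynomial.algebraMap_eq]
  simp [hc, MvPolynomial.mapAlgHom_apply]

/-- Scaling by an element killing the equation gives an element of the kernel. -/
lemma exists_smul_mem_kerBC_of_map (he : Submodule.span A (Set.range e) = ⊤) (M : Submonoid A)
    (A' : Type u) [CommRing A'] [Algebra A A'] [IsLocalization M A'] {b : B}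
    (hb : (1 : A') ⊗ₜ[A] b ∈ _root_.PolLaw.kerBC F.law A') :
    ∃ m ∈ M, (m • b) ∈ _root_.PolLaw.ker F.law := by
  classical
  let P := univEq F e A ((1 : A) ⊗ₜ[A] b)
  have h0 : MvPolynomial.map (Algebra.ofId A A').toRingHom P = 0 := by
    rw [← univEq_map, univEq_eq_zero_iff F e he]
    simpa using hb
  have hk : ∀ μ ∈ P.support, ∃ m : M, (m : A) * P.coeff μ = 0 := fun μ _ => by
    have := congrArg (MvPolynomial.coeff μ) h0
    rw [MvPolynomial.coeff_map, MvPolynomial.coeff_zero] at this
    exact (IsLocalization.map_eq_zero_iff M A' _).mp this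
  choose m hm using hk
  refine ⟨∏ μ : P.support, (m μ.1 μ.2 : A), Submonoid.prod_mem _ fun μ _ => (m μ.1 μ.2).2, ?_⟩
  set a : A := ∏ μ : P.support, (m μ.1 μ.2 : A)
  have haP : MvPolynomial.C a * P = 0 := by
    ext μ
    rw [MvPolynomial.coeff_C_mul, MvPolynomial.coeff_zero]
    by_cases hμ : μ ∈ P.support
    · obtain ⟨c, hc⟩ : (m μ hμ : A) ∣ a :=
        Finset.dvd_prod_of_mem (fun ν : P.support => (m ν.1 ν.2 : A)) (Finset.mem_univ ⟨μ, hμ⟩)
      rw [hc, mul_comm (m μ hμ : A), mul_assoc, hm, mul_zero]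
    · simp [MvPolynomial.notMem_support_iff.mp hμ]
  rw [mem_ker_iff_one_tmul_mem_kerBC, ← univEq_eq_zero_iff F e he]
  let σ : MvPolynomial (Fin n ⊕ Fin n) A →ₐ[A] MvPolynomial (Fin n ⊕ Fin n) A :=
    MvPolynomial.aeval (Sum.elim (fun i => MvPolynomial.X (Sum.inl i))
      fun i => MvPolynomial.C a * MvPolynomial.X (Sum.inr i))
  let σ₀ : MvPolynomial (Fin n ⊕ Fin n) A →ₐ[A] MvPolynomial (Fin n ⊕ Fin n) A :=
    MvPolynomial.aeval (Sum.elim (fun i => MvPolynomial.X (Sum.inl i)) 0)
  have hσ : univEq F e A ((1 : A) ⊗ₜ[A] (a • b)) = σ P := by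
    simp only [P, univEq, map_sub, ← valS_map, map_univY, map_univX, univY, univX]
    simp [σ, Finset.sum_mul, Algebra.TensorProduct.tmul_mul_tmul, TensorProduct.smul_tmul',
      TensorProduct.tmul_smul, MvPolynomial.algebraMap_eq, MvPolynomial.smul_eq_C_mul, mul_comm (MvPolynomial.C a)]
  have hσ₀ : σ₀ P = 0 := by
    simp only [P, univEq, map_sub, ← valS_map, map_univY, map_univX]
    simp [σ₀]
  rw [hσ, ← hσ₀]
  rw [P.as_sum, map_sum, map_sum]
  refine Finset.sum_congr rfl fun μ _ => ?_
  have hc : a * P.coeff μ = 0 := by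
    simpa [MvPolynomial.coeff_C_mul] using congrArg (MvPolynomial.coeff μ) haP
  simp only [σ, σ₀, MvPolynomial.aeval_monomial, Finsupp.prod_pow, Fintype.prod_sum_type, Sum.elim_inl,
    Sum.elim_inr, mul_pow, Finset.prod_mul_distrib, Finset.prod_pow_eq_pow_sum, Pi.zero_apply]
  by_cases h : ∑ i, μ (Sum.inr i) = 0
  · have h0 : ∀ i, μ (Sum.inr i) = 0 := fun i =>
      (Finset.sum_eq_zero_iff.mp h) i (Finset.mem_univ i)
    simp [h0]
  · obtain ⟨k, hk⟩ := Nat.exists_eq_succ_of_ne_zero h
    rw [hk, zero_pow (Nat.succ_ne_zero k), mul_zero, mul_zero, pow_succ',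
      MvPolynomial.algebraMap_eq]
    linear_combination (MvPolynomial.C a ^ k * (∏ i, MvPolynomial.X (Sum.inl i) ^ μ (Sum.inl i)) *
      ∏ i, MvPolynomial.X (Sum.inr i) ^ μ (Sum.inr i)) *
        (congrArg (MvPolynomial.C (σ := Fin n ⊕ Fin n)) hc |>.trans (map_zero _) |> fun e => (map_mul MvPolynomial.C a (P.coeff μ)).symm.trans e)

end Universal

section Tau

variable {R : Type u} [CommRing R] [Algebra A R]

/-- The trace of an element of `R ⊗ B`. -/
noncomputable def tauS (z : R ⊗[A] B) : R :=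
  Polynomial.coeff (valS F (Polynomial R) (1 + ((Polynomial.X : Polynomial R) ⊗ₜ[A] (1 : B)) *
    Algebra.TensorProduct.map (IsScalarTower.toAlgHom A R (Polynomial R)) (AlgHom.id A B) z)) 1

lemma valS_one_add_X {ι : Type} [Fintype ι] (r : ι → R) (m : ι → B) :
    valS F (Polynomial R) (1 + ((Polynomial.X : Polynomial R) ⊗ₜ[A] (1 : B)) *
      Algebra.TensorProduct.map (IsScalarTower.toAlgHom A R (Polynomial R)) (AlgHom.id A B)
        (∑ i, r i ⊗ₜ[A] m i)) =
      (coeff F.law (fun o : Option ι => o.elim 1 m)).sum fun μ c =>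
        Polynomial.monomial (∑ i, μ (some i)) (c • ∏ i, r i ^ μ (some i)) := by
  have e : (1 + ((Polynomial.X : Polynomial R) ⊗ₜ[A] (1 : B)) *
      Algebra.TensorProduct.map (IsScalarTower.toAlgHom A R (Polynomial R)) (AlgHom.id A B)
        (∑ i, r i ⊗ₜ[A] m i)) = ∑ o : Option ι,
      (o.elim 1 fun i => Polynomial.X * Polynomial.C (r i) : Polynomial R) ⊗ₜ[A] (o.elim (1 : B) m) := by
    rw [Fintype.sum_option]
    simp [map_sum, Finset.mul_sum, Algebra.TensorProduct.one_def]
  rw [e, valS_sum]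
  refine Finsupp.sum_congr fun μ _ => ?_
  rw [Fintype.prod_option]
  simp only [Option.elim, one_pow, one_mul, mul_pow, Finset.prod_mul_distrib, Finset.prod_pow_eq_pow_sum,
    ← map_pow, ← map_prod]
  rw [mul_comm, Polynomial.C_mul_X_pow_eq_monomial, Polynomial.smul_monomial]

lemma valS_one_add_X_natDegree (z : R ⊗[A] B) :
    (valS F (Polynomial R) (1 + ((Polynomial.X : Polynomial R) ⊗ₜ[A] (1 : B)) *
      Algebra.TensorProduct.map (IsScalarTower.toAlgHom A R (Polynomial R)) (AlgHom.id A B) z)).natDegree ≤ d ∧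
    Polynomial.coeff (valS F (Polynomial R) (1 + ((Polynomial.X : Polynomial R) ⊗ₜ[A] (1 : B)) *
      Algebra.TensorProduct.map (IsScalarTower.toAlgHom A R (Polynomial R)) (AlgHom.id A B) z)) d = valS F R z := by
  classical
  obtain ⟨n, r, m, rfl⟩ := toFun'_tmul_eq_sum z
  rw [valS_one_add_X]
  have hdeg : ∀ μ ∈ (coeff F.law fun o : Option (Fin n) => o.elim (1 : B) m).support,
      μ none + ∑ i, μ (some i) = d := by
    intro μ hμ
    rw [← Fintype.sum_option]
    by_contra hne
    exact Finsupp.mem_support_iff.mp hμ (coeff_eq_zero F.homog _ hne)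
  refine ⟨Polynomial.natDegree_sum_le_of_forall_le _ _ fun μ hμ =>
    (Polynomial.natDegree_monomial_le _).trans (by have := hdeg μ hμ; omega), ?_⟩
  have ez : ∑ i, r i ⊗ₜ[A] m i = ∑ o : Option (Fin n), (o.elim 0 r) ⊗ₜ[A] (o.elim (1 : B) m) := by
    simp [Fintype.sum_option]
  rw [ez, valS_sum, Finsupp.sum, Polynomial.finset_sum_coeff]
  refine Finset.sum_congr rfl fun μ hμ => ?_
  have := hdeg μ hμ
  rw [Polynomial.coeff_monomial]
  simp only [Fintype.prod_option, Option.elim]
  by_cases h : μ none = 0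
  · rw [if_pos (by omega)]
    simp [h]
  · rw [if_neg (by omega)]
    simp [zero_pow h]

lemma tauS_add (x y : R ⊗[A] B) : tauS F (x + y) = tauS F x + tauS F y := by
  classical
  obtain ⟨n, r, m, rfl⟩ := toFun'_tmul_eq_sum x
  obtain ⟨k, r', m', rfl⟩ := toFun'_tmul_eq_sum y
  let c := coeff F.law (fun o : Option (Fin n ⊕ Fin k) => o.elim 1 (Sum.elim m m'))
  let f : (Fin n ⊕ Fin k → R) → R := fun v => tauS F (∑ i, v i ⊗ₜ[A] Sum.elim m m' i)
  have hf : ∀ v w, f (v + w) = f v + f w := by
    intro v w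
    simp only [f, tauS, valS_one_add_X, Finsupp.sum, Polynomial.finset_sum_coeff,
      Polynomial.coeff_monomial, ← Finset.sum_add_distrib]
    refine Finset.sum_congr rfl fun μ _ => ?_
    by_cases h : ∑ i, μ (some i) = 1
    · rw [if_pos h, if_pos h, if_pos h, ← smul_add]
      congr 1
      obtain ⟨j, hj⟩ : ∃ j, μ (some j) ≠ 0 := by
        by_contra hne
        push Not at hne
        simp [hne] at h
      have hj1 : μ (some j) = 1 := le_antisymm (h ▸ Finset.single_le_sum
        (fun i _ => Nat.zero_le (μ (some i))) (Finset.mem_univ j)) (Nat.one_le_iff_ne_zero.mpr hj)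
      have hz : ∀ i, i ≠ j → μ (some i) = 0 := fun i hi => by
        rw [Finset.sum_eq_add_sum_sdiff_singleton_of_mem (Finset.mem_univ j), hj1] at h
        have := Finset.single_le_sum (fun i _ => Nat.zero_le (μ (some i)))
          (Finset.mem_sdiff.mpr ⟨Finset.mem_univ i, by simpa using hi⟩ : i ∈ Finset.univ \ {j})
        omega
      have hv : ∀ u : Fin n ⊕ Fin k → R, ∏ i, u i ^ μ (some i) = u j := fun u => by
        rw [Finset.prod_eq_single j (fun i _ hi => by rw [hz i hi, pow_zero]) (by simp), hj1, pow_one]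
      simp [hv]
    · simp only [if_neg h, add_zero]
  have := hf (Sum.elim r 0) (Sum.elim 0 r')
  simpa [f, Fintype.sum_sum_type] using this

lemma tauS_map {R' : Type u} [CommRing R'] [Algebra A R'] (φ : R →ₐ[A] R') (z : R ⊗[A] B) :
    φ (tauS F z) = tauS F (Algebra.TensorProduct.map φ (AlgHom.id A B) z) := by
  obtain ⟨n, r, m, rfl⟩ := toFun'_tmul_eq_sum z
  rw [map_sum]
  simp only [Algebra.TensorProduct.map_tmul, AlgHom.id_apply, tauS, valS_one_add_X]
  simp [map_sum, Finsupp.sum, Polynomial.finset_sum_coeff, Polynomial.coeff_monomial, apply_ite φ, map_smul]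

lemma tauS_tmul (r : R) (b : B) : tauS F (r ⊗ₜ[A] b) = r * algebraMap A R (tauS F ((1 : A) ⊗ₜ[A] b)) := by
  classical
  rw [show algebraMap A R (tauS F ((1 : A) ⊗ₜ[A] b)) = tauS F ((1 : R) ⊗ₜ[A] b) from
    (tauS_map F (Algebra.ofId A R) _).trans (by simp)]
  have h1 := valS_one_add_X F (fun _ : Unit => r) fun _ => b
  have h2 := valS_one_add_X F (fun _ : Unit => (1 : R)) fun _ => b
  simp only [Finset.univ_unique, Finset.sum_singleton, Finset.prod_singleton, one_pow] at h1 h2
  simp only [tauS, h1, h2, Finsupp.sum, Polynomial.finset_sum_coeff, Polynomial.coeff_monomial,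
    Finset.mul_sum]
  refine Finset.sum_congr rfl fun μ _ => ?_
  split_ifs with h
  · rw [h, pow_one, mul_smul_comm, mul_one]
  · rw [mul_zero]

/-- The trace form `B → A`. -/
noncomputable def tau : B →ₗ[A] A where
  toFun b := tauS F ((1 : A) ⊗ₜ[A] b)
  map_add' a b := by rw [TensorProduct.tmul_add, tauS_add]
  map_smul' a b := by
    rw [← TensorProduct.smul_tmul, smul_eq_mul, mul_one, tauS_tmul, Algebra.algebraMap_self_apply]
    rfl

lemma tauS_eq_tau (z : R ⊗[A] B) :
    tauS F z = TensorProduct.rid A R ((tau F).lTensor R z) := by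
  induction z using TensorProduct.induction_on with
  | zero =>
    have := tauS_add F (0 : R ⊗[A] B) 0
    rw [add_zero] at this
    simpa using this
  | tmul r b =>
    rw [tauS_tmul, LinearMap.lTensor_tmul, TensorProduct.rid_tmul, Algebra.smul_def, mul_comm]
    rfl
  | add x y hx hy => simp [tauS_add, hx, hy]

end Tau

section Shift

/-- Vanishing of the derivative along a point where `1 + t z` is invertible and traces vanish. -/
lemma eval_derivative_eq_zero {R Q : Type u} [CommRing R] [Algebra A R] [CommRing Q] [Algebra A Q]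
    (z : R ⊗[A] B) (ι : R →ₐ[A] Q) (t : Q) (w : Q ⊗[A] B)
    (hw : (1 + t ⊗ₜ[A] (1 : B) * Algebra.TensorProduct.map ι (AlgHom.id A B) z) * w = 1)
    (hz : tauS F (w * Algebra.TensorProduct.map ι (AlgHom.id A B) z) = 0) :
    (Polynomial.derivative ((valS F (Polynomial R) (1 + ((Polynomial.X : Polynomial R) ⊗ₜ[A] (1 : B)) *
      Algebra.TensorProduct.map (IsScalarTower.toAlgHom A R (Polynomial R)) (AlgHom.id A B) z)).map
        ι.toRingHom)).eval t = 0 := by
  let sh : Polynomial R →ₐ[A] Polynomial Q :=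
    ((Polynomial.aeval (R := Q) (Polynomial.X + Polynomial.C t)) : Polynomial Q →ₐ[Q] Polynomial Q).restrictScalars A
      |>.comp (Polynomial.mapAlgHom ι)
  have hsh : ∀ p : Polynomial R, sh p = Polynomial.taylor t (p.map ι.toRingHom) := fun p => by
    rw [Polynomial.taylor_apply, Polynomial.comp_eq_aeval]
    rfl
  rw [← Polynomial.taylor_coeff_one, ← hsh, ← valS_map]
  have hshX : sh Polynomial.X = Polynomial.C t + Polynomial.X := by
    rw [hsh, Polynomial.map_X, Polynomial.taylor_X, add_comm]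
  have hshC : sh.comp (IsScalarTower.toAlgHom A R (Polynomial R)) =
      (IsScalarTower.toAlgHom A Q (Polynomial Q)).comp ι := AlgHom.ext fun r => by
    show sh (Polynomial.C r) = Polynomial.C (ι r)
    rw [hsh, Polynomial.map_C, Polynomial.taylor_C]
    rfl
  have hw' := congrArg (Algebra.TensorProduct.map (IsScalarTower.toAlgHom A Q (Polynomial Q)) (AlgHom.id A B)) hw
  rw [map_mul, map_one] at hw'
  have e : Algebra.TensorProduct.map sh (AlgHom.id A B) (1 + ((Polynomial.X : Polynomial R) ⊗ₜ[A] (1 : B)) *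
      Algebra.TensorProduct.map (IsScalarTower.toAlgHom A R (Polynomial R)) (AlgHom.id A B) z) =
      Algebra.TensorProduct.map (IsScalarTower.toAlgHom A Q (Polynomial Q)) (AlgHom.id A B)
          (1 + t ⊗ₜ[A] (1 : B) * Algebra.TensorProduct.map ι (AlgHom.id A B) z) *
        (1 + ((Polynomial.X : Polynomial Q) ⊗ₜ[A] (1 : B)) *
          Algebra.TensorProduct.map (IsScalarTower.toAlgHom A Q (Polynomial Q)) (AlgHom.id A B)
            (w * Algebra.TensorProduct.map ι (AlgHom.id A B) z)) := by
    simp only [map_add, map_mul, map_one, map_map', hshC, Algebra.TensorProduct.map_tmul, hshX,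
      AlgHom.id_apply, IsScalarTower.coe_toAlgHom', Polynomial.algebraMap_eq, TensorProduct.add_tmul,
      add_mul] at hw' ⊢
    linear_combination (-((Polynomial.X : Polynomial Q) ⊗ₜ[A] (1 : B)) *
      Algebra.TensorProduct.map ((IsScalarTower.toAlgHom A Q (Polynomial Q)).comp ι) (AlgHom.id A B) z) * hw'
  rw [e, map_mul, valS_map, IsScalarTower.coe_toAlgHom', Polynomial.algebraMap_eq, Polynomial.coeff_C_mul]
  exact mul_eq_zero_of_right _ hz

end Shift

section CharZero

variable [Algebra ℚ A]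

/-- If all traces on an ideal vanish, `F` is `1` on `1 +` that ideal. -/
lemma valS_one_add_eq_one {R : Type u} [CommRing R] [Algebra A R] (z : R ⊗[A] B)
    (hz : ∀ (R' : Type u) [CommRing R'] [Algebra A R'] (φ : R →ₐ[A] R') (u : R' ⊗[A] B),
      tauS F (u * Algebra.TensorProduct.map φ (AlgHom.id A B) z) = 0) :
    valS F R (1 + z) = 1 := by
  let : Algebra ℚ R := Algebra.compHom R (algebraMap ℚ A)
  let g : Polynomial R := valS F (Polynomial R) (1 + ((Polynomial.X : Polynomial R) ⊗ₜ[A] (1 : B)) *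
    Algebra.TensorProduct.map (IsScalarTower.toAlgHom A R (Polynomial R)) (AlgHom.id A B) z)
  have hg : g.natDegree ≤ d := (valS_one_add_X_natDegree F z).1
  let Q := Polynomial R ⧸ Ideal.span {(Polynomial.X : Polynomial R) ^ (d + 1)}
  let q : Polynomial R →ₐ[A] Q := Ideal.Quotient.mkₐ A _
  let t : Q := q Polynomial.X
  let zQ := Algebra.TensorProduct.map (q.comp (IsScalarTower.toAlgHom A R (Polynomial R))) (AlgHom.id A B) z
  have hnil : IsNilpotent (t ⊗ₜ[A] (1 : B) * zQ) := by
    refine ⟨d + 1, ?_⟩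
    refine (mul_pow (M := Q ⊗[A] B) _ _ _).trans ?_
    rw [Algebra.TensorProduct.tmul_pow, show t ^ (d + 1) = 0 from ?_]
    · rw [TensorProduct.zero_tmul]
      exact zero_mul (M₀ := Q ⊗[A] B) _
    · rw [← map_pow]
      exact Ideal.Quotient.eq_zero_iff_mem.mpr (Ideal.subset_span rfl)
  obtain ⟨w, hw⟩ := (IsNilpotent.isUnit_one_add (R := Q ⊗[A] B) hnil).exists_right_inv
  have hder : q (Polynomial.derivative g) = 0 := by
    have h := eval_derivative_eq_zero F z (q.comp (IsScalarTower.toAlgHom A R (Polynomial R))) t w hw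
      (hz Q (q.comp (IsScalarTower.toAlgHom A R (Polynomial R))) w)
    rw [Polynomial.derivative_map, Polynomial.eval_map] at h
    refine Eq.trans ?_ h
    generalize Polynomial.derivative (valS F (Polynomial R) (1 + ((Polynomial.X : Polynomial R) ⊗ₜ[A] (1 : B)) *
      Algebra.TensorProduct.map (IsScalarTower.toAlgHom A R (Polynomial R)) (AlgHom.id A B) z)) = p
    induction p using Polynomial.induction_on' with
    | add a b ha hb => rw [map_add, ha, hb, Polynomial.eval₂_add]
    | monomial k a =>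
      rw [← Polynomial.C_mul_X_pow_eq_monomial, map_mul, map_pow, Polynomial.eval₂_mul, Polynomial.eval₂_C, Polynomial.eval₂_X_pow]
      rfl
  have hd0 : Polynomial.derivative g = 0 := by
    refine Polynomial.ext fun i => ?_
    rw [Polynomial.coeff_zero]
    by_cases hi : i ≤ d
    · have hmem := Ideal.Quotient.eq_zero_iff_mem.mp hder
      obtain ⟨c, hc⟩ := Ideal.mem_span_singleton.mp hmem
      rw [hc, Polynomial.coeff_X_pow_mul', if_neg (by omega)]
    · rw [Polynomial.coeff_derivative, Polynomial.coeff_eq_zero_of_natDegree_lt (by omega), zero_mul]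
  have hconst : ∀ i, g.coeff (i + 1) = 0 := by
    intro i
    have h := congrArg (fun p => Polynomial.coeff p i) hd0
    simp only [Polynomial.coeff_derivative, Polynomial.coeff_zero] at h
    have h1 : algebraMap ℚ R ((i : ℚ) + 1) = (i : R) + 1 := by simp
    have hu : IsUnit ((i : R) + 1) := h1 ▸ (IsUnit.mk0 _ (by positivity)).map (algebraMap ℚ R)
    exact hu.mul_left_eq_zero.mp h
  have hev : ∀ c : R, ∀ y : Polynomial R, y = Polynomial.C (y.coeff 0) → Polynomial.eval c y = y.coeff 0 :=
    fun c y hy => by conv_lhs => rw [hy, Polynomial.eval_C]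
  have hgC : g = Polynomial.C (g.coeff 0) := Polynomial.ext fun i => by
    cases i with
    | zero => simp
    | succ i => simp [hconst i, Polynomial.coeff_C]
  have hat : ∀ c : R, Polynomial.eval c g = valS F R (1 + c • z) := by
    intro c
    show ((Polynomial.aeval (R := R) c).restrictScalars A) g = _
    rw [← valS_map, map_add, map_mul, map_one, map_map', map_id' _ (AlgHom.ext fun r => by simp)]
    congr 2
    simp [Algebra.smul_def, Algebra.TensorProduct.algebraMap_apply]
  have h0 := hat 0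
  have h1 := hat 1
  rw [zero_smul, add_zero, map_one, hev _ _ hgC] at h0
  rw [one_smul, hev _ _ hgC, h0] at h1
  exact h1.symm

/-- Over a `ℚ`-algebra the base-changed kernel is cut out by traces. -/
theorem mem_kerBC_iff_tauS (A' : Type u) [CommRing A'] [Algebra A A'] (b' : A' ⊗[A] B) :
    b' ∈ _root_.PolLaw.kerBC F.law A' ↔ ∀ y : B, tauS F (((1 : A') ⊗ₜ[A] y) * b') = 0 := by
  constructor
  · intro hb y
    rw [tauS, map_mul, ← mul_assoc, (mem_kerBC_iff F A' b').mp hb, map_one, Polynomial.coeff_one]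
    simp
  intro hy
  have key : ∀ (R : Type u) [CommRing R] [Algebra A R] [Algebra A' R] [IsScalarTower A A' R] (u : R ⊗[A] B),
      tauS F (u * Algebra.TensorProduct.map (IsScalarTower.toAlgHom A A' R) (AlgHom.id A B) b') = 0 := by
    intro R _ _ _ _ u
    induction u using TensorProduct.induction_on with
    | zero => rw [zero_mul, tauS_eq_tau]; simp
    | add x y hx hy => rw [add_mul, tauS_add, hx, hy, add_zero]
    | tmul r y =>
      rw [show r ⊗ₜ[A] y = r • ((1 : R) ⊗ₜ[A] y) by rw [TensorProduct.smul_tmul', smul_eq_mul, mul_one],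
        smul_mul_assoc]
      have e : tauS F ((((1 : R) ⊗ₜ[A] y)) * Algebra.TensorProduct.map (IsScalarTower.toAlgHom A A' R)
          (AlgHom.id A B) b') = 0 := by
        rw [show (1 : R) ⊗ₜ[A] y = Algebra.TensorProduct.map (IsScalarTower.toAlgHom A A' R) (AlgHom.id A B)
          ((1 : A') ⊗ₜ[A] y) by simp, ← map_mul, ← tauS_map, hy, map_zero]
      rw [tauS_eq_tau] at e ⊢
      have hs : ∀ z : R ⊗[A] B, TensorProduct.rid A R ((tau F).lTensor R (r • z)) =
          r * TensorProduct.rid A R ((tau F).lTensor R z) := by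
        intro z
        induction z using TensorProduct.induction_on with
        | zero => simp
        | tmul s b => simp [TensorProduct.smul_tmul', mul_smul_comm]
        | add p q hp hq => simp [hp, hq, mul_add]
      rw [hs, e, mul_zero]
  refine mem_kerBC_of_forall_ring F fun R _ _ _ _ x w => ?_
  let i := IsScalarTower.toAlgHom A A' R
  let Q := Polynomial R ⧸ Ideal.span {(Polynomial.X : Polynomial R) ^ (d + 1)}
  let q : Polynomial R →ₐ[A] Q := Ideal.Quotient.mkₐ A _
  let P := fun v : R ⊗[A] B => valS F (Polynomial R) (1 + ((Polynomial.X : Polynomial R) ⊗ₜ[A] (1 : B)) *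
    Algebra.TensorProduct.map (IsScalarTower.toAlgHom A R (Polynomial R)) (AlgHom.id A B) v)
  let ι := q.comp (IsScalarTower.toAlgHom A R (Polynomial R))
  let bQ := Algebra.TensorProduct.map (ι.comp i) (AlgHom.id A B) b'
  have hnil : IsNilpotent (q Polynomial.X ⊗ₜ[A] (1 : B) * Algebra.TensorProduct.map ι (AlgHom.id A B) x) := by
    refine ⟨d + 1, ?_⟩
    refine (mul_pow (M := Q ⊗[A] B) _ _ _).trans ?_
    rw [Algebra.TensorProduct.tmul_pow, show q Polynomial.X ^ (d + 1) = 0 from ?_]
    · rw [TensorProduct.zero_tmul]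
      exact zero_mul (M₀ := Q ⊗[A] B) _
    · rw [← map_pow]
      exact Ideal.Quotient.eq_zero_iff_mem.mpr (Ideal.subset_span rfl)
  obtain ⟨c, hc⟩ := (IsNilpotent.isUnit_one_add (R := Q ⊗[A] B) hnil).exists_right_inv
  have hPq : q (P (x + w * Algebra.TensorProduct.map i (AlgHom.id A B) b')) = q (P x) := by
    have hι : ι.comp i = IsScalarTower.toAlgHom A A' Q := AlgHom.ext fun a => rfl
    have h1 := valS_one_add_eq_one F (c * (q Polynomial.X ⊗ₜ[A] (1 : B)) *
        Algebra.TensorProduct.map ι (AlgHom.id A B) w * bQ) (fun R' _ _ φ u => by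
      let := (φ.toRingHom.comp (algebraMap A' Q)).toAlgebra
      have : IsScalarTower A A' R' := IsScalarTower.of_algebraMap_eq fun a => by
        show _ = φ (algebraMap A' Q (algebraMap A A' a))
        rw [← IsScalarTower.algebraMap_apply A A' Q, φ.commutes]
      rw [map_mul, ← mul_assoc, map_map', hι,
        show φ.comp (IsScalarTower.toAlgHom A A' Q) = IsScalarTower.toAlgHom A A' R' from AlgHom.ext fun _ => rfl]
      exact key R' _)
    simp only [P]
    refine (valS_map F q _).symm.trans (Eq.trans ?_ (valS_map F q _))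
    simp only [map_add, map_mul, map_one, map_map', Algebra.TensorProduct.map_tmul, AlgHom.id_apply]
    refine Eq.trans ?_ (Eq.trans (congrArg (HMul.hMul _) h1) (mul_one _))
    rw [← map_mul]
    congr 1
    simp only [ι, bQ, map_map', AlgHom.comp_assoc] at hc ⊢
    linear_combination -(q Polynomial.X ⊗ₜ[A] (1 : B) * Algebra.TensorProduct.map (q.comp (IsScalarTower.toAlgHom A R (Polynomial R))) (AlgHom.id A B) w *
      Algebra.TensorProduct.map (q.comp ((IsScalarTower.toAlgHom A R (Polynomial R)).comp i)) (AlgHom.id A B) b') * hc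
  have hco := congrArg (fun p => Polynomial.coeff p d) (show P (x + w * Algebra.TensorProduct.map i (AlgHom.id A B) b') = P x by
    refine Polynomial.ext fun k => ?_
    by_cases hk : k ≤ d
    · obtain ⟨e, he⟩ := Ideal.mem_span_singleton.mp (Ideal.Quotient.eq.mp hPq)
      have := congrArg (fun p => Polynomial.coeff p k) he
      simp only [Polynomial.coeff_sub, Polynomial.coeff_X_pow_mul', if_neg (show ¬ d + 1 ≤ k by omega)] at this
      exact sub_eq_zero.mp this
    · rw [Polynomial.coeff_eq_zero_of_natDegree_lt ((valS_one_add_X_natDegree F _).1.trans_lt (by omega)),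
        Polynomial.coeff_eq_zero_of_natDegree_lt ((valS_one_add_X_natDegree F _).1.trans_lt (by omega))])
  simp only [P, (valS_one_add_X_natDegree F _).2] at hco
  exact hco

end CharZero

end GrothLib.PolLaw
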