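import Groth.Agent.Lib.PolLaw.KerBC
import Mathlib.RingTheory.AdjoinRoot
import Mathlib.FieldTheory.Separable
import Mathlib.LinearAlgebra.TensorProduct.RightExactness
import Mathlib.RingTheory.TensorProduct.Quotient

/-!
# Kernels commute with base change along `T → T[X]/(g)` for monic separable `g`
-/

universe u

open TensorProduct Polynomial

namespace GrothLib.PolLaw

variable {A : Type u} [CommRing A] {B : Type u} [CommRing B] [Algebra A B] {d : ℕ}
  (F : _root_.PolLaw.MulLaw A B A d)

section

variable {T : Type u} [CommRing T] [Algebra A T] {g : Polynomial T} (hg : g.Monic)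

variable (A) in
/-- The inclusion of scalars. -/
noncomputable def rootIncl (g : Polynomial T) : T →ₐ[A] AdjoinRoot g :=
  IsScalarTower.toAlgHom A T (AdjoinRoot g)

variable (A) in
/-- A coordinate of `T[X]/(g)` in the monomial basis. -/
noncomputable def rootCoord (hg : g.Monic) (k : ℕ) : AdjoinRoot g →ₗ[A] T :=
  ((Polynomial.lcoeff T k).comp (AdjoinRoot.modByMonicHom hg)).restrictScalars A

lemma rootCoord_mk (k : ℕ) (p : Polynomial T) :
    rootCoord A hg k (AdjoinRoot.mk g p) = (p %ₘ g).coeff k := by
  simp [rootCoord, AdjoinRoot.modByMonicHom_mk]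

lemma rootCoord_smul (k : ℕ) (c : T) (a : AdjoinRoot g) :
    rootCoord A hg k (algebraMap T (AdjoinRoot g) c * a) = c * rootCoord A hg k a := by
  rw [← Algebra.smul_def]
  show ((Polynomial.lcoeff T k).comp (AdjoinRoot.modByMonicHom hg)) (c • a) = _
  rw [map_smul]
  rfl

lemma rTensor_rootCoord_mul (k : ℕ) (c : T ⊗[A] B) (y : AdjoinRoot g ⊗[A] B) :
    (rootCoord A hg k).rTensor B (Algebra.TensorProduct.map (rootIncl A g) (AlgHom.id A B) c * y) =
      c * (((1 : T) ⊗ₜ[A] (1 : B)) * (rootCoord A hg k).rTensor B y) := by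
  rw [← Algebra.TensorProduct.one_def, one_mul]
  induction c using TensorProduct.induction_on with
  | zero => simp
  | add p q hp hq => simp [add_mul, hp, hq]
  | tmul t b =>
    induction y using TensorProduct.induction_on with
    | zero => simp
    | add p q hp hq => simp only [mul_add, map_add, hp, hq]
    | tmul a b' =>
      simp only [Algebra.TensorProduct.map_tmul, AlgHom.id_apply, Algebra.TensorProduct.tmul_mul_tmul,
        LinearMap.rTensor_tmul, rootIncl, IsScalarTower.coe_toAlgHom']
      rw [rootCoord_smul]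

lemma sum_rootCoord (z : AdjoinRoot g ⊗[A] B) :
    ∑ k ∈ Finset.range g.natDegree, (((AdjoinRoot.root g) ^ k) ⊗ₜ[A] (1 : B)) *
      Algebra.TensorProduct.map (rootIncl A g) (AlgHom.id A B) ((rootCoord A hg k).rTensor B z) = z := by
  induction z using TensorProduct.induction_on with
  | zero => simp
  | add p q hp hq => simp [mul_add, Finset.sum_add_distrib, hp, hq]
  | tmul a b =>
    simp only [LinearMap.rTensor_tmul, Algebra.TensorProduct.map_tmul, AlgHom.id_apply,
      Algebra.TensorProduct.tmul_mul_tmul, one_mul, rootIncl, IsScalarTower.coe_toAlgHom',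
      ← TensorProduct.sum_tmul]
    congr 1
    obtain ⟨p, rfl⟩ := AdjoinRoot.mk_surjective a
    by_cases h1 : g = 1
    · have : Subsingleton (AdjoinRoot g) := subsingleton_of_zero_eq_one (by
        rw [← map_one (AdjoinRoot.mk g), ← AdjoinRoot.mk_self (f := g), h1])
      exact Subsingleton.elim _ _
    have : Nontrivial T := (subsingleton_or_nontrivial T).resolve_left fun h => h1 (Subsingleton.elim _ _)
    have hdeg : (p %ₘ g).natDegree < g.natDegree := natDegree_modByMonic_lt p hg h1
    rw [show AdjoinRoot.mk g p = AdjoinRoot.mk g (p %ₘ g) from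
      AdjoinRoot.mk_eq_mk.mpr (by
        refine ⟨p /ₘ g, ?_⟩
        linear_combination -(modByMonic_add_div p g))]
    conv_rhs => rw [(p %ₘ g).as_sum_range' g.natDegree hdeg, map_sum]
    refine Finset.sum_congr rfl fun k _ => ?_
    rw [rootCoord_mk, (modByMonic_eq_self_iff hg).mpr (degree_modByMonic_lt p hg),
      ← C_mul_X_pow_eq_monomial, map_mul, map_pow, AdjoinRoot.mk_C, AdjoinRoot.mk_X, mul_comm]
    rfl

include hg in
/-- Descent along `T → T[X]/(g)` of positive degree. -/
lemma mem_kerBC_of_rootIncl (hg0 : 0 < g.natDegree) {b : T ⊗[A] B}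
    (hb : Algebra.TensorProduct.map (rootIncl A g) (AlgHom.id A B) b ∈
      _root_.PolLaw.kerBC F.law (AdjoinRoot g)) : b ∈ _root_.PolLaw.kerBC F.law T := by
  refine mem_kerBC_of_forall_ring F fun R _ _ _ _ x w => ?_
  rcases subsingleton_or_nontrivial R with _ | _
  · exact Subsingleton.elim _ _
  let f : T →+* R := algebraMap T R
  let e : AdjoinRoot g →+* AdjoinRoot (g.map f) :=
    AdjoinRoot.lift ((AdjoinRoot.of (g.map f)).comp f) (AdjoinRoot.root (g.map f))
      (by rw [← eval₂_map]; exact AdjoinRoot.eval₂_root _)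
  let _ := e.toAlgebra
  have : IsScalarTower A (AdjoinRoot g) (AdjoinRoot (g.map f)) := IsScalarTower.of_algebraMap_eq fun a => by
    show _ = e (algebraMap A (AdjoinRoot g) a)
    rw [IsScalarTower.algebraMap_apply A T (AdjoinRoot g), AdjoinRoot.algebraMap_eq, AdjoinRoot.lift_of,
      RingHom.comp_apply, ← IsScalarTower.algebraMap_apply A T R,
      IsScalarTower.algebraMap_apply A R (AdjoinRoot (g.map f)), AdjoinRoot.algebraMap_eq]
  let i : R →ₐ[A] AdjoinRoot (g.map f) := IsScalarTower.toAlgHom A R _
  have hinj : Function.Injective i := by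
    intro r s hrs
    have h := congrArg (rootCoord A (hg.map f) 0) hrs
    simp only [i, IsScalarTower.coe_toAlgHom', AdjoinRoot.algebraMap_eq, ← AdjoinRoot.mk_C, rootCoord_mk] at h
    have hlt : ∀ c : R, (C c).degree < (g.map f).degree := fun c => lt_of_le_of_lt degree_C_le (by
      rw [hg.degree_map]
      exact natDegree_pos_iff_degree_pos.mp hg0)
    rw [(modByMonic_eq_self_iff (hg.map f)).mpr (hlt r), (modByMonic_eq_self_iff (hg.map f)).mpr (hlt s)] at h
    simpa using h
  refine hinj ?_
  rw [← valS_map, ← valS_map, map_add, map_mul, map_map']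
  have hc : i.comp (IsScalarTower.toAlgHom A T R) =
      (IsScalarTower.toAlgHom A (AdjoinRoot g) (AdjoinRoot (g.map f))).comp (rootIncl A g) :=
    AlgHom.ext fun t => by
      show _ = e (AdjoinRoot.of g t)
      rw [AdjoinRoot.lift_of]
      rfl
  rw [hc, ← map_map']
  exact (mem_kerBC_iff F (AdjoinRoot g) _).mp hb (AdjoinRoot (g.map f)) _ _

end

/-- Elements killed by a surjection with principal kernel. -/
lemma mul_eq_zero_of_map {P Q : Type u} [CommRing P] [Algebra A P] [CommRing Q] [Algebra A Q]
    (π : P →ₐ[A] Q) (hπ : Function.Surjective π) (a e : P) (hker : ∀ x, π x = 0 → ∃ y, x = a * y)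
    (hea : e * a = 0) {z : P ⊗[A] B} (hz : Algebra.TensorProduct.map π (AlgHom.id A B) z = 0) :
    (e ⊗ₜ[A] (1 : B)) * z = 0 := by
  have hz' : z ∈ RingHom.ker (Algebra.TensorProduct.map π (AlgHom.id A B)) := hz
  rw [Algebra.TensorProduct.rTensor_ker π hπ] at hz'
  refine Submodule.span_induction ?_ (mul_zero _) (fun x y _ _ hx hy => by rw [mul_add, hx, hy, add_zero])
    (fun c x _ hx => by rw [smul_eq_mul, mul_left_comm, hx, mul_zero]) hz'
  rintro _ ⟨x, hx, rfl⟩
  obtain ⟨y, rfl⟩ := hker x hx
  show (e ⊗ₜ[A] (1 : B)) * ((a * y) ⊗ₜ[A] (1 : B)) = 0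
  rw [Algebra.TensorProduct.tmul_mul_tmul, ← mul_assoc, hea, zero_mul, TensorProduct.zero_tmul]

/-- Along a monic separable polynomial the base-changed kernel is extended. -/
theorem kerBC_adjoinRoot_le (m : ℕ) : ∀ (T : Type u) [CommRing T] [Algebra A T] (g : Polynomial T),
    g.Monic → g.Separable → g.natDegree = m →
    _root_.PolLaw.kerBC F.law (AdjoinRoot g) ≤
      (_root_.PolLaw.kerBC F.law T).map (Algebra.TensorProduct.map (rootIncl A g) (AlgHom.id A B)) := by
  induction m with
  | zero =>
    intro T _ _ g hg _ hdeg z _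
    have hz := sum_rootCoord hg z
    rw [hdeg, Finset.range_zero, Finset.sum_empty] at hz
    rw [← hz]
    exact zero_mem _
  | succ m ih =>
    intro T _ _ g hg hsep hdeg z hz
    rcases subsingleton_or_nontrivial (AdjoinRoot g) with hsub | hnt
    · rw [show z = 0 by
        rw [← one_mul z, Algebra.TensorProduct.one_def, Subsingleton.elim (1 : AdjoinRoot g) 0,
          TensorProduct.zero_tmul, zero_mul]]
      exact zero_mem _
    set S := AdjoinRoot g
    set f := algebraMap T S with hf
    set θ : S := AdjoinRoot.root g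
    set gS := g.map f with hgS
    obtain ⟨h, hh⟩ : (X - C θ) ∣ gS := dvd_iff_isRoot.mpr (by
      rw [IsRoot.def, hgS, eval_map]
      exact AdjoinRoot.eval₂_root g)
    have hgSm : gS.Monic := hg.map f
    have hhm : h.Monic := (monic_X_sub_C θ).of_mul_monic_left (hh ▸ hgSm)
    have hgd : gS.natDegree = m + 1 := by rw [hgS, hg.natDegree_map, hdeg]
    have hhd : h.natDegree = m := by
      have := hgd
      rw [hh, (monic_X_sub_C θ).natDegree_mul hhm, natDegree_X_sub_C] at this
      omega
    have hgsep : gS.Separable := hsep.map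
    have hhsep : h.Separable := (hh ▸ hgsep).of_mul_right
    obtain ⟨u, hu⟩ : IsUnit (h.eval θ) := by
      obtain ⟨a, b, hab⟩ := hgsep
      have := congrArg (eval θ) hab
      simp only [eval_add, eval_mul, hh, eval_sub, eval_X, eval_C, sub_self, zero_mul, mul_zero, zero_add,
        derivative_mul, derivative_X_sub_C, one_mul, eval_one, add_zero] at this
      exact IsUnit.of_mul_eq_one_right _ this
    let P := AdjoinRoot gS
    let ι : S →ₐ[A] P := rootIncl A gS
    let π₁ : P →ₐ[S] S := AdjoinRoot.liftAlgHom gS (Algebra.ofId S S) θ (by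
      show eval₂ (RingHom.id S) θ gS = 0
      rw [hh]
      simp)
    let π₂ : P →ₐ[S] AdjoinRoot h := AdjoinRoot.liftAlgHom gS (Algebra.ofId S _) (AdjoinRoot.root h) (by
      show eval₂ (AdjoinRoot.of h) (AdjoinRoot.root h) gS = 0
      rw [hh, eval₂_mul, AdjoinRoot.eval₂_root, mul_zero])
    have hπ₁mk : ∀ p, π₁ (AdjoinRoot.mk gS p) = p.eval θ := fun p => rfl
    have hπ₂mk : ∀ p, π₂ (AdjoinRoot.mk gS p) = AdjoinRoot.mk h p := fun p => by
      show eval₂ (AdjoinRoot.of h) (AdjoinRoot.root h) p = _
      rw [← AdjoinRoot.aeval_eq]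
      rfl
    let jr : S →+* P := AdjoinRoot.lift ((algebraMap S P).comp f) (AdjoinRoot.root gS) (by
      rw [← eval₂_map]; exact AdjoinRoot.eval₂_root gS)
    let j : S →ₐ[A] P :=
      { jr with
        commutes' := fun a => by
          show jr (algebraMap A S a) = algebraMap A P a
          rw [IsScalarTower.algebraMap_apply A T S, AdjoinRoot.algebraMap_eq, AdjoinRoot.lift_of,
            IsScalarTower.algebraMap_apply A S P, IsScalarTower.algebraMap_apply A T S]
          rfl }
    let z' := Algebra.TensorProduct.map j (AlgHom.id A B) z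
    let e₁ : P := AdjoinRoot.mk gS (C (↑u⁻¹ : S) * h)
    let I : Ideal (P ⊗[A] B) :=
      (_root_.PolLaw.kerBC F.law S).map (Algebra.TensorProduct.map ι (AlgHom.id A B))
    have hz' : z' ∈ _root_.PolLaw.kerBC F.law P := map_mem_kerBC F j hz
    have h1 : (e₁ ⊗ₜ[A] (1 : B)) * z' ∈ I := by
      let c := Algebra.TensorProduct.map (π₁.restrictScalars A) (AlgHom.id A B) z'
      have hc : c ∈ _root_.PolLaw.kerBC F.law S := map_mem_kerBC F _ hz'
      have h0 : (e₁ ⊗ₜ[A] (1 : B)) * (z' - Algebra.TensorProduct.map ι (AlgHom.id A B) c) = 0 := by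
        refine mul_eq_zero_of_map (π₁.restrictScalars A) (fun s => ⟨ι s, π₁.commutes s⟩)
          (AdjoinRoot.mk gS (X - C θ)) e₁ (fun x hx => ?_) ?_ ?_
        · obtain ⟨p, rfl⟩ := AdjoinRoot.mk_surjective x
          obtain ⟨q, rfl⟩ := dvd_iff_isRoot.mpr ((hπ₁mk p).symm.trans hx)
          exact ⟨AdjoinRoot.mk gS q, map_mul _ _ _⟩
        · rw [← map_mul, mul_assoc, mul_comm h, ← hh, map_mul, AdjoinRoot.mk_self, mul_zero]
        · rw [map_sub, map_map' _ ι c, map_id' ((π₁.restrictScalars A).comp ι) (AlgHom.ext fun s => π₁.commutes s), sub_self]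
      rw [mul_sub, sub_eq_zero] at h0
      rw [h0]
      exact Ideal.mul_mem_left _ _ (Ideal.mem_map_of_mem _ hc)
    have h2 : ((1 - e₁) ⊗ₜ[A] (1 : B)) * z' ∈ I := by
      have hsurj : Function.Surjective (π₂.restrictScalars A) := fun y => by
        obtain ⟨p, rfl⟩ := AdjoinRoot.mk_surjective y
        exact ⟨AdjoinRoot.mk gS p, hπ₂mk p⟩
      have hmap : I.map (Algebra.TensorProduct.map (π₂.restrictScalars A) (AlgHom.id A B)) =
          (_root_.PolLaw.kerBC F.law S).map (Algebra.TensorProduct.map (rootIncl A h) (AlgHom.id A B)) := by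
        show Ideal.map _ (Ideal.map _ _) = _
        rw [Ideal.map_mapₐ, ← Algebra.TensorProduct.map_comp,
          show (π₂.restrictScalars A).comp ι = rootIncl A h from AlgHom.ext fun s => π₂.commutes s, AlgHom.comp_id]
      have := ih S h hhm hhsep hhd (map_mem_kerBC F (π₂.restrictScalars A) hz')
      rw [← hmap, Ideal.mem_map_iff_of_surjective _
        (Algebra.TensorProduct.map_surjective _ _ hsurj Function.surjective_id)] at this
      obtain ⟨w, hw, hwz⟩ := this
      have h0 : ((1 - e₁) ⊗ₜ[A] (1 : B)) * (z' - w) = 0 := by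
        refine mul_eq_zero_of_map (π₂.restrictScalars A) hsurj (AdjoinRoot.mk gS h) (1 - e₁) (fun x hx => ?_) ?_ ?_
        · obtain ⟨p, rfl⟩ := AdjoinRoot.mk_surjective x
          obtain ⟨q, rfl⟩ := AdjoinRoot.mk_eq_zero.mp ((hπ₂mk p).symm.trans hx)
          exact ⟨AdjoinRoot.mk gS q, map_mul _ _ _⟩
        · obtain ⟨q, hq⟩ : (X - C θ) ∣ 1 - C (↑u⁻¹ : S) * h := dvd_iff_isRoot.mpr (by
            simp [IsRoot.def, ← hu])
          rw [show (1 : P) - e₁ = AdjoinRoot.mk gS (1 - C (↑u⁻¹ : S) * h) by rw [map_sub, map_one],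
            ← map_mul, hq, mul_right_comm, ← hh, map_mul, AdjoinRoot.mk_self, zero_mul]
        · rw [map_sub, hwz, sub_self]
      rw [mul_sub, sub_eq_zero] at h0
      rw [h0]
      exact Ideal.mul_mem_left _ _ hw
    have hzI : z' ∈ I := by
      have := add_mem h1 h2
      rwa [← add_mul, ← TensorProduct.add_tmul, add_sub_cancel, ← Algebra.TensorProduct.one_def, one_mul] at this
    have hco : ∀ k, (rootCoord A hgSm k).rTensor B z' ∈ _root_.PolLaw.kerBC F.law S := by
      intro k
      revert hzI
      generalize z' = v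
      intro hv
      induction hv using Submodule.span_induction generalizing k with
      | zero => rw [map_zero]; exact zero_mem _
      | add x y _ _ hx hy => rw [map_add]; exact add_mem (hx k) (hy k)
      | mem x hx =>
        obtain ⟨c, hc, rfl⟩ := hx
        rw [← mul_one (Algebra.TensorProduct.map ι (AlgHom.id A B) c), rTensor_rootCoord_mul]
        exact Ideal.mul_mem_right _ _ hc
      | smul a x _ hx =>
        rw [smul_eq_mul, mul_comm, ← sum_rootCoord hgSm x, Finset.sum_mul, map_sum]
        refine Submodule.sum_mem _ fun l _ => ?_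
        rw [mul_comm ((AdjoinRoot.root gS ^ l) ⊗ₜ[A] (1 : B)), mul_assoc, rTensor_rootCoord_mul]
        exact Ideal.mul_mem_right _ _ (hx l)
    rw [← sum_rootCoord hg z]
    refine Submodule.sum_mem _ fun k _ => Ideal.mul_mem_left _ _ (Ideal.mem_map_of_mem _ ?_)
    refine mem_kerBC_of_rootIncl F hg (by omega) ?_
    have hcomm : Algebra.TensorProduct.map (rootIncl A g) (AlgHom.id A B) ((rootCoord A hg k).rTensor B z) =
        (rootCoord A hgSm k).rTensor B z' := by
      simp only [z']
      generalize z = v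
      induction v using TensorProduct.induction_on with
      | zero => simp
      | add x y hx hy => simp [hx, hy]
      | tmul a b =>
        obtain ⟨p, rfl⟩ := AdjoinRoot.mk_surjective a
        have hjp : j (AdjoinRoot.mk g p) = AdjoinRoot.mk gS (p.map f) := by
          show jr (AdjoinRoot.mk g p) = _
          rw [AdjoinRoot.lift_mk, ← AdjoinRoot.aeval_eq, aeval_def, eval₂_map]
        simp only [LinearMap.rTensor_tmul, Algebra.TensorProduct.map_tmul, AlgHom.id_apply, hjp, rootCoord_mk]
        congr 1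
        show f _ = _
        rw [hgS, ← map_modByMonic f hg, coeff_map]
    rw [hcomm]
    exact hco k

end GrothLib.PolLaw
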