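import Groth.Agent.Lib.PolLaw.Factor

/-!
# Multiplicative laws: the coefficient span is a subalgebra; `Γ^d` is spanned by coefficients
-/

universe u

open TensorProduct

namespace GrothLib.PolLaw

open MvPolynomial (X C monomial)

variable {A : Type u} [CommRing A] {B N : Type u} [CommRing B] [Algebra A B]
  [CommRing N] [Algebra A N] {d : ℕ}

/-- Product of two coefficients, read off from the family of pairwise products. -/
lemma coeff_mul_coeff_mem {F : B →ₚₗ[A] N} (hF : _root_.PolLaw.IsMult F) {ι κ : Type} [Fintype ι]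
    [Fintype κ] (m : ι → B) (m' : κ → B) (μ : ι →₀ ℕ) (ν : κ →₀ ℕ) :
    coeff F m μ * coeff F m' ν ∈
      Submodule.span A (Set.range fun ρ : ι × κ →₀ ℕ => coeff F (fun q : ι × κ => m q.1 * m' q.2) ρ) := by
  classical
  let x : MvPolynomial (ι ⊕ κ) A ⊗[A] B := ∑ i, (X (Sum.inl i) : MvPolynomial (ι ⊕ κ) A) ⊗ₜ[A] m i
  let y : MvPolynomial (ι ⊕ κ) A ⊗[A] B := ∑ j, (X (Sum.inr j) : MvPolynomial (ι ⊕ κ) A) ⊗ₜ[A] m' j
  have hxy : x * y = ∑ q : ι × κ, ((X (Sum.inl q.1) * X (Sum.inr q.2) : MvPolynomial (ι ⊕ κ) A)) ⊗ₜ[A] (m q.1 * m' q.2) := by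
    simp [x, y, Finset.sum_mul_sum, Algebra.TensorProduct.tmul_mul_tmul, Fintype.sum_prod_type]
  have key : ∀ (a : ι →₀ ℕ) (b : κ →₀ ℕ),
      (∏ i, (X (Sum.inl i) : MvPolynomial (ι ⊕ κ) A) ^ a i) * ∏ j, (X (Sum.inr j) : MvPolynomial (ι ⊕ κ) A) ^ b j =
        monomial (Finsupp.sumElim a b) 1 := by
    intro a b
    rw [MvPolynomial.monomial_eq, Finsupp.prod_fintype _ _ fun i => pow_zero _, Fintype.prod_sum_type]
    simp
  have h := (hF (MvPolynomial (ι ⊕ κ) A)).2 x y
  rw [hxy, toFun'_sum, toFun'_sum, toFun'_sum, Finsupp.sum, Finsupp.sum, Finsupp.sum,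
    Finset.sum_mul_sum] at h
  simp only [Algebra.TensorProduct.tmul_mul_tmul, key] at h
  have h2 := congrArg (fun z => coeffEquiv A N (ι ⊕ κ) z (Finsupp.sumElim μ ν)) h
  simp only [map_sum, Finsupp.finsetSum_apply, coeffEquiv_tmul, MvPolynomial.coeff_monomial] at h2
  have hinj : ∀ (a : ι →₀ ℕ) (b : κ →₀ ℕ),
      Finsupp.sumElim a b = Finsupp.sumElim μ ν → a = μ ∧ b = ν := fun a b he =>
    ⟨by ext i; simpa using congrArg (· (Sum.inl i)) he, by ext j; simpa using congrArg (· (Sum.inr j)) he⟩
  rw [Finset.sum_eq_single μ, Finset.sum_eq_single ν, if_pos rfl, one_smul] at h2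
  · rw [← h2]
    exact Submodule.sum_mem _ fun ρ _ => Submodule.smul_mem _ _ (Submodule.subset_span ⟨ρ, rfl⟩)
  · intro b _ hb
    rw [if_neg fun he => hb (hinj _ _ he).2, zero_smul]
  · intro hν
    simp [Finsupp.notMem_support_iff.mp hν]
  · intro a _ ha
    exact Finset.sum_eq_zero fun b _ => by rw [if_neg fun he => ha (hinj _ _ he).1, zero_smul]
  · intro hμ
    simp [Finsupp.notMem_support_iff.mp hμ]

lemma one_mem_coeffSpan (F : _root_.PolLaw.MulLaw A B N d) : (1 : N) ∈ coeffSpan F.law := by
  have h : F.law.toFun' (MvPolynomial (Fin 1) A) (univ A ![(1 : B)]) =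
      ((X 0 : MvPolynomial (Fin 1) A) ^ d) ⊗ₜ[A] (1 : N) := by
    have h1 : univ A ![(1 : B)] = (X 0 : MvPolynomial (Fin 1) A) • (1 : MvPolynomial (Fin 1) A ⊗[A] B) := by
      simp [univ, Algebra.TensorProduct.one_def, TensorProduct.smul_tmul']
    rw [h1, F.homog, (F.mult _).1]
    simp [Algebra.TensorProduct.one_def, TensorProduct.smul_tmul']
  refine Submodule.subset_span ⟨1, ![1], Finsupp.single 0 d, ?_⟩
  rw [coeff, h, coeffEquiv_tmul, MvPolynomial.X_pow_eq_monomial]
  simp

lemma mul_mem_coeffSpan (F : _root_.PolLaw.MulLaw A B N d) {a b : N} (ha : a ∈ coeffSpan F.law)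
    (hb : b ∈ coeffSpan F.law) : a * b ∈ coeffSpan F.law := by
  induction ha using Submodule.span_induction with
  | mem a ha =>
    obtain ⟨n, m, μ, rfl⟩ := ha
    induction hb using Submodule.span_induction with
    | mem b hb =>
      obtain ⟨k, m', ν, rfl⟩ := hb
      refine Submodule.span_le.mpr ?_ (coeff_mul_coeff_mem F.mult m m' μ ν)
      rintro _ ⟨ρ, rfl⟩
      exact coeff_mem_coeffSpan _ _ _
    | zero => simp
    | add b c _ _ hb hc => rw [mul_add]; exact add_mem hb hc
    | smul r b _ hb => rw [mul_smul_comm]; exact Submodule.smul_mem _ _ hb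
  | zero => simp
  | add a c _ _ ha hc => rw [add_mul]; exact add_mem ha hc
  | smul r a _ ha => rw [smul_mul_assoc]; exact Submodule.smul_mem _ _ ha

/-- The span of the coefficients, as a subalgebra. -/
noncomputable def coeffAlgebra (F : _root_.PolLaw.MulLaw A B N d) : Subalgebra A N :=
  (coeffSpan F.law).toSubalgebra (one_mem_coeffSpan F) fun _ _ => mul_mem_coeffSpan F

/-- A multiplicative law whose coefficients lie in a subalgebra, as a law into that subalgebra. -/
noncomputable def restrictLaw (F : _root_.PolLaw.MulLaw A B N d) (P : Subalgebra A N)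
    (hP : ∀ (n : ℕ) (m : Fin n → B) (μ : Fin n →₀ ℕ), coeff F.law m μ ∈ P) :
    _root_.PolLaw.MulLaw A B P d where
  law := factorLaw F.law (P := Subalgebra.toSubmodule P) hP
  homog S _ _ s x := by
    obtain ⟨x, rfl⟩ := coverHom_rTensor_surjective (M := B) A S x
    obtain ⟨t, rfl⟩ := coverHom_surjective A S s
    have hs : coverHom A S t • (coverHom A S).toLinearMap.rTensor B x =
        (coverHom A S).toLinearMap.rTensor B (t • x) := by
      induction x using TensorProduct.induction_on with
      | zero => simp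
      | tmul p b => simp [TensorProduct.smul_tmul']
      | add p q hp hq => simp [smul_add, hp, hq]
    show factorFun F.law (P := Subalgebra.toSubmodule P) hP S _ = coverHom A S t ^ d • factorFun F.law (P := Subalgebra.toSubmodule P) hP S _
    rw [hs, factorFun_cover, factorFun_cover]
    have hl : liftVal F.law (P := Subalgebra.toSubmodule P) hP (MvPolynomial S A) (t • x) = t ^ d • liftVal F.law (P := Subalgebra.toSubmodule P) hP _ x := by
      apply lTensor_subtype_injective
      rw [liftVal_spec, F.homog]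
      refine Eq.symm ?_
      generalize hv : liftVal F.law (P := Subalgebra.toSubmodule P) hP (MvPolynomial S A) x = v
      rw [← liftVal_spec F.law (P := Subalgebra.toSubmodule P) hP (MvPolynomial S A) x, hv]
      clear hv
      induction v using TensorProduct.induction_on with
      | zero => simp
      | tmul p b => simp [TensorProduct.smul_tmul']
      | add p q hp hq => simp [smul_add, hp, hq]
    rw [hl]
    generalize liftVal F.law (P := Subalgebra.toSubmodule P) hP (MvPolynomial S A) x = v
    induction v using TensorProduct.induction_on with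
    | zero => simp
    | tmul p b => simp [TensorProduct.smul_tmul']
    | add p q hp hq => simp [smul_add, hp, hq]
  mult S _ _ := by
    let ff : S ⊗[A] B → S ⊗[A] P := factorFun F.law (P := Subalgebra.toSubmodule P) hP S
    let lv : MvPolynomial S A ⊗[A] B → MvPolynomial S A ⊗[A] P :=
      liftVal F.law (P := Subalgebra.toSubmodule P) hP _
    have hfac : ∀ z, ff ((coverHom A S).toLinearMap.rTensor B z) =
        (coverHom A S).toLinearMap.rTensor P (lv z) :=
      fun z => factorFun_cover F.law (P := Subalgebra.toSubmodule P) hP z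
    have inj : Function.Injective
        (Algebra.TensorProduct.map (AlgHom.id (MvPolynomial S A) (MvPolynomial S A)) P.val) := by
      intro a b h
      rw [← _root_.PolLaw.lTensor_algHom_apply, ← _root_.PolLaw.lTensor_algHom_apply] at h
      exact lTensor_subtype_injective (Subalgebra.toSubmodule P) S h
    have spec : ∀ z, Algebra.TensorProduct.map (AlgHom.id (MvPolynomial S A) (MvPolynomial S A)) P.val
        (lv z) = F.law.toFun' _ z := by
      intro z
      rw [← _root_.PolLaw.lTensor_algHom_apply]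
      exact liftVal_spec F.law (P := Subalgebra.toSubmodule P) hP _ z
    have hπ : ∀ {W : Type u} [CommRing W] [Algebra A W] (z : MvPolynomial S A ⊗[A] W),
        (coverHom A S).toLinearMap.rTensor W z =
          Algebra.TensorProduct.map (coverHom A S) (AlgHom.id A W) z := by
      intro W _ _ z
      induction z using TensorProduct.induction_on with
      | zero => simp
      | tmul p b => simp
      | add p q hp hq => simp [hp, hq]
    refine ⟨?_, fun x y => ?_⟩
    · show ff 1 = 1
      rw [show (1 : S ⊗[A] B) = (coverHom A S).toLinearMap.rTensor B 1 by rw [hπ, map_one],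
        hfac,
        show lv 1 = 1 from inj (by rw [spec, (F.mult _).1, map_one])]
      exact (hπ (W := P) 1).trans (map_one _)
    · obtain ⟨x, rfl⟩ := coverHom_rTensor_surjective (M := B) A S x
      obtain ⟨y, rfl⟩ := coverHom_rTensor_surjective (M := B) A S y
      show ff _ = ff _ * ff _
      rw [show (coverHom A S).toLinearMap.rTensor B x * (coverHom A S).toLinearMap.rTensor B y =
          (coverHom A S).toLinearMap.rTensor B (x * y) by rw [hπ, hπ, hπ, map_mul],
        hfac, hfac, hfac,
        show lv (x * y) = lv x * lv y from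
          inj (by rw [spec, (F.mult _).2, map_mul, spec, spec])]
      exact (hπ (W := P) _).trans ((map_mul _ _ _).trans (by rw [← hπ, ← hπ]))

lemma postcomp_restrictLaw (F : _root_.PolLaw.MulLaw A B N d) (P : Subalgebra A N)
    (hP : ∀ (n : ℕ) (m : Fin n → B) (μ : Fin n →₀ ℕ), coeff F.law m μ ∈ P) :
    _root_.PolLaw.postcomp P.val.toLinearMap (restrictLaw F P hP).law = F.law :=
  postcomp_factorLaw F.law (P := Subalgebra.toSubmodule P) hP

/-- Two algebra maps out of `Γ^d` agreeing on the coefficients are equal. -/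
lemma algHom_ext_coeff {γ : _root_.PolLaw.MulLaw A B N d} (hγ : _root_.PolLaw.IsGammaD γ)
    {C' : Type u} [CommRing C'] [Algebra A C'] {f g : N →ₐ[A] C'}
    (h : ∀ (n : ℕ) (m : Fin n → B) μ, f (coeff γ.law m μ) = g (coeff γ.law m μ)) : f = g :=
  (hγ C' (_root_.PolLaw.MulLaw.postcomp g γ)).unique (postcomp_eq_of_coeff h) rfl

/-- A subalgebra of `Γ^d` containing all coefficients is everything. -/
lemma eq_top_of_coeff_mem {γ : _root_.PolLaw.MulLaw A B N d} (hγ : _root_.PolLaw.IsGammaD γ)
    (P : Subalgebra A N) (hP : ∀ (n : ℕ) (m : Fin n → B) (μ : Fin n →₀ ℕ), coeff γ.law m μ ∈ P) :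
    P = ⊤ := by
  obtain ⟨f, hf, -⟩ := hγ P (restrictLaw γ P hP)
  have hid : P.val.comp f = AlgHom.id A N := by
    refine algHom_ext_coeff hγ fun n m μ => ?_
    have e1 := coeff_postcomp f.toLinearMap γ.law m μ
    have e2 := coeff_postcomp P.val.toLinearMap (restrictLaw γ P hP).law m μ
    rw [hf] at e1
    rw [postcomp_restrictLaw] at e2
    show P.val (f (coeff γ.law m μ)) = coeff γ.law m μ
    exact (congrArg P.val e1.symm).trans e2.symm
  refine Algebra.eq_top_iff.mpr fun x => ?_
  have hx := DFunLike.congr_fun hid x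
  rw [AlgHom.id_apply] at hx
  exact hx ▸ (f x).2

lemma coeffSpan_eq_top {γ : _root_.PolLaw.MulLaw A B N d} (hγ : _root_.PolLaw.IsGammaD γ) :
    coeffSpan γ.law = ⊤ := by
  refine eq_top_iff.mpr fun x _ => ?_
  have := eq_top_of_coeff_mem hγ (coeffAlgebra γ) fun n m μ => coeff_mem_coeffSpan γ.law m μ
  exact (Algebra.eq_top_iff.mp this x : x ∈ coeffAlgebra γ)

end GrothLib.PolLaw
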