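import Groth.Agent.Lib.PolLaw.Sym
import Groth.Agent.Lib.PolLaw.Descend
import Mathlib.RingTheory.MvPolynomial.Basic

/-!
# The symmetrisation law lifted to `Γ^d`

For `(C, γ) = Γ^d_A(B)` there is a multiplicative law `F : ⨂^d B → C` of degree `d!` whose composite
with `C → TS^d B` is `z ↦ ∏ σ z`. It is built on a polynomial cover `B' → B`, where `Γ^d = TS^d`.
-/

universe u

open TensorProduct

namespace GrothLib.PolLaw

open MvPolynomial (X C monomial)

variable {A : Type u} [CommRing A] {B : Type u} [CommRing B] [Algebra A B] {d : ℕ}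

lemma perm_perm (σ τ : Equiv.Perm (Fin d)) (t : ⨂[A] _ : Fin d, B) :
    SymTen.perm A B d τ (SymTen.perm A B d σ t) = SymTen.perm A B d (τ * σ) t := by
  induction t using PiTensorProduct.induction_on with
  | smul_tprod r f => simp [Equiv.Perm.mul_def]
  | add x y hx hy => simp [hx, hy]

lemma postcomp_perm_symmLaw (τ : Equiv.Perm (Fin d)) :
    _root_.PolLaw.postcomp (SymTen.perm A B d τ).toLinearMap (SymTen.symmLaw A B d).law =
      (SymTen.symmLaw A B d).law := by
  ext S _ _ x
  show (SymTen.perm A B d τ).toLinearMap.lTensor S ((SymTen.symmLaw A B d).law.toFun' S x) = _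
  simp only [SymTen.symmLaw, _root_.PolLaw.MulLaw.prodMap_toFun']
  rw [_root_.PolLaw.lTensor_algHom_apply, map_prod]
  refine Fintype.prod_equiv (Equiv.mulLeft τ) _ _ fun σ => ?_
  induction x using TensorProduct.induction_on with
  | zero => simp
  | tmul s b => simp [perm_perm]
  | add x y hx hy => simp only [map_add, hx, hy]

lemma coeff_symmLaw_mem (n : ℕ) (m : Fin n → ⨂[A] _ : Fin d, B) (ν : Fin n →₀ ℕ) :
    coeff (SymTen.symmLaw A B d).law m ν ∈ SymTen.TS A B d := fun τ => by
  rw [← SymTen.perm_apply]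
  conv_rhs => rw [← postcomp_perm_symmLaw τ]
  rw [coeff_postcomp]
  rfl

variable (A B d) in
/-- The symmetrisation law into symmetric tensors. -/
noncomputable def symmLawTS :
    _root_.PolLaw.MulLaw A (⨂[A] _ : Fin d, B) (SymTen.TS A B d) d.factorial :=
  restrictLaw (SymTen.symmLaw A B d) (SymTen.TS A B d) coeff_symmLaw_mem

lemma postcomp_val_symmLawTS :
    _root_.PolLaw.postcomp (SymTen.TS A B d).val.toLinearMap (symmLawTS A B d).law =
      (SymTen.symmLaw A B d).law :=
  postcomp_restrictLaw _ _ _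

/-- Laws into symmetric tensors are determined by their composites with the inclusion. -/
lemma law_ext_val {M : Type u} [AddCommGroup M] [Module A M] {F G : M →ₚₗ[A] SymTen.TS A B d}
    (h : _root_.PolLaw.postcomp (SymTen.TS A B d).val.toLinearMap F =
      _root_.PolLaw.postcomp (SymTen.TS A B d).val.toLinearMap G) : F = G :=
  ext_coeff fun n m μ => Subtype.ext <| by
    have := congrArg (fun L => coeff L m μ) h
    simp only [coeff_postcomp] at this
    exact this

lemma symmLaw_comp_val :
    _root_.PolLaw.precomp (SymTen.symmLaw A B d).law (SymTen.TS A B d).val.toLinearMap =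
      _root_.PolLaw.postcomp (SymTen.TS A B d).val.toLinearMap
        (_root_.PolLaw.powLaw (A := A) (B := SymTen.TS A B d) d.factorial) := by
  ext S _ _ x
  show (SymTen.symmLaw A B d).law.toFun' S ((SymTen.TS A B d).val.toLinearMap.lTensor S x) =
    (SymTen.TS A B d).val.toLinearMap.lTensor S (x ^ d.factorial)
  simp only [SymTen.symmLaw, _root_.PolLaw.MulLaw.prodMap_toFun']
  rw [_root_.PolLaw.lTensor_algHom_apply, _root_.PolLaw.lTensor_algHom_apply, map_pow]
  rw [Finset.prod_congr rfl fun σ _ => ?_, Finset.prod_const, Finset.card_univ, Fintype.card_perm,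
    Fintype.card_fin]
  induction x using TensorProduct.induction_on with
  | zero => simp
  | tmul s t =>
    simp only [Algebra.TensorProduct.map_tmul, AlgHom.id_apply]
    congr 1
    rw [SymTen.perm_apply]
    exact t.2 σ
  | add x y hx hy => simp only [map_add, hx, hy]

section combinatorics

variable {K : Type} [Fintype K]

/-- Number of times the factor `q = (k, j)` lands in slot `l` for the choice `f`. -/
noncomputable def slotCount (d : ℕ) {K : Type} (f : Equiv.Perm (Fin d) → K) (l : Fin d)
    (q : K × Fin d) : Fin (Fintype.card (Equiv.Perm (Fin d)) + 1) :=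
  open Classical in
  ⟨(Finset.univ.filter fun σ : Equiv.Perm (Fin d) => (f σ, σ.symm l) = q).card,
    Nat.lt_succ_of_le (Finset.card_le_univ _)⟩

/-- The monomial in the entries of `m` with exponent vector `i`. -/
noncomputable def evalExp (m : K → Fin d → B) {N : ℕ} (i : K × Fin d → Fin N) : B :=
  ∏ q : K × Fin d, m q.1 q.2 ^ (i q : ℕ)

lemma evalExp_slotCount (m : K → Fin d → B) (f : Equiv.Perm (Fin d) → K) (l : Fin d) :
    evalExp m (slotCount d f l) = ∏ σ : Equiv.Perm (Fin d), m (f σ) (σ.symm l) := by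
  classical
  unfold evalExp
  rw [← Finset.prod_fiberwise Finset.univ (fun σ : Equiv.Perm (Fin d) => (f σ, σ.symm l))
    fun σ => m (f σ) (σ.symm l)]
  refine Finset.prod_congr rfl fun q _ => ?_
  rw [Finset.prod_congr rfl fun σ hσ =>
    show m (f σ) (σ.symm l) = m q.1 q.2 by rw [← (Finset.mem_filter.mp hσ).2], Finset.prod_const]
  simp only [slotCount]

omit [Fintype K] in
lemma slotCount_mulLeft (f : Equiv.Perm (Fin d) → K) (τ : Equiv.Perm (Fin d)) :
    slotCount d (fun σ => f (τ * σ)) = slotCount d f ∘ τ := by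
  classical
  funext l q
  refine Fin.ext ?_
  simp only [slotCount, Function.comp_apply]
  refine Finset.card_equiv (Equiv.mulLeft τ) fun σ => ?_
  simp [Equiv.Perm.mul_def]

end combinatorics

lemma prod_tprod_perm {K : Type} (m : K → Fin d → B) (f : Equiv.Perm (Fin d) → K) :
    ∏ σ : Equiv.Perm (Fin d), SymTen.perm A B d σ (PiTensorProduct.tprod A (m (f σ))) =
      PiTensorProduct.tprod A fun l => ∏ σ : Equiv.Perm (Fin d), m (f σ) (σ.symm l) := by
  simp only [SymTen.perm_tprod]
  rw [← PiTensorProduct.tprod_prod]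
  congr 1
  funext l
  simp

/-- A coefficient of the symmetrisation law is a combination of orbit sums with multiplicities
independent of the entries. -/
lemma coeff_symmLaw_tprod (d : ℕ) {K : Type} [Fintype K] (ν : K →₀ ℕ) :
    ∃ (ι : Type) (_ : Fintype ι) (N : ℕ) (e : ι → K × Fin d → Fin N) (s : Finset (ι →₀ ℕ))
      (c : (ι →₀ ℕ) → ℕ),
      ∀ {A : Type u} [CommRing A] {B : Type u} [CommRing B] [Algebra A B] (m : K → Fin d → B),
        coeff (SymTen.symmLaw A B d).law (fun k => PiTensorProduct.tprod A (m k)) ν =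
          ∑ μ ∈ s, c μ • orbit A (fun i => evalExp m (e i)) μ := by
  classical
  let N := Fintype.card (Equiv.Perm (Fin d)) + 1
  let ι := K × Fin d → Fin N
  let Φ := Finset.univ.filter fun f : Equiv.Perm (Fin d) → K =>
    (∑ σ, Finsupp.single (f σ) 1 : K →₀ ℕ) = ν
  let cnt : (Fin d → ι) → ℕ := fun p => (Φ.filter fun f => slotCount d f = p).card
  have hcnt : ∀ (p : Fin d → ι) (τ : Equiv.Perm (Fin d)), cnt (p ∘ τ) = cnt p := by
    intro p τ
    symm
    refine Finset.card_equiv ((Equiv.mulLeft τ).symm.arrowCongr (Equiv.refl K)) fun f => ?_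
    simp only [Φ, Finset.mem_filter, Finset.mem_univ, true_and]
    rw [show (((Equiv.mulLeft τ).symm.arrowCongr (Equiv.refl K)) f) = fun σ => f (τ * σ) by
        funext σ; rfl, slotCount_mulLeft]
    rw [show (∑ σ, Finsupp.single (f (τ * σ)) 1 : K →₀ ℕ) = ∑ σ, Finsupp.single (f σ) 1 from
      Fintype.sum_equiv (Equiv.mulLeft τ) _ _ fun σ => rfl]
    refine and_congr_right fun _ => ⟨fun h => by rw [h], fun h => ?_⟩
    funext l
    simpa using congrFun h (τ.symm l)
  refine ⟨ι, inferInstance, N, fun i => i, Finset.univ.image (fun p : Fin d → ι => pat p),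
    fun μ => if h : ∃ p : Fin d → ι, pat p = μ then cnt h.choose else 0, fun {A} _ {B} _ _ m => ?_⟩
  have h1 : (SymTen.symmLaw A B d).law.toFun' _ (univ A fun k => PiTensorProduct.tprod A (m k)) =
      ∑ f : Equiv.Perm (Fin d) → K, monomial (∑ σ, Finsupp.single (f σ) 1) (1 : A) ⊗ₜ[A]
        PiTensorProduct.tprod A fun l => evalExp m (slotCount d f l) := by
    simp only [univ, SymTen.symmLaw, _root_.PolLaw.MulLaw.prodMap_toFun', map_sum,
      Algebra.TensorProduct.map_tmul, AlgHom.id_apply]
    rw [Finset.prod_univ_sum, Fintype.piFinset_univ]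
    refine Finset.sum_congr rfl fun f _ => ?_
    rw [prod_tmul, prod_tprod_perm]
    simp only [evalExp_slotCount]
    congr 1
    rw [MvPolynomial.monomial_sum_one]
    rfl
  rw [coeff_eq_of_toFun'_univ h1,
    ← Finset.sum_fiberwise_of_maps_to (g := slotCount d) (t := (Finset.univ : Finset (Fin d → ι)))
      (fun f _ => Finset.mem_univ _),
    ← Finset.sum_fiberwise_of_maps_to (g := fun p : Fin d → ι => pat p)
      (t := Finset.univ.image (fun p : Fin d → ι => pat p)) (fun p _ => Finset.mem_image_of_mem _ (Finset.mem_univ p))]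
  refine Finset.sum_congr rfl fun μ hμ => ?_
  obtain ⟨p₀, -, rfl⟩ := Finset.mem_image.mp hμ
  have hex : ∃ p : Fin d → ι, pat p = pat p₀ := ⟨p₀, rfl⟩
  simp only
  rw [dif_pos hex, orbit]
  refine Eq.trans ?_ (Finset.sum_nsmul _ _ _)
  refine Finset.sum_congr (by congr!) fun p hp => ?_
  simp only [Finset.mem_filter, Finset.mem_univ, true_and] at hp
  obtain ⟨σ, hσ⟩ := exists_perm_of_pat_eq (hp.trans hex.choose_spec.symm)
  rw [← hσ, ← hcnt hex.choose σ, hσ]
  refine (Finset.sum_congr rfl fun f hf => ?_).trans (Finset.sum_const _)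
  rw [(Finset.mem_filter.mp hf).2]
  rfl

lemma exists_tprod_presentation {S : Type u} [CommSemiring S] [Algebra A S]
    (x : S ⊗[A] (⨂[A] _ : Fin d, B)) :
    ∃ (n : ℕ) (s : Fin n → S) (m : Fin n → Fin d → B),
      x = ∑ k, s k ⊗ₜ[A] PiTensorProduct.tprod A (m k) := by
  induction x using TensorProduct.induction_on with
  | zero => exact ⟨0, Fin.elim0, Fin.elim0, by simp⟩
  | tmul s t =>
    induction t using PiTensorProduct.induction_on with
    | smul_tprod r f =>
      exact ⟨1, fun _ => r • s, fun _ => f, by simp [TensorProduct.smul_tmul]⟩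
    | add x y hx hy =>
      obtain ⟨n, a, m, hx⟩ := hx
      obtain ⟨n', a', m', hy⟩ := hy
      refine ⟨n + n', Fin.append a a', Fin.append m m', ?_⟩
      rw [Fin.sum_univ_add, TensorProduct.tmul_add, hx, hy]
      simp
  | add x y hx hy =>
    obtain ⟨n, a, m, rfl⟩ := hx
    obtain ⟨n', a', m', rfl⟩ := hy
    refine ⟨n + n', Fin.append a a', Fin.append m m', ?_⟩
    rw [Fin.sum_univ_add]
    simp

end GrothLib.PolLaw
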