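import Groth.Agent.Lib.PolLaw.Mult
import Groth.Agent.Lib.PolLaw.Sym
import Groth.Prelude.Def_W4c5normfunctorschNorm
import Mathlib.LinearAlgebra.Matrix.Determinant.Basic
import Mathlib.RingTheory.Norm.Basic

/-!
# Coefficients of the norm law and the action of `Γ^d` on the top exterior power
-/

universe u

open TensorProduct

namespace GrothLib.PolLaw

open MvPolynomial (X C monomial)

variable {R : Type u} [CommRing R] {R' : Type u} [CommRing R'] [Algebra R R'] {d : ℕ}

/-- The norm law's coefficients through matrices of multiplication. -/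
lemma coeff_normLaw_eq_det [Module.Free R R'] [Module.Finite R R'] (hd : Module.finrank R R' = d)
    {I : Type*} [Fintype I] [DecidableEq I] (b : Module.Basis I R R') {ι : Type} [Fintype ι] (m : ι → R')
    (μ : ι →₀ ℕ) :
    coeff (_root_.PolLaw.normLaw R R' d hd).law m μ =
      MvPolynomial.coeff μ (∑ i, (X i : MvPolynomial ι R) • (Algebra.leftMulMatrix b (m i)).map C).det := by
  classical
  let bS := Algebra.TensorProduct.basis (MvPolynomial ι R) b
  let M : Matrix I I (MvPolynomial ι R) := Algebra.leftMulMatrix bS (univ R m)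
  have hM : M = ∑ i, (X i : MvPolynomial ι R) • (Algebra.leftMulMatrix b (m i)).map C := by
    refine Matrix.ext fun j k => ?_
    simp only [M, bS, univ, Algebra.leftMulMatrix_eq_repr_mul, map_sum, Algebra.TensorProduct.basis_apply,
      Finset.sum_mul, Algebra.TensorProduct.tmul_mul_tmul, mul_one, Finsupp.finsetSum_apply,
      Algebra.TensorProduct.basis_repr_tmul, Matrix.sum_apply, Matrix.smul_apply, Matrix.map_apply]
    refine Finset.sum_congr rfl fun i _ => ?_
    simp [MvPolynomial.algebraMap_eq]
  have hc : coeff (_root_.PolLaw.normLaw R R' d hd).law m μ = MvPolynomial.coeff μ M.det := by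
    rw [coeff, _root_.PolLaw.normLaw_apply, Algebra.norm_eq_matrix_det bS, coeffEquiv_tmul, smul_eq_mul,
      mul_one]
  rw [hc, hM]

/-- Coefficients of the norm law times a determinant. -/
lemma coeff_normLaw_mul_det [Module.Free R R'] [Module.Finite R R'] (hd : Module.finrank R R' = d)
    (b : Module.Basis (Fin d) R R') {ι : Type} [Fintype ι] (m : ι → R') (μ : ι →₀ ℕ) (x : Fin d → R')
    [DecidableEq (ι →₀ ℕ)] :
    coeff (_root_.PolLaw.normLaw R R' d hd).law m μ * b.det x =
      ∑ q : Fin d → ι with pat q = μ, b.det (fun l => m (q l) * x l) := by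
  classical
  let M : Matrix (Fin d) (Fin d) (MvPolynomial ι R) :=
    ∑ i, (X i : MvPolynomial ι R) • (Algebra.leftMulMatrix b (m i)).map C
  have hM : M = ∑ i, (X i : MvPolynomial ι R) • (Algebra.leftMulMatrix b (m i)).map C := rfl
  have hc : coeff (_root_.PolLaw.normLaw R R' d hd).law m μ = MvPolynomial.coeff μ M.det :=
    coeff_normLaw_eq_det hd b m μ
  rw [hc, Module.Basis.det_apply]
  have hdet : M.det * C (b.toMatrix x).det =
      ∑ q : Fin d → ι, monomial (pat q) (1 : R) * C (b.det fun l => m (q l) * x l) := by
    rw [RingHom.map_det, ← Matrix.det_mul, ← Matrix.det_transpose]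
    have hrow : (M * (C : R →+* MvPolynomial ι R).mapMatrix (b.toMatrix x)).transpose =
        fun l => ∑ i, (X i : MvPolynomial ι R) • (fun j => C (b.repr (m i * x l) j)) := by
      funext l j
      rw [Matrix.transpose_apply, Matrix.mul_apply, hM]
      simp only [Matrix.sum_apply, Matrix.smul_apply, Matrix.map_apply, RingHom.mapMatrix_apply,
        Finset.sum_apply, Pi.smul_apply, smul_eq_mul, Finset.sum_mul]
      rw [Finset.sum_comm]
      refine Finset.sum_congr rfl fun i _ => ?_
      rw [← Algebra.leftMulMatrix_mulVec_repr b (m i) (x l)]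
      simp [Matrix.mulVec, dotProduct, Finset.mul_sum, mul_assoc, Module.Basis.toMatrix_apply]
    rw [hrow]
    show Matrix.detRowAlternating (fun l => ∑ i, _) = _
    rw [← AlternatingMap.coe_multilinearMap, MultilinearMap.map_sum]
    refine Finset.sum_congr rfl fun q _ => ?_
    rw [MultilinearMap.map_smul_univ, smul_eq_mul, monomial_pat, Module.Basis.det_apply, RingHom.map_det,
      ← Matrix.det_transpose (C.mapMatrix _)]
    rfl
  have h := congrArg (MvPolynomial.coeff μ) hdet
  rw [mul_comm, MvPolynomial.coeff_C_mul, MvPolynomial.coeff_sum] at h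
  rw [mul_comm, h, Finset.sum_filter]
  refine Finset.sum_congr rfl fun q _ => ?_
  rw [mul_comm (monomial (pat q) (1 : R)), MvPolynomial.coeff_C_mul, MvPolynomial.coeff_monomial]
  split_ifs <;> simp

/-- `Γ^d` acts on the top exterior power through the norm. -/
theorem tpowAct_sub_norm_mem_altSpan [Module.Free R R'] [Module.Finite R R'] (hd : Module.finrank R R' = d)
    {C' : Type u} [CommRing C'] [Algebra R C'] (γ : _root_.PolLaw.MulLaw R R' C' d) (hγ : _root_.PolLaw.IsGammaD γ)
    (φ : C' →ₐ[R] (⨂[R] _ : Fin d, R')) (hφ : _root_.PolLaw.MulLaw.postcomp φ γ = SymTen.tpowLaw R R' d)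
    (π : C' →ₐ[R] R) (hπ : _root_.PolLaw.MulLaw.postcomp π γ = _root_.PolLaw.normLaw R R' d hd)
    (c : C') (x : ⨂[R] _ : Fin d, R') :
    SymTen.tpowAct R R' R' d (φ c) x - π c • x ∈ SymTen.altSpan R R' d := by
  classical
  rcases subsingleton_or_nontrivial R with hR | hR
  · have : Subsingleton (⨂[R] _ : Fin d, R') := Module.subsingleton R _
    rw [Subsingleton.elim (SymTen.tpowAct R R' R' d (φ c) x - π c • x) 0]
    exact zero_mem _
  let b := Module.finBasisOfFinrankEq R R' hd
  let V := (⨂[R] _ : Fin d, R') ⧸ SymTen.altSpan R R' d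
  let mk : (⨂[R] _ : Fin d, R') →ₗ[R] V := (SymTen.altSpan R R' d).mkQ
  let alt : R' [⋀^Fin d]→ₗ[R] V :=
    { mk.compMultilinearMap (PiTensorProduct.tprod R) with
      map_eq_zero_of_eq' := fun p i j h hne =>
        (Submodule.Quotient.mk_eq_zero _).mpr (Submodule.subset_span ⟨p, i, j, hne, h, rfl⟩) }
  have hc : c ∈ coeffSpan γ.law := coeffSpan_eq_top hγ ▸ Submodule.mem_top
  induction hc using Submodule.span_induction with
  | mem c hc =>
    obtain ⟨n, m, μ, rfl⟩ := hc
    induction x using PiTensorProduct.induction_on with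
    | smul_tprod r f =>
      rw [map_smul, smul_comm, ← smul_sub]
      refine Submodule.smul_mem _ _ ((Submodule.Quotient.mk_eq_zero _).mp ?_)
      have e1 : φ (coeff γ.law m μ) = orbit R m μ := by
        rw [← coeff_tpowLaw, ← hφ]
        exact (coeff_postcomp φ.toLinearMap γ.law m μ).symm
      have e2 : π (coeff γ.law m μ) = coeff (_root_.PolLaw.normLaw R R' d hd).law m μ := by
        rw [← hπ]
        exact (coeff_postcomp π.toLinearMap γ.law m μ).symm
      show mk (SymTen.tpowAct R R' R' d (φ (coeff γ.law m μ)) (PiTensorProduct.tprod R f) -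
        π (coeff γ.law m μ) • PiTensorProduct.tprod R f) = 0
      rw [e1, e2, map_sub, map_smul, orbit, map_sum, LinearMap.sum_apply, map_sum, sub_eq_zero]
      have e3 : ∀ q : Fin d → Fin n, mk (SymTen.tpowAct R R' R' d (PiTensorProduct.tprod R (m ∘ q))
          (PiTensorProduct.tprod R f)) = alt (fun l => m (q l) * f l) := by
        intro q
        simp [SymTen.tpowAct, alt]
      have e4 : mk (PiTensorProduct.tprod R f) = alt f := rfl
      simp only [e3, e4]
      have halt : ∀ v, alt v = b.det v • alt b := by
        intro v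
        have : alt = b.det.smulRight (alt b) := by
          refine Module.Basis.ext_alternating b fun w hw => ?_
          obtain ⟨σ, rfl⟩ : ∃ σ : Equiv.Perm (Fin d), (σ : Fin d → Fin d) = w :=
            ⟨Equiv.ofBijective w ⟨hw, Finite.injective_iff_surjective.mp hw⟩, rfl⟩
          simp only [AlternatingMap.smulRight_apply]
          rw [show (fun i => b (σ i)) = b ∘ σ from rfl, AlternatingMap.map_perm, AlternatingMap.map_perm,
            Module.Basis.det_self]
          simp
        exact (congrArg (fun g : R' [⋀^Fin d]→ₗ[R] V => g v) this).trans (AlternatingMap.smulRight_apply ..)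
      rw [halt f, Finset.sum_congr rfl fun q _ => halt _]
      rw [smul_smul, coeff_normLaw_mul_det hd b m μ f, Finset.sum_smul]
      exact Finset.sum_congr (by congr!) fun q _ => rfl
    | add y z hy hz =>
      rw [map_add, smul_add, add_sub_add_comm]
      exact add_mem hy hz
  | zero => simp
  | add a e _ _ ha he =>
    rw [map_add, map_add, map_add, LinearMap.add_apply, add_smul, add_sub_add_comm]
    exact add_mem ha he
  | smul r a _ ha =>
    rw [map_smul, map_smul, map_smul, LinearMap.smul_apply, smul_assoc, ← smul_sub]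
    exact Submodule.smul_mem _ _ ha

end GrothLib.PolLaw
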