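import Groth.Agent.Lib.PolLaw.GammaNorm
import Mathlib.RingTheory.Ideal.GoingUp
import Mathlib.FieldTheory.IntermediateField.Basic
import Mathlib.LinearAlgebra.Basis.VectorSpace
import Mathlib.RingTheory.Localization.FractionRing
import Mathlib.RingTheory.Polynomial.Basic

/-!
# Residue fields of `TS^d B` are generated by `Γ^d B`
-/

universe u

open TensorProduct

namespace GrothLib.PolLaw

variable {A B : Type u} [CommRing A] [CommRing B] [Algebra A B] {d : ℕ}

/-- The tensor power is integral over the symmetric tensors. -/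
lemma isIntegral_TS : Algebra.IsIntegral (SymTen.TS A B d) (⨂[A] _ : Fin d, B) := by
  classical
  refine ⟨fun t => ?_⟩
  rcases subsingleton_or_nontrivial (⨂[A] _ : Fin d, B) with hT | hT
  · rw [Subsingleton.elim t 0]
    exact isIntegral_zero
  let P : Polynomial (⨂[A] _ : Fin d, B) :=
    ∏ σ : Equiv.Perm (Fin d), (Polynomial.X - Polynomial.C (SymTen.perm A B d σ t))
  have hfix : ∀ τ, P.map (SymTen.perm A B d τ).toRingHom = P := by
    intro τ
    simp only [P, Polynomial.map_prod]
    refine Fintype.prod_equiv (Equiv.mulLeft τ) _ _ fun σ => ?_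
    simp [perm_perm]
  have hlift : P ∈ Polynomial.lifts (algebraMap (SymTen.TS A B d) (⨂[A] _ : Fin d, B)) := by
    refine (Polynomial.lifts_iff_coeff_lifts _).mpr fun n => ⟨⟨P.coeff n, fun τ => ?_⟩, rfl⟩
    rw [← SymTen.perm_apply]
    conv_rhs => rw [← hfix τ, Polynomial.coeff_map]
    rfl
  obtain ⟨q, hq, -, hmon⟩ := Polynomial.lifts_and_degree_eq_and_monic hlift
    (Polynomial.monic_prod_of_monic _ _ fun σ _ => Polynomial.monic_X_sub_C _)
  refine ⟨q, hmon, ?_⟩
  rw [← Polynomial.eval_map, hq, Polynomial.eval_prod]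
  refine Finset.prod_eq_zero (Finset.mem_univ (1 : Equiv.Perm (Fin d))) ?_
  have : ∀ s, SymTen.perm A B d 1 s = s := fun s => by
    induction s using PiTensorProduct.induction_on with
    | smul_tprod r f => simp; rfl
    | add x y hx hy => simp [hx, hy]
  simp [this]

section field

variable {L : Type u} [Field L] [Algebra A L]

/-- Values of symmetric tensors at a field valued point lie in the field generated by orbit sums. -/
lemma eval_mem_subfield (K : Subfield L) (hK : ∀ a, algebraMap A L a ∈ K)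
    (e : (⨂[A] _ : Fin d, B) →ₐ[A] L) (F : Subfield L) (hKF : K ≤ F)
    (horb : ∀ (n : ℕ) (m : Fin n → B) (μ : Fin n →₀ ℕ), e (orbit A m μ) ∈ F)
    {y : ⨂[A] _ : Fin d, B} (hy : y ∈ symTensor A B d) : e y ∈ F := by
  classical
  let : Algebra A K := ((algebraMap A L).codRestrict K hK).toAlgebra
  have : IsScalarTower A K L := IsScalarTower.of_algebraMap_eq fun a => rfl
  let x : B →ₗ[A] (Fin d → L) :=
    LinearMap.pi fun j => (e.comp (PiTensorProduct.singleAlgHom (A := fun _ : Fin d => B) j)).toLinearMap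
  let W := Submodule.span K (Set.range x)
  let x' : B →ₗ[A] W := LinearMap.codRestrict (W.restrictScalars A) x fun b => Submodule.subset_span ⟨b, rfl⟩
  let ψ : (⨂[A] _ : Fin d, B) →ₗ[A] (⨂[K] _ : Fin d, W) :=
    PiTensorProduct.lift (((PiTensorProduct.tprod K).restrictScalars A).compLinearMap fun _ => x')
  let Ψ : (⨂[K] _ : Fin d, W) →ₗ[K] L :=
    PiTensorProduct.lift ((MultilinearMap.mkPiAlgebra K (Fin d) L).compLinearMap fun j =>
      LinearMap.proj j ∘ₗ W.subtype)
  have hΨψ : ∀ t, Ψ (ψ t) = e t := by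
    intro t
    induction t using PiTensorProduct.induction_on with
    | smul_tprod r f =>
      rw [map_smul, LinearMap.map_smul_of_tower, map_smul]
      congr 1
      conv_rhs => rw [← prod_singleAlgHom f, map_prod]
      simp [ψ, Ψ, x', x]
      exact Finset.prod_congr rfl fun i _ => rfl
    | add a b ha hb => rw [map_add, map_add, ha, hb, map_add]
  have horb' : ∀ {n : ℕ} (m : Fin n → B) (μ : Fin n →₀ ℕ),
      ψ (orbit A m μ) = orbit K (fun i => x' (m i)) μ := by
    intro n m μ
    simp only [orbit, map_sum]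
    refine Finset.sum_congr (by congr!) fun p _ => ?_
    simp [ψ, Function.comp_def]
  have hsym : ψ y ∈ symTensor K W d := by
    rw [mem_symTensor] at hy ⊢
    intro σ
    conv_rhs => rw [← hy σ]
    clear hy
    induction y using PiTensorProduct.induction_on with
    | smul_tprod r f =>
      simp [ψ, PiTensorProduct.reindex_tprod]
      rw [← algebraMap_smul K r (PiTensorProduct.tprod K fun i => x' (f i)), map_smul,
        algebraMap_smul, PiTensorProduct.reindex_tprod]
    | add a b ha hb => simp [ha, hb]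
  have hspan : ⊤ ≤ Submodule.span K (Set.range x') := by
    rw [← Submodule.map_le_map_iff_of_injective W.injective_subtype, Submodule.map_subtype_top,
      Submodule.map_span, ← Set.range_comp]
    exact le_refl _
  let bW := Module.Basis.ofSpan hspan
  have hg : ∀ i, ∃ b, x' b = bW i := fun i => Module.Basis.ofSpan_subset hspan ⟨i, rfl⟩
  choose g hg using hg
  rw [← hΨψ]
  have h := mem_span_orbit_basis bW hsym
  generalize ψ y = s at h ⊢
  induction h using Submodule.span_induction with
  | mem t ht =>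
    obtain ⟨n, i, μ, rfl⟩ := ht
    rw [show bW ∘ i = fun k => x' (g (i k)) from funext fun k => (hg (i k)).symm, ← horb', hΨψ]
    exact horb _ _ _
  | zero => rw [map_zero]; exact zero_mem F
  | add a b _ _ ha hb => rw [map_add]; exact add_mem ha hb
  | smul r a _ ha => rw [map_smul, Algebra.smul_def]; exact mul_mem (hKF r.2) ha

end field

/-- Modulo a prime, a symmetric tensor is a fraction of images from `Γ^d`. -/
lemma exists_residue {C : Type u} [CommRing C] [Algebra A C] (φ : C →ₐ[A] SymTen.TS A B d)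
    (horb : ∀ (n : ℕ) (m : Fin n → B) (μ : Fin n →₀ ℕ), ∃ c, (φ c : ⨂[A] _ : Fin d, B) = orbit A m μ)
    (q : Ideal (SymTen.TS A B d)) [q.IsPrime] (y : SymTen.TS A B d) :
    ∃ c c', φ c' ∉ q ∧ φ c' * y - φ c ∈ q := by
  classical
  have := isIntegral_TS (A := A) (B := B) (d := d)
  obtain ⟨Q, -, hQp, hQ⟩ := Ideal.exists_ideal_over_prime_of_isIntegral
    (S := ⨂[A] _ : Fin d, B) q ⊥ (fun t ht => by
      rw [show t = 0 from Subtype.ext (by simpa using ht)]
      exact zero_mem q)
  let L := FractionRing ((⨂[A] _ : Fin d, B) ⧸ Q)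
  let e : (⨂[A] _ : Fin d, B) →ₐ[A] L := IsScalarTower.toAlgHom A _ L
  have he : ∀ t : SymTen.TS A B d, e t = 0 ↔ t ∈ q := by
    intro t
    rw [← hQ]
    show algebraMap _ L ((Ideal.Quotient.mk Q) (t : ⨂[A] _ : Fin d, B)) = 0 ↔ _
    rw [map_eq_zero_iff _ (IsFractionRing.injective ((⨂[A] _ : Fin d, B) ⧸ Q) L),
      Ideal.Quotient.eq_zero_iff_mem]
    rfl
  let f : C →+* L := e.toRingHom.comp ((SymTen.TS A B d).val.comp φ).toRingHom
  have hA : ∀ a, algebraMap A L a ∈ f.range := fun a => ⟨algebraMap A C a, by simp [f]⟩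
  have hy := eval_mem_subfield (Subfield.closure (Set.range (algebraMap A L)))
    (fun a => Subfield.subset_closure ⟨a, rfl⟩) e (Subfield.closure (f.range : Set L))
    (Subfield.closure_le.mpr fun l ⟨a, ha⟩ => ha ▸ Subfield.subset_closure (hA a))
    (fun n m μ => by
      obtain ⟨c, hc⟩ := horb n m μ
      exact Subfield.subset_closure ⟨c, by simp [f, hc]⟩) (mem_symTensor.mpr y.2)
  obtain ⟨a, ha, b, hb, hab⟩ := Subfield.mem_closure_iff.mp hy
  rw [Subring.closure_eq] at ha hb
  obtain ⟨c, rfl⟩ := ha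
  obtain ⟨c', rfl⟩ := hb
  by_cases hb0 : f c' = 0
  · refine ⟨0, 1, by rw [map_one]; exact q.one_notMem, ?_⟩
    rw [map_one, one_mul, map_zero, sub_zero, ← he, ← hab, hb0, div_zero]
  · refine ⟨c, c', fun h => hb0 ((he _).mpr h), (he _).mp ?_⟩
    show e (((φ c' : SymTen.TS A B d) : ⨂[A] _ : Fin d, B) * (y : ⨂[A] _ : Fin d, B) - (φ c : SymTen.TS A B d)) = 0
    rw [map_sub, map_mul, ← hab]
    show f c' * (f c / f c') - f c = 0
    rw [mul_div_cancel₀ _ hb0, sub_self]

end GrothLib.PolLaw
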