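import Groth.Agent.Lib.PolLaw.CharPoly
import Groth.Agent.Lib.PolLaw.Residue
import Groth.Agent.Lib.PolLaw.ExtendPoint

/-!
# The points of a law with values in an algebraically closed field
-/

universe u

open TensorProduct
open Algebra.TensorProduct (includeLeft includeRight productMap)

namespace GrothLib.PolLaw

variable {A : Type u} [CommRing A] {B : Type u} [CommRing B] [Algebra A B] {d : ℕ}

lemma productMap_map {S R L W : Type u} [CommSemiring S] [Algebra A S] [CommSemiring R] [Algebra A R]
    [CommSemiring L] [Algebra A L] [CommSemiring W] [Algebra A W] (g : S →ₐ[A] R) (ι : L →ₐ[A] R)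
    (f : W →ₐ[A] L) (y : S ⊗[A] W) :
    productMap g ι (Algebra.TensorProduct.map (AlgHom.id A S) f y) = productMap g (ι.comp f) y := by
  induction y using TensorProduct.induction_on with
  | zero => simp
  | tmul s b => simp
  | add p q hp hq => simp only [map_add, hp, hq]

/-- Over `L` the law is the product of the points `x j`. -/
def HasPoints (F : _root_.PolLaw.MulLaw A B A d) (L : Type u) [CommRing L] [Algebra A L]
    (x : Fin d → (B →ₐ[A] L)) : Prop :=
  ∀ (S : Type u) [CommSemiring S] [Algebra A S] (y : S ⊗[A] B),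
    valS F S y ⊗ₜ[A] (1 : L) = ∏ j, Algebra.TensorProduct.map (AlgHom.id A S) (x j) y

section

variable {F : _root_.PolLaw.MulLaw A B A d} {L : Type u} [CommRing L] [Algebra A L] {x : Fin d → (B →ₐ[A] L)}

lemma HasPoints.apply (hx : HasPoints F L x) {S R : Type u} [CommSemiring S] [Algebra A S] [CommSemiring R]
    [Algebra A R] (g : S →ₐ[A] R) (ι : L →ₐ[A] R) (y : S ⊗[A] B) :
    g (valS F S y) = ∏ j, productMap g (ι.comp (x j)) y := by
  have h := congrArg (productMap g ι) (hx S y)
  rw [Algebra.TensorProduct.productMap_apply_tmul, map_one, mul_one, map_prod] at h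
  rw [h]
  exact Finset.prod_congr rfl fun j _ => productMap_map g ι (x j) y

/-- The characteristic polynomial splits with roots the values at the points. -/
lemma HasPoints.charPoly_map (hx : HasPoints F L x) {A' R : Type u} [CommRing A'] [Algebra A A']
    [CommRing R] [Algebra A R] (ρ : A' →ₐ[A] R) (ι : L →ₐ[A] R) (b' : A' ⊗[A] B) :
    (charPoly F A' b').map ρ.toRingHom =
      ∏ j, (Polynomial.X - Polynomial.C (productMap ρ (ι.comp (x j)) b')) := by
  show Polynomial.mapAlgHom ρ (charPoly F A' b') = _
  rw [charPoly, hx.apply (Polynomial.mapAlgHom ρ) ((IsScalarTower.toAlgHom A R (Polynomial R)).comp ι)]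
  refine Finset.prod_congr rfl fun j _ => ?_
  rw [map_sub]
  congr 1
  · simp [Polynomial.mapAlgHom]
  · induction b' using TensorProduct.induction_on with
    | zero => simp
    | tmul a b => simp [Polynomial.mapAlgHom, ← map_mul]
    | add p q hp hq => simp [hp, hq]

lemma HasPoints.charPoly_one_tmul (hx : HasPoints F L x) (b : B) :
    (charPoly F A (1 ⊗ₜ[A] b)).map (algebraMap A L) = ∏ j, (Polynomial.X - Polynomial.C (x j b)) := by
  have h := hx.charPoly_map (Algebra.ofId A L) (AlgHom.id A L) ((1 : A) ⊗ₜ[A] b)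
  simpa using h

end

variable (F : _root_.PolLaw.MulLaw A B A d) (L : Type u) [Field L] [Algebra A L]

/-- Over an algebraically closed field a law has `d` points. -/
theorem exists_points [IsAlgClosed L] : ∃ x : Fin d → (B →ₐ[A] L), HasPoints F L x := by
  classical
  let π : MvPolynomial B A →ₐ[A] B := MvPolynomial.aeval id
  have hπ : Function.Surjective π := fun b => ⟨MvPolynomial.X b, MvPolynomial.aeval_X _ b⟩
  obtain ⟨f, hf, -⟩ := isGammaD_symLaw_of_flat (A := A) (B := MvPolynomial B A) (d := d) A
    (_root_.PolLaw.MulLaw.precomp F π)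
  have := isIntegral_TS (A := A) (B := MvPolynomial B A) (d := d)
  obtain ⟨e₀, he₀⟩ := exists_extend_point (R := SymTen.TS A (MvPolynomial B A) d)
    (T := ⨂[A] _ : Fin d, MvPolynomial B A) Subtype.val_injective ((algebraMap A L).comp f.toRingHom)
  have he : ∀ t : SymTen.TS A (MvPolynomial B A) d,
      e₀ (t : ⨂[A] _ : Fin d, MvPolynomial B A) = algebraMap A L (f t) := fun t => RingHom.congr_fun he₀ t
  have hcomm : ∀ a : A, e₀ (algebraMap A (⨂[A] _ : Fin d, MvPolynomial B A) a) = algebraMap A L a :=
    fun a => (he (algebraMap A _ a)).trans (congrArg (algebraMap A L) (f.commutes a))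
  let e : (⨂[A] _ : Fin d, MvPolynomial B A) →ₐ[A] L := { e₀ with commutes' := hcomm }
  let x' : Fin d → (MvPolynomial B A →ₐ[A] L) := fun j =>
    e.comp (PiTensorProduct.singleAlgHom (A := fun _ : Fin d => MvPolynomial B A) j)
  have hx' : HasPoints (_root_.PolLaw.MulLaw.precomp F π) L x' := by
    intro S _ _ y
    have h1 : valS (_root_.PolLaw.MulLaw.precomp F π) S y ⊗ₜ[A] (1 : L) =
        productMap (includeLeft : S →ₐ[A] S ⊗[A] L)
          (((includeRight : L →ₐ[A] S ⊗[A] L).comp e).comp (SymTen.TS A (MvPolynomial B A) d).val)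
          ((symLaw A (MvPolynomial B A) d).law.toFun' S y) := by
      rw [valS_symm_rule hf]
      generalize (symLaw A (MvPolynomial B A) d).law.toFun' S y = z
      induction z using TensorProduct.induction_on with
      | zero => simp
      | tmul s t =>
        simp only [Algebra.TensorProduct.productMap_apply_tmul, AlgHom.id_apply, AlgHom.comp_apply]
        rw [show e ((SymTen.TS A (MvPolynomial B A) d).val t) = algebraMap A L (f t) from he t]
        simp [Algebra.ofId_apply, Algebra.algebraMap_eq_smul_one, TensorProduct.smul_tmul,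
          Algebra.TensorProduct.tmul_mul_tmul]
      | add p q hp hq => simp only [map_add, TensorProduct.add_tmul, hp, hq]
    rw [h1, tpow_symLaw]
    refine Finset.prod_congr rfl fun j _ => ?_
    clear h1
    induction y using TensorProduct.induction_on with
    | zero => simp
    | tmul s b => simp [x']
    | add p q hp hq => simp only [map_add, hp, hq]
  have hkill : ∀ j, RingHom.ker π ≤ RingHom.ker (x' j) := by
    intro j b hb
    rw [RingHom.mem_ker] at hb ⊢
    have h0 : charPoly (_root_.PolLaw.MulLaw.precomp F π) A (1 ⊗ₜ[A] b) = Polynomial.X ^ d := by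
      rw [charPoly_precomp, Algebra.TensorProduct.map_tmul, hb, TensorProduct.tmul_zero]
      exact charPoly_eq_X_pow_of_mem_kerBC F (zero_mem _)
    have h := hx'.charPoly_one_tmul b
    rw [h0, Polynomial.map_pow, Polynomial.map_X] at h
    have h2 := congrArg (Polynomial.eval (x' j b)) h
    rw [Polynomial.eval_pow, Polynomial.eval_X, Polynomial.eval_prod,
      Finset.prod_eq_zero (Finset.mem_univ j) (by simp)] at h2
    exact pow_eq_zero_iff (Nat.pos_iff_ne_zero.mp (Fin.pos j)) |>.mp h2
  let x : Fin d → (B →ₐ[A] L) := fun j =>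
    (Ideal.Quotient.liftₐ (RingHom.ker π) (x' j) fun b hb => hkill j hb).comp
      (Ideal.quotientKerAlgEquivOfSurjective hπ).symm.toAlgHom
  have hxπ : ∀ j b, x j (π b) = x' j b := by
    intro j b
    show Ideal.Quotient.liftₐ (RingHom.ker π) (x' j) (fun b hb => hkill j hb)
      ((Ideal.quotientKerAlgEquivOfSurjective hπ).symm (π b)) = _
    rw [show (Ideal.quotientKerAlgEquivOfSurjective hπ).symm (π b) = Ideal.Quotient.mk (RingHom.ker π) b from
      (AlgEquiv.symm_apply_eq _).mpr rfl]
    rfl
  refine ⟨x, fun S _ _ y => ?_⟩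
  obtain ⟨y, rfl⟩ := LinearMap.lTensor_surjective S (g := π.toLinearMap) hπ y
  rw [_root_.PolLaw.lTensor_algHom_apply]
  have h := hx' S y
  rw [valS_precomp] at h
  refine h.trans (Finset.prod_congr rfl fun j _ => ?_)
  clear h
  induction y using TensorProduct.induction_on with
  | zero => simp
  | tmul s b => simp [hxπ]
  | add p q hp hq => simp only [map_add, hp, hq]

variable {F L} {x : Fin d → (B →ₐ[A] L)}

/-- The points kill the kernel. -/
lemma HasPoints.apply_eq_zero (hx : HasPoints F L x) {b : B} (hb : b ∈ _root_.PolLaw.ker F.law) (j : Fin d) :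
    x j b = 0 := by
  have h := hx.charPoly_one_tmul b
  rw [charPoly_eq_X_pow_of_mem_kerBC F ((mem_ker_iff_one_tmul_mem_kerBC F b).mp hb), Polynomial.map_pow,
    Polynomial.map_X] at h
  have h2 := congrArg (Polynomial.eval (x j b)) h
  rw [Polynomial.eval_pow, Polynomial.eval_X, Polynomial.eval_prod,
    Finset.prod_eq_zero (Finset.mem_univ j) (by simp)] at h2
  exact pow_eq_zero_iff (Nat.pos_iff_ne_zero.mp (Fin.pos j)) |>.mp h2

/-- A point killing enough of the kernel is one of the points. -/
theorem HasPoints.exists_eq (hx : HasPoints F L x) (x₀ : B →ₐ[A] L)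
    (h₀ : ∀ b ∈ _root_.PolLaw.ker F.law, x₀ b = 0) : ∃ j, x₀ = x j := by
  classical
  by_contra hne
  push Not at hne
  have hb : ∀ j, ∃ b, x₀ b ≠ x j b := fun j => by
    by_contra h
    push Not at h
    exact hne j (AlgHom.ext h)
  choose b hb using hb
  let c : Polynomial A ⊗[A] B := ∑ i : Fin d, (Polynomial.X ^ (i : ℕ) : Polynomial A) ⊗ₜ[A] b i
  let ρ : Polynomial A →ₐ[A] Polynomial L := Polynomial.mapAlgHom (Algebra.ofId A L)
  let ι : L →ₐ[A] Polynomial L := IsScalarTower.toAlgHom A L (Polynomial L)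
  let Φ : (B →ₐ[A] L) → (Polynomial A ⊗[A] B →ₐ[A] Polynomial L) := fun y => productMap ρ (ι.comp y)
  have hΦ : ∀ z ∈ _root_.PolLaw.kerBC F.law (Polynomial A), Φ x₀ z = 0 := by
    intro z hz
    rw [kerBC_polynomial_eq] at hz
    refine (Ideal.map_le_iff_le_comap.mpr ?_ : _ ≤ RingHom.ker (Φ x₀)) hz
    intro w hw
    simp [Φ, h₀ w hw]
  have h1 := hΦ _ (aeval_charPoly_mem F (Polynomial A) c)
  have h2 : (charPoly F (Polynomial A) c).eval₂ ρ.toRingHom (Φ x₀ c) = 0 := by
    rw [← h1, Polynomial.aeval_def]
    show _ = (Φ x₀).toRingHom _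
    rw [Polynomial.hom_eval₂]
    congr 1
    refine RingHom.ext fun a => ?_
    show ρ a = Φ x₀ (a ⊗ₜ[A] 1)
    simp [Φ]
  rw [← Polynomial.eval_map, hx.charPoly_map ρ ι c, Polynomial.eval_prod, Finset.prod_eq_zero_iff] at h2
  obtain ⟨j, -, hj⟩ := h2
  rw [Polynomial.eval_sub, Polynomial.eval_X, Polynomial.eval_C, sub_eq_zero] at hj
  have e : ∀ y : B →ₐ[A] L, (Φ y c).coeff (j : ℕ) = y (b j) := by
    intro y
    simp only [Φ, c, map_sum, Algebra.TensorProduct.productMap_apply_tmul, Polynomial.finsetSum_coeff]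
    rw [Finset.sum_eq_single j]
    · simp [ρ, ι, Polynomial.mapAlgHom, Polynomial.algebraMap_def]
    · intro i _ hi
      simp [ρ, ι, Polynomial.mapAlgHom, Polynomial.algebraMap_def, Polynomial.coeff_X_pow,
        Fin.val_inj, Ne.symm hi]
    · simp
  exact hb j (by rw [← e x₀, ← e (x j)]; exact congrArg (fun p => Polynomial.coeff p (j : ℕ)) hj)

end GrothLib.PolLaw
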