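import Groth.Agent.Lib.PolLaw.Mult
import Mathlib.LinearAlgebra.PiTensorProduct.Basic
import Mathlib.Data.Fintype.Perm

/-!
# Exponent patterns, polarization of a homogeneous law

`pat p` is the exponent vector of `p : Fin d → ι`; `pol F b` is the coefficient of `F (∑ k, X k ⊗ b k)` at
`X 0 * ⋯ * X (d-1)`, a symmetric multilinear function of `b`.
-/

universe u

open TensorProduct

namespace GrothLib.PolLaw

open MvPolynomial (X C monomial)

variable {A : Type u} [CommRing A] {M N : Type u} [AddCommGroup M] [Module A M]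
  [AddCommGroup N] [Module A N] {ι κ : Type} [Fintype ι] [Fintype κ] {d : ℕ}

/-- The exponent vector of a list of indices. -/
noncomputable def pat {ι : Type*} (p : Fin d → ι) : ι →₀ ℕ := ∑ l, Finsupp.single (p l) 1

lemma pat_apply {ι : Type*} [DecidableEq ι] (p : Fin d → ι) (i : ι) :
    pat p i = (Finset.univ.filter fun l => p l = i).card := by
  rw [pat, Finsupp.finsetSum_apply, Finset.card_filter]
  exact Finset.sum_congr rfl fun l _ => by rw [Finsupp.single_apply]

lemma sum_pat (p : Fin d → ι) : ∑ i, pat p i = d := by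
  classical
  simp only [pat_apply]
  exact (Finset.card_eq_sum_card_fiberwise (s := (Finset.univ : Finset (Fin d))) (f := p)
    fun _ _ => Finset.mem_univ _).symm.trans (Fintype.card_fin d)

lemma pat_comp_perm {ι : Type*} (p : Fin d → ι) (σ : Equiv.Perm (Fin d)) : pat (p ∘ σ) = pat p :=
  Equiv.sum_comp σ fun l => Finsupp.single (p l) 1

omit [Fintype ι] in
lemma monomial_pat (p : Fin d → ι) :
    monomial (pat p) (1 : A) = ∏ l, (X (p l) : MvPolynomial ι A) := by
  simp [pat, MvPolynomial.monomial_sum_one, MvPolynomial.X]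

lemma prod_pow_pat {S : Type*} [CommMonoid S] (s : ι → S) (p : Fin d → ι) :
    ∏ i, s i ^ pat p i = ∏ l, s (p l) := by
  classical
  rw [← Finset.prod_fiberwise Finset.univ p fun l => s (p l)]
  refine Finset.prod_congr rfl fun i _ => ?_
  rw [pat_apply, ← Finset.prod_const]
  exact Finset.prod_congr rfl fun l hl => by rw [(Finset.mem_filter.mp hl).2]

lemma exists_pat_eq : ∀ (e : ℕ) {μ : ι →₀ ℕ}, ∑ i, μ i = e → ∃ p : Fin e → ι, pat p = μ
  | 0, μ, h => ⟨Fin.elim0, by
      ext i
      simp [pat, Finset.sum_eq_zero_iff.mp h i (Finset.mem_univ i)]⟩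
  | e + 1, μ, h => by
      classical
      obtain ⟨i, -, hi⟩ : ∃ i ∈ Finset.univ, μ i ≠ 0 :=
        Finset.exists_ne_zero_of_sum_ne_zero (by omega)
      have hle : Finsupp.single i 1 ≤ μ := by
        simpa [Finsupp.single_le_iff, Nat.one_le_iff_ne_zero] using hi
      obtain ⟨p, hp⟩ := exists_pat_eq e (μ := μ - Finsupp.single i 1) (by
        have : ∑ j, (μ - Finsupp.single i 1 : ι →₀ ℕ) j + ∑ j, (Finsupp.single i 1 : ι →₀ ℕ) j = ∑ j, μ j := by
          rw [← Finset.sum_add_distrib]
          exact Finset.sum_congr rfl fun j _ => Nat.sub_add_cancel (hle j)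
        have h1 : ∑ j, (Finsupp.single i 1 : ι →₀ ℕ) j = 1 := by simp [Finsupp.single_apply]
        omega)
      refine ⟨Fin.cons i p, ?_⟩
      unfold pat at hp ⊢
      rw [Fin.sum_univ_succ]
      simp [hp, add_tsub_cancel_of_le hle]

omit [Fintype ι] in
lemma pat_eq_pat_id_iff (g : Fin d → Fin d) : pat g = pat (id : Fin d → Fin d) ↔ Function.Bijective g := by
  classical
  constructor
  · intro h
    refine Finite.surjective_iff_bijective.mp fun i => ?_
    have hi := congrArg (· i) h
    simp only [pat_apply, id] at hi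
    simp only [Finset.filter_eq', Finset.mem_univ, ↓reduceIte, Finset.card_singleton] at hi
    obtain ⟨l, hl⟩ := Finset.card_pos.mp (by omega : 0 < (Finset.univ.filter fun l => g l = i).card)
    exact ⟨l, (Finset.mem_filter.mp hl).2⟩
  · intro h
    simpa using! pat_comp_perm (id : Fin d → Fin d) (Equiv.ofBijective g h)

/-- Coefficient of a product of linear forms. -/
lemma coeff_prod_linearForm [DecidableEq (κ →₀ ℕ)] (a : κ → Fin d → A) (ν : κ →₀ ℕ) :
    MvPolynomial.coeff ν (∏ l, ∑ k, C (a k l) * X k) =
      ∑ g : Fin d → κ with pat g = ν, ∏ l, a (g l) l := by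
  classical
  rw [Finset.prod_univ_sum, Fintype.piFinset_univ, MvPolynomial.coeff_sum, Finset.sum_filter]
  refine Finset.sum_congr rfl fun g _ => ?_
  rw [Finset.prod_mul_distrib, ← map_prod, ← monomial_pat, MvPolynomial.C_mul_monomial,
    MvPolynomial.coeff_monomial, mul_one]
  split_ifs <;> rfl

lemma sum_bijective_eq_sum_perm {β : Type*} [AddCommMonoid β] (f : (Fin d → Fin d) → β) :
    ∑ g : Fin d → Fin d with pat g = pat (id : Fin d → Fin d), f g = ∑ σ : Equiv.Perm (Fin d), f σ := by
  classical
  symm
  refine Finset.sum_bij (fun σ _ => (σ : Fin d → Fin d)) ?_ ?_ ?_ fun _ _ => rfl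
  · exact fun σ _ => Finset.mem_filter.mpr ⟨Finset.mem_univ _, (pat_eq_pat_id_iff _).mpr σ.bijective⟩
  · exact fun σ _ τ _ h => Equiv.ext fun x => congrFun h x
  · exact fun g hg => ⟨Equiv.ofBijective g ((pat_eq_pat_id_iff g).mp (Finset.mem_filter.mp hg).2),
      Finset.mem_univ _, rfl⟩

/-- Polarization. -/
noncomputable def pol (F : M →ₚₗ[A] N) (b : Fin d → M) : N := coeff F b (pat (id : Fin d → Fin d))

variable (ι d) in
/-- A chosen list of indices for each exponent vector of degree `d`. -/
noncomputable def rep (h : Nonempty (Fin d → ι)) (μ : ι →₀ ℕ) : Fin d → ι :=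
  open Classical in if hμ : ∃ p : Fin d → ι, pat p = μ then hμ.choose else h.some

lemma pat_rep (h : Nonempty (Fin d → ι)) {μ : ι →₀ ℕ} (hμ : ∑ i, μ i = d) :
    pat (rep ι d h μ) = μ := by
  classical
  have e := exists_pat_eq d hμ
  simp only [rep, dif_pos e, e.choose_spec]

/-- The polarization at linear combinations: a permanent. -/
lemma pol_linComb {F : M →ₚₗ[A] N} (hF : _root_.PolLaw.IsHomog F d) (m : ι → M) (a : Fin d → ι → A)
    (h : Nonempty (Fin d → ι)) :
    pol F (fun k => ∑ i, a k i • m i) = (coeff F m).sum fun μ c =>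
      (∑ σ : Equiv.Perm (Fin d), ∏ l, a (σ l) (rep ι d h μ l)) • c := by
  classical
  rw [pol, coeff_linComb]
  refine Finsupp.sum_congr fun μ hμ => ?_
  have hdeg : ∑ i, μ i = d := by
    by_contra hne
    exact Finsupp.mem_support_iff.mp hμ (coeff_eq_zero hF m hne)
  congr 1
  conv_lhs => rw [← pat_rep h hdeg, prod_pow_pat, coeff_prod_linearForm, sum_bijective_eq_sum_perm]

/-- Polarization of a selection of members of a family. -/
lemma pol_comp [DecidableEq ι] {F : M →ₚₗ[A] N} (hF : _root_.PolLaw.IsHomog F d) (m : ι → M)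
    (p p₀ : Fin d → ι) (hp : pat p = pat p₀) :
    pol F (m ∘ p) =
      (Finset.univ.filter fun σ : Equiv.Perm (Fin d) => p ∘ σ = p₀).card • coeff F m (pat p₀) := by
  classical
  have e : m ∘ p = fun k => ∑ i, (if p k = i then (1 : A) else 0) • m i := by
    funext k
    simp [ite_smul]
  rw [e, pol, coeff_linComb, Finsupp.sum, Finset.sum_eq_single (pat p₀)]
  · rw [prod_pow_pat, coeff_prod_linearForm, sum_bijective_eq_sum_perm, ← Nat.cast_smul_eq_nsmul A,
      Finset.natCast_card_filter]
    congr 1
    refine Finset.sum_congr rfl fun σ _ => ?_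
    by_cases hσ : p ∘ σ = p₀
    · rw [if_pos hσ]
      exact Finset.prod_eq_one fun l _ => if_pos (congrFun hσ l)
    · rw [if_neg hσ]
      obtain ⟨l, hl⟩ := Function.ne_iff.mp hσ
      exact Finset.prod_eq_zero (Finset.mem_univ l) (if_neg hl)
  · intro μ hμ hne
    have hdeg : ∑ i, μ i = d := by
      by_contra h
      exact Finsupp.mem_support_iff.mp hμ (coeff_eq_zero hF m h)
    obtain ⟨q, rfl⟩ := exists_pat_eq d hdeg
    rw [prod_pow_pat, coeff_prod_linearForm, sum_bijective_eq_sum_perm, Finset.sum_eq_zero, zero_smul]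
    intro σ _
    have hne' : p ∘ σ ≠ q := fun hh => hne (by rw [← hh, pat_comp_perm, hp])
    obtain ⟨l, hl⟩ := Function.ne_iff.mp hne'
    exact Finset.prod_eq_zero (Finset.mem_univ l) (if_neg hl)
  · intro h
    simp [Finsupp.notMem_support_iff.mp h]

lemma pol_comp_perm {F : M →ₚₗ[A] N} (hF : _root_.PolLaw.IsHomog F d) (b : Fin d → M)
    (σ : Equiv.Perm (Fin d)) : pol F (b ∘ σ) = pol F b := by
  classical
  rw [pol_comp hF b (σ : Fin d → Fin d) id (by simpa using! pat_comp_perm (id : Fin d → Fin d) σ)]
  have : (Finset.univ.filter fun τ : Equiv.Perm (Fin d) => (σ : Fin d → Fin d) ∘ τ = id) = {σ⁻¹} := by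
    ext τ
    simp only [Finset.mem_filter, Finset.mem_univ, true_and, Finset.mem_singleton]
    constructor
    · intro h
      refine Equiv.ext fun x => σ.injective ?_
      simpa using congrFun h x
    · rintro rfl
      funext x
      simp
  rw [this, Finset.card_singleton, one_smul, pol]

/-- Summing the polarization over all lists with a given pattern. -/
lemma sum_pol_comp [DecidableEq (ι →₀ ℕ)] {F : M →ₚₗ[A] N} (hF : _root_.PolLaw.IsHomog F d) (m : ι → M)
    {μ : ι →₀ ℕ} (hμ : ∑ i, μ i = d) :
    ∑ p : Fin d → ι with pat p = μ, pol F (m ∘ p) = d.factorial • coeff F m μ := by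
  classical
  obtain ⟨p₀, rfl⟩ := exists_pat_eq d hμ
  rw [Finset.sum_congr rfl fun p hp => pol_comp hF m p p₀ (Finset.mem_filter.mp hp).2,
    ← Finset.sum_smul]
  congr 1
  have h := Finset.card_eq_sum_card_fiberwise
    (s := (Finset.univ : Finset (Equiv.Perm (Fin d))))
    (t := Finset.univ.filter fun p : Fin d → ι => pat p = pat p₀) (f := fun σ => p₀ ∘ σ.symm)
    fun σ _ => Finset.mem_filter.mpr ⟨Finset.mem_univ _, pat_comp_perm p₀ σ.symm⟩
  rw [Finset.card_univ, Fintype.card_perm, Fintype.card_fin] at h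
  rw [h]
  refine Finset.sum_congr rfl fun p _ => congrArg Finset.card ?_
  ext σ
  simp only [Finset.mem_filter, Finset.mem_univ, true_and]
  constructor
  · intro h; funext x; simpa using (congrFun h (σ.symm x)).symm
  · intro h; funext x; simpa using (congrFun h (σ x)).symm

/-- Polarization is multilinear. -/
noncomputable def polMultilinear {F : M →ₚₗ[A] N} (hF : _root_.PolLaw.IsHomog F d) :
    MultilinearMap A (fun _ : Fin d => M) N where
  toFun := pol F
  map_update_add' {_} b j x y := by
    classical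
    obtain rfl := Subsingleton.elim ‹DecidableEq (Fin d)› (instDecidableEqFin d)
    let m : Fin d ⊕ Fin 2 → M := Sum.elim b ![x, y]
    let a : A → A → Fin d → Fin d ⊕ Fin 2 → A := fun r s k =>
      if k = j then Sum.elim (fun _ => 0) ![r, s] else fun i => if i = Sum.inl k then 1 else 0
    have e : ∀ r s : A, (fun k => ∑ i, a r s k i • m i) = Function.update b j (r • x + s • y) := by
      intro r s
      funext k
      by_cases hk : k = j
      · subst hk
        simp [a, m, Fintype.sum_sum_type]
      · rw [Function.update_of_ne hk]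
        simp [a, m, hk, ite_smul]
    have hne : Nonempty (Fin d → Fin d ⊕ Fin 2) := ⟨Sum.inl⟩
    rw [show x + y = (1 : A) • x + (1 : A) • y by simp, ← e,
      show Function.update b j x = Function.update b j ((1 : A) • x + (0 : A) • y) by simp, ← e,
      show Function.update b j y = Function.update b j ((0 : A) • x + (1 : A) • y) by simp, ← e,
      pol_linComb hF m _ hne, pol_linComb hF m _ hne, pol_linComb hF m _ hne, ← Finsupp.sum_add]
    refine Finsupp.sum_congr fun μ _ => ?_
    rw [← add_smul, ← Finset.sum_add_distrib]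
    congr 1
    refine Finset.sum_congr rfl fun σ _ => ?_
    obtain ⟨l₀, hl₀⟩ := σ.surjective j
    have hrest : ∀ r s, ∀ l ∈ Finset.univ.erase l₀,
        a r s (σ l) (rep _ d hne μ l) = a 1 1 (σ l) (rep _ d hne μ l) := by
      intro r s l hl
      have : σ l ≠ j := fun h => (Finset.ne_of_mem_erase hl) (σ.injective (h.trans hl₀.symm))
      simp [a, this]
    rw [← Finset.mul_prod_erase _ _ (Finset.mem_univ l₀),
      ← Finset.mul_prod_erase _ _ (Finset.mem_univ l₀),
      ← Finset.mul_prod_erase _ _ (Finset.mem_univ l₀), Finset.prod_congr rfl (hrest 1 0),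
      Finset.prod_congr rfl (hrest 0 1), ← add_mul]
    congr 1
    rcases rep _ d hne μ l₀ with k | k
    · simp [a, hl₀]
    · fin_cases k <;> simp [a, hl₀]
  map_update_smul' {_} b j c x := by
    classical
    obtain rfl := Subsingleton.elim ‹DecidableEq (Fin d)› (instDecidableEqFin d)
    let m : Fin d ⊕ Fin 1 → M := Sum.elim b ![x]
    let a : A → Fin d → Fin d ⊕ Fin 1 → A := fun r k =>
      if k = j then Sum.elim (fun _ => 0) ![r] else fun i => if i = Sum.inl k then 1 else 0
    have e : ∀ r : A, (fun k => ∑ i, a r k i • m i) = Function.update b j (r • x) := by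
      intro r
      funext k
      by_cases hk : k = j
      · subst hk
        simp [a, m, Fintype.sum_sum_type]
      · rw [Function.update_of_ne hk]
        simp [a, m, hk, ite_smul]
    have hne : Nonempty (Fin d → Fin d ⊕ Fin 1) := ⟨Sum.inl⟩
    rw [← e, show Function.update b j x = Function.update b j ((1 : A) • x) by simp, ← e,
      pol_linComb hF m _ hne, pol_linComb hF m _ hne, Finsupp.smul_sum]
    refine Finsupp.sum_congr fun μ _ => ?_
    rw [smul_smul, Finset.mul_sum]
    congr 1
    refine Finset.sum_congr rfl fun σ _ => ?_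
    obtain ⟨l₀, hl₀⟩ := σ.surjective j
    have hrest : ∀ l ∈ Finset.univ.erase l₀,
        a c (σ l) (rep _ d hne μ l) = a 1 (σ l) (rep _ d hne μ l) := by
      intro l hl
      have : σ l ≠ j := fun h => (Finset.ne_of_mem_erase hl) (σ.injective (h.trans hl₀.symm))
      simp [a, this]
    rw [← Finset.mul_prod_erase _ _ (Finset.mem_univ l₀),
      ← Finset.mul_prod_erase _ _ (Finset.mem_univ l₀), Finset.prod_congr rfl hrest, ← mul_assoc]
    congr 1
    rcases rep _ d hne μ l₀ with k | k
    · simp [a, hl₀]
    · fin_cases k; simp [a, hl₀]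

@[simp] lemma polMultilinear_apply {F : M →ₚₗ[A] N} (hF : _root_.PolLaw.IsHomog F d) (b : Fin d → M) :
    polMultilinear hF b = pol F b := rfl

/-- The linear map on the tensor power given by polarization. -/
noncomputable def polTensor {F : M →ₚₗ[A] N} (hF : _root_.PolLaw.IsHomog F d) :
    (⨂[A] _ : Fin d, M) →ₗ[A] N :=
  PiTensorProduct.lift (polMultilinear hF)

@[simp] lemma polTensor_tprod {F : M →ₚₗ[A] N} (hF : _root_.PolLaw.IsHomog F d) (b : Fin d → M) :
    polTensor hF (PiTensorProduct.tprod A b) = pol F b := by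
  simp [polTensor]

end GrothLib.PolLaw
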