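import Groth.Prelude.Def_PolLaw
import Mathlib.RingTheory.Spectrum.Prime.Topology
import Mathlib.LinearAlgebra.TensorProduct.Pi
import Mathlib.RingTheory.TensorProduct.Basic

/-!
# Multiplicative laws on a product of two algebras
-/

universe u

open TensorProduct

namespace GrothLib.PolLaw

variable {A : Type u} [CommRing A] {B₁ B₂ : Type u} [CommRing B₁] [Algebra A B₁] [CommRing B₂] [Algebra A B₂]

theorem isIdempotentElem_zero_or_one [ConnectedSpace (PrimeSpectrum A)] {e : A}
    (he : IsIdempotentElem e) : e = 0 ∨ e = 1 := by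
  rcases isClopen_iff.1 (PrimeSpectrum.isClopen_iff.2 ⟨e, he, rfl⟩) with h | h
  · left
    obtain ⟨n, hn⟩ := (PrimeSpectrum.basicOpen_eq_bot_iff e).1 (SetLike.ext' h)
    rcases n with _ | n
    · rw [pow_zero] at hn
      rw [← mul_one e, hn, mul_zero]
    · rwa [he.pow_succ_eq] at hn
  · right
    refine PrimeSpectrum.basicOpen_injOn_isIdempotentElem he IsIdempotentElem.one ?_
    exact SetLike.ext' (h.trans (congrArg SetLike.coe (PrimeSpectrum.basicOpen_one (R := A))).symm)

/-- the element `(x, y)` of `S ⊗ (B₁ × B₂)` -/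
noncomputable def pairElt (S : Type u) [CommSemiring S] [Algebra A S] (x : S ⊗[A] B₁) (y : S ⊗[A] B₂) :
    S ⊗[A] (B₁ × B₂) :=
  (LinearMap.inl A B₁ B₂).lTensor S x + (LinearMap.inr A B₁ B₂).lTensor S y

variable {S : Type u} [CommSemiring S] [Algebra A S]

theorem inl_lTensor_mul (x x' : S ⊗[A] B₁) :
    (LinearMap.inl A B₁ B₂).lTensor S (x * x') =
      (LinearMap.inl A B₁ B₂).lTensor S x * (LinearMap.inl A B₁ B₂).lTensor S x' := by
  induction x using TensorProduct.induction_on with
  | zero => simp
  | add p q hp hq => simp only [add_mul, map_add, hp, hq]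
  | tmul s c =>
    induction x' using TensorProduct.induction_on with
    | zero => simp
    | add p q hp hq => simp only [mul_add, map_add, hp, hq]
    | tmul t c' => simp

theorem inr_lTensor_mul (x x' : S ⊗[A] B₂) :
    (LinearMap.inr A B₁ B₂).lTensor S (x * x') =
      (LinearMap.inr A B₁ B₂).lTensor S x * (LinearMap.inr A B₁ B₂).lTensor S x' := by
  induction x using TensorProduct.induction_on with
  | zero => simp
  | add p q hp hq => simp only [add_mul, map_add, hp, hq]
  | tmul s c =>
    induction x' using TensorProduct.induction_on with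
    | zero => simp
    | add p q hp hq => simp only [mul_add, map_add, hp, hq]
    | tmul t c' => simp

theorem inl_mul_inr (x : S ⊗[A] B₁) (y : S ⊗[A] B₂) :
    (LinearMap.inl A B₁ B₂).lTensor S x * (LinearMap.inr A B₁ B₂).lTensor S y = 0 := by
  induction x using TensorProduct.induction_on with
  | zero => simp
  | add p q hp hq => simp only [add_mul, map_add, hp, hq, add_zero]
  | tmul s c =>
    induction y using TensorProduct.induction_on with
    | zero => simp
    | add p q hp hq => simp only [mul_add, map_add, hp, hq, add_zero]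
    | tmul t c' => simp [Prod.mk_zero_zero]

theorem pairElt_one : pairElt (A := A) (B₁ := B₁) (B₂ := B₂) S 1 1 = 1 := by
  rw [pairElt, Algebra.TensorProduct.one_def, Algebra.TensorProduct.one_def, LinearMap.lTensor_tmul,
    LinearMap.lTensor_tmul, ← TensorProduct.tmul_add,
    show LinearMap.inl A B₁ B₂ 1 + LinearMap.inr A B₁ B₂ 1 = 1 from by ext <;> simp]
  rfl

theorem pairElt_mul (x x' : S ⊗[A] B₁) (y y' : S ⊗[A] B₂) :
    pairElt S (x * x') (y * y') = pairElt S x y * pairElt S x' y' := by
  simp only [pairElt, inl_lTensor_mul, inr_lTensor_mul, add_mul, mul_add, inl_mul_inr]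
  rw [mul_comm ((LinearMap.inr A B₁ B₂).lTensor S y) ((LinearMap.inl A B₁ B₂).lTensor S x'),
    inl_mul_inr]
  simp

theorem pairElt_smul (s : S) (x : S ⊗[A] B₁) (y : S ⊗[A] B₂) :
    pairElt S (s • x) (s • y) = s • pairElt S x y := by
  rw [pairElt, pairElt, smul_add]
  congr 1
  · induction x using TensorProduct.induction_on with
    | zero => simp
    | add p q hp hq => simp only [smul_add, map_add, hp, hq]
    | tmul t c => simp [TensorProduct.smul_tmul']
  · induction y using TensorProduct.induction_on with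
    | zero => simp
    | add p q hp hq => simp only [smul_add, map_add, hp, hq]
    | tmul t c => simp [TensorProduct.smul_tmul']

theorem fst_pairElt (x : S ⊗[A] B₁) (y : S ⊗[A] B₂) :
    (LinearMap.fst A B₁ B₂).lTensor S (pairElt S x y) = x := by
  rw [pairElt, map_add, ← LinearMap.lTensor_comp_apply, ← LinearMap.lTensor_comp_apply]
  simp

theorem snd_pairElt (x : S ⊗[A] B₁) (y : S ⊗[A] B₂) :
    (LinearMap.snd A B₁ B₂).lTensor S (pairElt S x y) = y := by
  rw [pairElt, map_add, ← LinearMap.lTensor_comp_apply, ← LinearMap.lTensor_comp_apply]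
  simp

theorem pairElt_fst_snd (z : S ⊗[A] (B₁ × B₂)) :
    pairElt S ((LinearMap.fst A B₁ B₂).lTensor S z) ((LinearMap.snd A B₁ B₂).lTensor S z) = z := by
  induction z using TensorProduct.induction_on with
  | zero => simp [pairElt]
  | add p q hp hq =>
    conv_rhs => rw [← hp, ← hq]
    simp only [pairElt, map_add]
    abel
  | tmul t c =>
    obtain ⟨c₁, c₂⟩ := c
    simp [pairElt, ← TensorProduct.tmul_add]

theorem pairElt_natural {S' : Type u} [CommSemiring S'] [Algebra A S'] (φ : S →ₐ[A] S')
    (x : S ⊗[A] B₁) (y : S ⊗[A] B₂) :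
    φ.toLinearMap.rTensor (B₁ × B₂) (pairElt S x y) =
      pairElt S' (φ.toLinearMap.rTensor B₁ x) (φ.toLinearMap.rTensor B₂ y) := by
  simp only [pairElt, map_add, ← LinearMap.comp_apply, LinearMap.rTensor_comp_lTensor,
    ← LinearMap.lTensor_comp_rTensor]

theorem rTensor_smul' {S' : Type u} [CommSemiring S'] [Algebra A S'] (φ : S →ₐ[A] S') (W : Type u)
    [AddCommGroup W] [Module A W] (t : S) (z : S ⊗[A] W) :
    φ.toLinearMap.rTensor W (t • z) = φ t • φ.toLinearMap.rTensor W z := by
  induction z using TensorProduct.induction_on with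
  | zero => simp
  | add a b ha hb => simp only [smul_add, map_add, ha, hb]
  | tmul s a => simp [TensorProduct.smul_tmul']

theorem rTensor_one' {S' : Type u} [CommSemiring S'] [Algebra A S'] (φ : S →ₐ[A] S') (W : Type u)
    [CommRing W] [Algebra A W] : φ.toLinearMap.rTensor W (1 : S ⊗[A] W) = 1 := by
  simp [Algebra.TensorProduct.one_def]

variable {d : ℕ} (F : _root_.PolLaw.MulLaw A (B₁ × B₂) A d)

/-- `t ↦ F (t, 1)` -/
noncomputable def leftChar (S : Type u) [CommSemiring S] [Algebra A S] (t : S) : S :=
  Algebra.TensorProduct.rid A A S (F.law.toFun' S (pairElt S (t • 1) 1))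

theorem leftChar_natural {S' : Type u} [CommSemiring S'] [Algebra A S'] (φ : S →ₐ[A] S') (t : S) :
    φ (leftChar F S t) = leftChar F S' (φ t) := by
  have hnat : ∀ z : S ⊗[A] A, φ (Algebra.TensorProduct.rid A A S z) =
        Algebra.TensorProduct.rid A A S' (φ.toLinearMap.rTensor A z) := by
    intro z
    induction z using TensorProduct.induction_on with
    | zero => simp
    | add a b ha hb => simp only [map_add, ha, hb]
    | tmul s a => simp
  rw [leftChar, hnat, PolynomialLaw.isCompat_apply', pairElt_natural, rTensor_smul', rTensor_one',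
    rTensor_one', leftChar]

theorem leftChar_one : leftChar F S 1 = 1 := by
  rw [leftChar, one_smul, pairElt_one, (F.mult S).1, map_one]

theorem leftChar_mul (s t : S) : leftChar F S (s * t) = leftChar F S s * leftChar F S t := by
  rw [leftChar, leftChar, leftChar, ← map_mul, ← (F.mult S).2, ← pairElt_mul, one_mul]
  congr 3
  rw [smul_mul_smul_comm, one_mul]

theorem exists_degree [ConnectedSpace (PrimeSpectrum A)] :
    ∃ e : ℕ, ∀ (S : Type u) [CommSemiring S] [Algebra A S] (t : S),
      F.law.toFun' S (pairElt S (t • 1) 1) = t ^ e • 1 := by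
  classical
  set P := leftChar F (Polynomial A) Polynomial.X
  have heval : ∀ (S : Type u) [CommSemiring S] [Algebra A S] (t : S),
      leftChar F S t = Polynomial.aeval t P := by
    intro S _ _ t
    rw [leftChar_natural, Polynomial.aeval_X]
  have hmul := leftChar_mul F (S := Polynomial (Polynomial A)) (Polynomial.C Polynomial.X) Polynomial.X
  rw [heval, heval, heval] at hmul
  have hcoef : ∀ i j, P.coeff i * P.coeff j = if i = j then P.coeff i else 0 := by
    intro i j
    have h := congr_arg (fun q : Polynomial (Polynomial A) => (q.coeff j).coeff i) hmul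
    have e1 : Polynomial.aeval (Polynomial.C Polynomial.X * Polynomial.X : Polynomial (Polynomial A)) P =
        ∑ k ∈ P.support, Polynomial.C (Polynomial.C (P.coeff k) * Polynomial.X ^ k) * Polynomial.X ^ k := by
      rw [Polynomial.aeval_def, Polynomial.eval₂_eq_sum, Polynomial.sum_def]
      refine Finset.sum_congr rfl fun k _ => ?_
      rw [mul_pow, ← mul_assoc, map_mul, map_pow]
      rfl
    have e2 : (Polynomial.aeval (Polynomial.C Polynomial.X : Polynomial (Polynomial A))) P = Polynomial.C P := by
      have := Polynomial.aeval_algHom_apply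
        (IsScalarTower.toAlgHom A (Polynomial A) (Polynomial (Polynomial A))) Polynomial.X P
      rw [Polynomial.aeval_X_left_apply] at this
      exact this
    have e3 : (Polynomial.aeval (Polynomial.X : Polynomial (Polynomial A))) P = P.map Polynomial.C := by
      rw [Polynomial.aeval_def, Polynomial.map]
      rfl
    rw [e1, e2, e3] at h
    rw [Polynomial.finsetSum_coeff] at h
    simp only [Polynomial.coeff_C_mul_X_pow, Finset.sum_ite_eq] at h
    simp only [Polynomial.coeff_C_mul, Polynomial.coeff_map, Polynomial.coeff_mul_C] at h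
    rw [← h]
    by_cases hj : j ∈ P.support
    · rw [if_pos hj, Polynomial.coeff_C_mul_X_pow]
      split_ifs with hij
      · rw [hij]
      · rfl
    · rw [if_neg hj, Polynomial.coeff_zero]
      split_ifs with hij
      · rw [hij]
        exact (Polynomial.notMem_support_iff.1 hj).symm
      · rfl
  haveI : Nontrivial A := by
    obtain ⟨p⟩ := (inferInstance : Nonempty (PrimeSpectrum A))
    exact ⟨0, 1, fun h => p.isPrime.ne_top ((Ideal.eq_top_iff_one _).2 (h ▸ p.asIdeal.zero_mem))⟩
  have hsum : ∑ k ∈ P.support, P.coeff k = 1 := by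
    have h := heval A 1
    rw [leftChar_one, Polynomial.aeval_def, Polynomial.eval₂_eq_sum, Polynomial.sum_def] at h
    rw [h]
    simp
  obtain ⟨e, he⟩ : ∃ e, P.coeff e = 1 := by
    by_contra hne
    push Not at hne
    have hz : ∀ k, P.coeff k = 0 := fun k =>
      (isIdempotentElem_zero_or_one (by simpa [IsIdempotentElem] using hcoef k k)).resolve_right (hne k)
    simp [hz] at hsum
  have hP : P = Polynomial.X ^ e := by
    ext k
    rw [Polynomial.coeff_X_pow]
    split_ifs with hk
    · rw [hk, he]
    · have := hcoef k e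
      rwa [he, mul_one, if_neg hk] at this
  refine ⟨e, fun S _ _ t => ?_⟩
  have h := heval S t
  rw [hP, map_pow, Polynomial.aeval_X] at h
  refine (Algebra.TensorProduct.rid A A S).injective ?_
  conv_rhs => rw [Algebra.TensorProduct.one_def, TensorProduct.smul_tmul', smul_eq_mul, mul_one,
    Algebra.TensorProduct.rid_tmul, one_smul]
  exact h

/-- the restriction to the first factor -/
noncomputable def leftLaw {e : ℕ} (he : ∀ (S : Type u) [CommSemiring S] [Algebra A S] (t : S),
      F.law.toFun' S (pairElt S (t • 1) 1) = t ^ e • 1) : _root_.PolLaw.MulLaw A B₁ A e where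
  law :=
    { toFun' := fun S _ _ x => F.law.toFun' S (pairElt S x 1)
      isCompat' := fun {S _ _ S' _ _} φ => by
        funext x
        simp only [Function.comp_apply]
        rw [PolynomialLaw.isCompat_apply', pairElt_natural, rTensor_one'] }
  homog S _ _ s x := by
    show F.law.toFun' S (pairElt S (s • x) 1) = s ^ e • F.law.toFun' S (pairElt S x 1)
    rw [show s • x = (s • (1 : S ⊗[A] B₁)) * x from by rw [smul_mul_assoc, one_mul],
      show (1 : S ⊗[A] B₂) = 1 * 1 from (one_mul 1).symm, pairElt_mul, (F.mult S).2, he, mul_one,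
      smul_mul_assoc, one_mul]
  mult S _ _ := ⟨(congrArg _ pairElt_one).trans (F.mult S).1, fun x y => by
    show F.law.toFun' S (pairElt S (x * y) 1) = _
    conv_lhs => rw [show (1 : S ⊗[A] B₂) = 1 * 1 from (one_mul 1).symm, pairElt_mul, (F.mult S).2]⟩

/-- the restriction to the second factor -/
noncomputable def rightLaw {e : ℕ} (he : ∀ (S : Type u) [CommSemiring S] [Algebra A S] (t : S),
      F.law.toFun' S (pairElt S 1 (t • 1)) = t ^ e • 1) : _root_.PolLaw.MulLaw A B₂ A e where
  law :=
    { toFun' := fun S _ _ x => F.law.toFun' S (pairElt S 1 x)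
      isCompat' := fun {S _ _ S' _ _} φ => by
        funext x
        simp only [Function.comp_apply]
        rw [PolynomialLaw.isCompat_apply', pairElt_natural, rTensor_one'] }
  homog S _ _ s x := by
    show F.law.toFun' S (pairElt S 1 (s • x)) = s ^ e • F.law.toFun' S (pairElt S 1 x)
    rw [show s • x = (s • (1 : S ⊗[A] B₂)) * x from by rw [smul_mul_assoc, one_mul],
      show (1 : S ⊗[A] B₁) = 1 * 1 from (one_mul 1).symm, pairElt_mul, (F.mult S).2, he, mul_one,
      smul_mul_assoc, one_mul]
  mult S _ _ := ⟨(congrArg _ pairElt_one).trans (F.mult S).1, fun x y => by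
    show F.law.toFun' S (pairElt S 1 (x * y)) = _
    conv_lhs => rw [show (1 : S ⊗[A] B₁) = 1 * 1 from (one_mul 1).symm, pairElt_mul, (F.mult S).2]⟩

theorem eq_mul_restrict (z : S ⊗[A] (B₁ × B₂)) :
    F.law.toFun' S z = F.law.toFun' S (pairElt S ((LinearMap.fst A B₁ B₂).lTensor S z) 1) *
      F.law.toFun' S (pairElt S 1 ((LinearMap.snd A B₁ B₂).lTensor S z)) := by
  rw [← (F.mult S).2, ← pairElt_mul, mul_one, one_mul, pairElt_fst_snd]

theorem smul_one_inj [Nontrivial A] {a b : ℕ}
    (h : (Polynomial.X : Polynomial A) ^ a • (1 : Polynomial A ⊗[A] A) =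
      (Polynomial.X : Polynomial A) ^ b • 1) : a = b := by
  have h2 := congr_arg (Algebra.TensorProduct.rid A A (Polynomial A)) h
  simp only [Algebra.TensorProduct.one_def, TensorProduct.smul_tmul', smul_eq_mul, mul_one,
    Algebra.TensorProduct.rid_tmul, one_smul] at h2
  have h3 := congr_arg Polynomial.natDegree h2
  rwa [Polynomial.natDegree_X_pow, Polynomial.natDegree_X_pow] at h3

theorem exists_split [ConnectedSpace (PrimeSpectrum A)] :
    ∃ d₁ d₂ : ℕ, d₁ + d₂ = d ∧
      (∃ (F₁ : _root_.PolLaw.MulLaw A B₁ A d₁) (F₂ : _root_.PolLaw.MulLaw A B₂ A d₂),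
        ∀ (S : Type u) [CommSemiring S] [Algebra A S] (x : S ⊗[A] (B₁ × B₂)),
          F.law.toFun' S x = F₁.law.toFun' S (LinearMap.lTensor S (LinearMap.fst A B₁ B₂) x) *
            F₂.law.toFun' S (LinearMap.lTensor S (LinearMap.snd A B₁ B₂) x)) ∧
      ∀ (e₁ e₂ : ℕ) (G₁ : _root_.PolLaw.MulLaw A B₁ A e₁) (G₂ : _root_.PolLaw.MulLaw A B₂ A e₂),
        (∀ (S : Type u) [CommSemiring S] [Algebra A S] (x : S ⊗[A] (B₁ × B₂)),
          F.law.toFun' S x = G₁.law.toFun' S (LinearMap.lTensor S (LinearMap.fst A B₁ B₂) x) *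
            G₂.law.toFun' S (LinearMap.lTensor S (LinearMap.snd A B₁ B₂) x)) → e₁ = d₁ ∧ e₂ = d₂ := by
  obtain ⟨d₁, h₁⟩ := exists_degree F
  haveI : Nontrivial A := by
    obtain ⟨p⟩ := (inferInstance : Nonempty (PrimeSpectrum A))
    exact ⟨0, 1, fun h => p.isPrime.ne_top ((Ideal.eq_top_iff_one _).2 (h ▸ p.asIdeal.zero_mem))⟩
  let sw : (B₂ × B₁) →ₐ[A] (B₁ × B₂) := (AlgHom.snd A B₂ B₁).prod (AlgHom.fst A B₂ B₁)
  obtain ⟨d₂, h₂'⟩ := exists_degree (_root_.PolLaw.MulLaw.precomp F sw)
  have h₂ : ∀ (S : Type u) [CommSemiring S] [Algebra A S] (t : S),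
      F.law.toFun' S (pairElt S 1 (t • 1)) = t ^ d₂ • 1 := by
    intro S _ _ t
    rw [← h₂' S t]
    show _ = F.law.toFun' S (sw.toLinearMap.lTensor S (pairElt S (t • 1) 1))
    congr 1
    simp only [pairElt, map_add, ← LinearMap.lTensor_comp_apply]
    rw [add_comm]
    rfl
  have hd : d₁ + d₂ = d := by
    refine smul_one_inj (A := A) ?_
    have h := eq_mul_restrict F (S := Polynomial A) ((Polynomial.X : Polynomial A) • 1)
    rw [F.homog, (F.mult _).1,
      show ((Polynomial.X : Polynomial A) • (1 : Polynomial A ⊗[A] (B₁ × B₂))) =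
        pairElt (Polynomial A) ((Polynomial.X : Polynomial A) • 1) ((Polynomial.X : Polynomial A) • 1) from by
        rw [pairElt_smul, pairElt_one],
      fst_pairElt, snd_pairElt, h₁, h₂, smul_mul_smul_comm, one_mul, ← pow_add] at h
    exact h.symm
  refine ⟨d₁, d₂, hd, ⟨leftLaw F h₁, rightLaw F h₂, fun S _ _ x => eq_mul_restrict F x⟩, ?_⟩
  intro e₁ e₂ G₁ G₂ hG
  constructor
  · refine smul_one_inj (A := A) ?_
    have h := hG (Polynomial A) (pairElt (Polynomial A) ((Polynomial.X : Polynomial A) • 1) 1)
    rw [fst_pairElt, snd_pairElt, h₁, G₁.homog, (G₁.mult _).1, (G₂.mult _).1, mul_one] at h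
    exact h.symm
  · refine smul_one_inj (A := A) ?_
    have h := hG (Polynomial A) (pairElt (Polynomial A) 1 ((Polynomial.X : Polynomial A) • 1))
    rw [fst_pairElt, snd_pairElt, h₂, G₂.homog, (G₁.mult _).1, (G₂.mult _).1, one_mul] at h
    exact h.symm

end GrothLib.PolLaw
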