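import Groth.Agent.Lib.PolLaw.Residue
import Groth.Agent.Lib.PolLaw.Sym
import Groth.Agent.Lib.AvoidSubmodules
import Mathlib.RingTheory.GradedAlgebra.Basic
import Mathlib.RingTheory.Nilpotent.Lemmas

/-!
# The graded subalgebra `⊕_k (B_k)^{⊗ d}` of the tensor power and its invariants
-/

universe u

open TensorProduct
open MvPolynomial (monomial)

namespace GrothLib.PolLaw

variable {A B : Type u} [CommRing A] [CommRing B] [Algebra A B]
  (𝒜 : ℕ → Submodule A B) [GradedAlgebra 𝒜] (d : ℕ)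

/-- the span of the pure tensors with all factors in degree `k` -/
def diagPiece (k : ℕ) : Submodule A (⨂[A] _ : Fin d, B) :=
  Submodule.span A {s | ∃ b : Fin d → B, (∀ i, b i ∈ 𝒜 k) ∧ s = PiTensorProduct.tprod A b}

/-- the subalgebra generated by all diagonal pieces -/
noncomputable def diagAlg : Subalgebra A (⨂[A] _ : Fin d, B) :=
  Algebra.adjoin A {t | ∃ (k : ℕ) (b : Fin d → B), (∀ i, b i ∈ 𝒜 k) ∧ t = PiTensorProduct.tprod A b}

theorem diagPiece_le (k : ℕ) : diagPiece 𝒜 d k ≤ (diagAlg 𝒜 d).toSubmodule :=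
  Submodule.span_le.2 fun _ ⟨b, hb, h⟩ => Algebra.subset_adjoin ⟨k, b, hb, h⟩

theorem diagPiece_mul {j k : ℕ} {x y : ⨂[A] _ : Fin d, B} (hx : x ∈ diagPiece 𝒜 d j)
    (hy : y ∈ diagPiece 𝒜 d k) : x * y ∈ diagPiece 𝒜 d (j + k) := by
  induction hx using Submodule.span_induction with
  | zero => rw [zero_mul]; exact zero_mem _
  | add _ _ _ _ h1 h2 => rw [add_mul]; exact add_mem h1 h2
  | smul r _ _ h => rw [smul_mul_assoc]; exact Submodule.smul_mem _ r h
  | mem x hx =>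
    obtain ⟨b, hb, rfl⟩ := hx
    induction hy using Submodule.span_induction with
    | zero => rw [mul_zero]; exact zero_mem _
    | add _ _ _ _ h1 h2 => rw [mul_add]; exact add_mem h1 h2
    | smul r _ _ h => rw [mul_smul_comm]; exact Submodule.smul_mem _ r h
    | mem y hy =>
      obtain ⟨c, hc, rfl⟩ := hy
      rw [PiTensorProduct.tprod_mul_tprod]
      exact Submodule.subset_span ⟨_, fun i => SetLike.mul_mem_graded (hb i) (hc i), rfl⟩

theorem diagPiece_pow {k : ℕ} {x : ⨂[A] _ : Fin d, B} (hx : x ∈ diagPiece 𝒜 d k) :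
    ∀ m, 0 < m → x ^ m ∈ diagPiece 𝒜 d (m * k)
  | 1, _ => by rwa [pow_one, one_mul]
  | m + 2, _ => by
    rw [pow_succ, Nat.succ_mul]
    exact diagPiece_mul 𝒜 d (diagPiece_pow hx (m + 1) (Nat.succ_pos m)) hx

/-- the projection on the diagonal piece of degree `k` -/
noncomputable def diagProj (k : ℕ) : (⨂[A] _ : Fin d, B) →ₗ[A] (⨂[A] _ : Fin d, B) :=
  PiTensorProduct.map fun _ => GradedAlgebra.proj 𝒜 k

theorem diagProj_mem (k : ℕ) (x : ⨂[A] _ : Fin d, B) : diagProj 𝒜 d k x ∈ diagPiece 𝒜 d k := by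
  induction x using PiTensorProduct.induction_on with
  | smul_tprod r f =>
    rw [map_smul, diagProj, PiTensorProduct.map_tprod]
    refine Submodule.smul_mem _ r (Submodule.subset_span ⟨_, fun i => ?_, rfl⟩)
    rw [GradedAlgebra.proj_apply]
    exact SetLike.coe_mem _
  | add x y hx hy => rw [map_add]; exact add_mem hx hy

theorem diagProj_of_mem {k : ℕ} {x : ⨂[A] _ : Fin d, B} (hx : x ∈ diagPiece 𝒜 d k) :
    diagProj 𝒜 d k x = x := by
  induction hx using Submodule.span_induction with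
  | zero => exact map_zero _
  | add _ _ _ _ h1 h2 => rw [map_add, h1, h2]
  | smul r _ _ h => rw [map_smul, h]
  | mem x hx =>
    obtain ⟨b, hb, rfl⟩ := hx
    rw [diagProj, PiTensorProduct.map_tprod]
    congr 1
    funext i
    rw [GradedAlgebra.proj_apply, DirectSum.decompose_of_mem_same 𝒜 (hb i)]

theorem diagProj_mul {j n : ℕ} {e : ⨂[A] _ : Fin d, B} (he : e ∈ diagPiece 𝒜 d j)
    (x : ⨂[A] _ : Fin d, B) :
    (diagProj 𝒜 d n (e * x) = e * if j ≤ n then diagProj 𝒜 d (n - j) x else 0) ∨ d = 0 := by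
  rcases Nat.eq_zero_or_pos d with h0 | hd
  · exact Or.inr h0
  left
  induction he using Submodule.span_induction with
  | zero => simp
  | add _ _ _ _ h1 h2 => simp only [add_mul, map_add, h1, h2]
  | smul r _ _ h => simp only [smul_mul_assoc, map_smul, h]
  | mem e he =>
    obtain ⟨b, hb, rfl⟩ := he
    induction x using PiTensorProduct.induction_on with
    | smul_tprod r f =>
      rw [mul_smul_comm, map_smul, PiTensorProduct.tprod_mul_tprod, diagProj, PiTensorProduct.map_tprod]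
      split_ifs with hjn
      · rw [map_smul, mul_smul_comm, diagProj, PiTensorProduct.map_tprod, PiTensorProduct.tprod_mul_tprod]
        congr 2
        funext i
        simp only [Pi.mul_apply, GradedAlgebra.proj_apply]
        exact DirectSum.coe_decompose_mul_of_left_mem_of_le 𝒜 (hb i) hjn
      · rw [mul_zero]
        rw [MultilinearMap.map_coord_zero _ ⟨0, hd⟩, smul_zero]
        simp only [Pi.mul_apply, GradedAlgebra.proj_apply]
        exact DirectSum.coe_decompose_mul_of_left_mem_of_not_le 𝒜 (hb _) hjn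
    | add x y hx hy =>
      rw [mul_add, map_add, hx, hy, ← mul_add]
      split_ifs
      · rw [map_add]
      · rw [add_zero]

theorem diagProj_mul_mem {j n : ℕ} {e : ⨂[A] _ : Fin d, B} (he : e ∈ diagPiece 𝒜 d j)
    (x : ⨂[A] _ : Fin d, B) : ∃ c ∈ diagAlg 𝒜 d, diagProj 𝒜 d n (e * x) = e * c := by
  rcases diagProj_mul 𝒜 d (n := n) he x with h | h0
  · refine ⟨_, ?_, h⟩
    split
    · exact diagPiece_le 𝒜 d _ (diagProj_mem 𝒜 d _ x)
    · exact zero_mem _
  · subst h0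
    refine ⟨x, ?_, ?_⟩
    · induction x using PiTensorProduct.induction_on with
      | smul_tprod r f =>
        exact Subalgebra.smul_mem _ (diagPiece_le 𝒜 0 0
          (Submodule.subset_span ⟨f, fun i => i.elim0, rfl⟩)) r
      | add x y hx hy => exact add_mem hx hy
    · generalize e * x = z
      induction z using PiTensorProduct.induction_on with
      | smul_tprod r f =>
        rw [map_smul, diagProj, PiTensorProduct.map_tprod]
        congr 2
        funext i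
        exact i.elim0
      | add x y hx hy => rw [map_add, hx, hy]

theorem isIntegral_diagAlg_inf {t : ⨂[A] _ : Fin d, B} (ht : t ∈ diagAlg 𝒜 d) :
    ∃ P : Polynomial (⨂[A] _ : Fin d, B), P.Monic ∧
      (∀ n, P.coeff n ∈ diagAlg 𝒜 d ⊓ SymTen.TS A B d) ∧ P.eval t = 0 := by
  classical
  refine ⟨∏ σ : Equiv.Perm (Fin d), (Polynomial.X - Polynomial.C (SymTen.perm A B d σ t)),
    Polynomial.monic_prod_of_monic _ _ fun σ _ => Polynomial.monic_X_sub_C _, fun n => ⟨?_, fun τ => ?_⟩, ?_⟩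
  · have hperm : ∀ σ : Equiv.Perm (Fin d), SymTen.perm A B d σ t ∈ diagAlg 𝒜 d := by
      intro σ
      have : (diagAlg 𝒜 d).map (SymTen.perm A B d σ) ≤ diagAlg 𝒜 d := by
        rw [diagAlg, AlgHom.map_adjoin]
        refine Algebra.adjoin_mono ?_
        rintro _ ⟨_, ⟨k, b, hb, rfl⟩, rfl⟩
        exact ⟨k, fun i => b (σ.symm i), fun i => hb _, SymTen.perm_tprod A B d σ b⟩
      exact this ⟨t, ht, rfl⟩
    have hl : (∏ σ : Equiv.Perm (Fin d), (Polynomial.X - Polynomial.C (SymTen.perm A B d σ t))) ∈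
        Polynomial.lifts (diagAlg 𝒜 d).val.toRingHom := by
      refine prod_mem fun σ _ => ?_
      rw [sub_eq_add_neg, ← Polynomial.C_neg]
      refine add_mem (Polynomial.X_mem_lifts _) ?_
      exact Polynomial.C_mem_lifts _ (-(⟨_, hperm σ⟩ : diagAlg 𝒜 d))
    obtain ⟨c, hc⟩ := (Polynomial.lifts_iff_coeff_lifts _).1 hl n
    rw [← hc]
    exact c.2
  · rw [← SymTen.perm_apply]
    have hfix : (∏ σ : Equiv.Perm (Fin d), (Polynomial.X - Polynomial.C (SymTen.perm A B d σ t))).map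
        (SymTen.perm A B d τ).toRingHom =
        ∏ σ : Equiv.Perm (Fin d), (Polynomial.X - Polynomial.C (SymTen.perm A B d σ t)) := by
      simp only [Polynomial.map_prod]
      refine Fintype.prod_equiv (Equiv.mulLeft τ) _ _ fun σ => ?_
      simp [perm_perm]
    conv_rhs => rw [← hfix, Polynomial.coeff_map]
    rfl
  · rw [Polynomial.eval_prod]
    refine Finset.prod_eq_zero (Finset.mem_univ 1) ?_
    rw [Polynomial.eval_sub, Polynomial.eval_X, Polynomial.eval_C]
    have : SymTen.perm A B d 1 t = t := by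
      induction t using PiTensorProduct.induction_on with
      | smul_tprod r f => simp; rfl
      | add x y hx hy =>
        rw [SymTen.perm_apply, show (1 : Equiv.Perm (Fin d)) = Equiv.refl _ from rfl,
          PiTensorProduct.reindex_refl]
        rfl
    rw [this, sub_self]

theorem exists_pow_mem_span (D : Subalgebra A (⨂[A] _ : Fin d, B))
    (hD : D = diagAlg 𝒜 d ⊓ SymTen.TS A B d) (G : Set D)
    (hG : ∀ g ∈ G, ∃ j, (g : ⨂[A] _ : Fin d, B) ∈ diagPiece 𝒜 d j) {k : ℕ} {t : ⨂[A] _ : Fin d, B}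
    (htD : t ∈ D) (htk : t ∈ diagPiece 𝒜 d k)
    (hrad : ∀ Q : Ideal (⨂[A] _ : Fin d, B), Q.IsPrime → (∀ g ∈ G, (g : ⨂[A] _ : Fin d, B) ∈ Q) → t ∈ Q) :
    ∃ m : ℕ, 0 < m ∧ (⟨t, htD⟩ : D) ^ m ∈ Ideal.span G := by
  classical
  have h1 : t ∈ (Ideal.span ((Subtype.val : D → ⨂[A] _ : Fin d, B) '' G)).radical := by
    rw [Ideal.radical_eq_sInf]
    exact Ideal.mem_sInf.2 fun {Q} ⟨hle, hQ⟩ => hrad Q hQ fun g hg => hle (Ideal.subset_span ⟨g, hg, rfl⟩)
  obtain ⟨m₀, hm₀⟩ := h1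
  have hm : t ^ (m₀ + 1) ∈ Ideal.span ((Subtype.val : D → ⨂[A] _ : Fin d, B) '' G) := by
    rw [pow_succ]; exact Ideal.mul_mem_right _ _ hm₀
  let C := diagAlg 𝒜 d
  have hDC : D ≤ C := hD ▸ inf_le_left
  let ι : D →+* C := (Subalgebra.inclusion hDC).toRingHom
  letI : Algebra D C := ι.toAlgebra
  have hpi : ∀ z ∈ Ideal.span ((Subtype.val : D → ⨂[A] _ : Fin d, B) '' G), ∀ n,
      ∃ y : C, y ∈ Ideal.map ι (Ideal.span G) ∧ (y : ⨂[A] _ : Fin d, B) = diagProj 𝒜 d n z := by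
    intro z hz
    induction hz using Submodule.span_induction with
    | zero => exact fun n => ⟨0, zero_mem _, by rw [map_zero]; rfl⟩
    | add x y _ _ hx hy =>
      intro n
      obtain ⟨a, ha, ha'⟩ := hx n
      obtain ⟨b, hb, hb'⟩ := hy n
      exact ⟨a + b, add_mem ha hb, by rw [map_add, Subalgebra.coe_add, ha', hb']⟩
    | mem x hx =>
      intro n
      obtain ⟨g, hg, rfl⟩ := hx
      obtain ⟨j, hj⟩ := hG g hg
      obtain ⟨c, hc, h⟩ := diagProj_mul_mem 𝒜 d (n := n) hj 1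
      rw [mul_one] at h
      exact ⟨ι g * ⟨c, hc⟩, Ideal.mul_mem_right _ _ (Ideal.mem_map_of_mem ι (Ideal.subset_span hg)), by
        rw [h]; rfl⟩
    | smul a x hx hIH =>
      intro n
      clear hm hm₀ hrad hIH
      induction hx using Submodule.span_induction generalizing a with
      | zero => exact ⟨0, zero_mem _, by rw [smul_zero, map_zero]; rfl⟩
      | add x y _ _ hx hy =>
        obtain ⟨a', ha, ha'⟩ := hx a
        obtain ⟨b, hb, hb'⟩ := hy a
        exact ⟨a' + b, add_mem ha hb, by rw [smul_add, map_add, Subalgebra.coe_add, ha', hb']⟩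
      | smul a' x _ hx =>
        obtain ⟨y, hy, hy'⟩ := hx (a * a')
        exact ⟨y, hy, by rw [hy', mul_smul]⟩
      | mem x hx =>
        obtain ⟨g, hg, rfl⟩ := hx
        obtain ⟨j, hj⟩ := hG g hg
        obtain ⟨c, hc, h⟩ := diagProj_mul_mem 𝒜 d (n := n) hj a
        refine ⟨ι g * ⟨c, hc⟩, Ideal.mul_mem_right _ _ (Ideal.mem_map_of_mem ι (Ideal.subset_span hg)), ?_⟩
        rw [smul_eq_mul, mul_comm a, h]
        rfl
  obtain ⟨y, hy, hy'⟩ := hpi _ hm ((m₀ + 1) * k)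
  rw [diagProj_of_mem 𝒜 d (diagPiece_pow 𝒜 d htk _ (Nat.succ_pos _))] at hy'
  have hyt : y = ι ⟨t, htD⟩ ^ (m₀ + 1) := Subtype.ext (by rw [hy', SubmonoidClass.coe_pow]; rfl)
  haveI : Algebra.IsIntegral D C := by
    refine ⟨fun c => ?_⟩
    obtain ⟨P, hP, hcoef, heval⟩ := isIntegral_diagAlg_inf 𝒜 d c.2
    have hl : P ∈ Polynomial.lifts D.val.toRingHom :=
      (Polynomial.lifts_iff_coeff_lifts _).2 fun n => ⟨⟨P.coeff n, hD ▸ hcoef n⟩, rfl⟩
    rcases subsingleton_or_nontrivial (⨂[A] _ : Fin d, B) with hT | hT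
    · have : Subsingleton C := ⟨fun a b => Subtype.ext (Subsingleton.elim _ _)⟩
      rw [Subsingleton.elim c 0]
      exact isIntegral_zero
    obtain ⟨q, hq, -, hqm⟩ := Polynomial.lifts_and_degree_eq_and_monic hl hP
    refine ⟨q, hqm, Subtype.ext ?_⟩
    rw [← hq, Polynomial.eval_map] at heval
    refine (Polynomial.hom_eval₂ q ι C.val.toRingHom c).trans ?_
    exact heval
  have h2 : (⟨t, htD⟩ : D) ∈ (Ideal.span G).radical := by
    rw [Ideal.radical_eq_sInf]
    refine Ideal.mem_sInf.2 fun {P} ⟨hle, hP⟩ => ?_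
    obtain ⟨Q, -, hQp, hQ⟩ := Ideal.exists_ideal_over_prime_of_isIntegral (S := C) P ⊥ (by
      rw [← RingHom.ker_eq_comap_bot]
      intro z hz
      have : ι z = 0 := hz
      rw [show z = 0 from Subtype.ext (congr_arg Subtype.val this :)]
      exact zero_mem P)
    have hle' : Ideal.map ι (Ideal.span G) ≤ Q := Ideal.map_le_iff_le_comap.2 (hle.trans hQ.ge)
    rw [← hQ]
    exact hQp.mem_of_pow_mem _ (hyt ▸ hle' hy : ι ⟨t, htD⟩ ^ (m₀ + 1) ∈ Q)
  obtain ⟨m, hm'⟩ := h2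
  exact ⟨m + 1, Nat.succ_pos m, by rw [pow_succ]; exact Ideal.mul_mem_right _ _ hm'⟩

/-- a prime of the tensor power at which some factor kills `B_1` contains all pure tensors of positive degree -/
theorem mem_of_factor_zero (hgen : Algebra.adjoin A (𝒜 1 : Set B) = ⊤) (Q : Ideal (⨂[A] _ : Fin d, B))
    (l : Fin d) (hl : ∀ b ∈ 𝒜 1, PiTensorProduct.singleAlgHom (R := A) (A := fun _ : Fin d => B) l b ∈ Q)
    {k : ℕ} (hk : 0 < k) {t : ⨂[A] _ : Fin d, B} (ht : t ∈ diagPiece 𝒜 d k) : t ∈ Q := by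
  classical
  set s := PiTensorProduct.singleAlgHom (R := A) (A := fun _ : Fin d => B) l
  have hB : ∀ x : B, ∀ m, 0 < m → s (GradedAlgebra.proj 𝒜 m x) ∈ Q := by
    intro x
    have hx : x ∈ Algebra.adjoin A (𝒜 1 : Set B) := by rw [hgen]; trivial
    rw [← Subalgebra.mem_toSubmodule, Algebra.adjoin_eq_span] at hx
    induction hx using Submodule.span_induction with
    | zero => exact fun m _ => by rw [map_zero, map_zero]; exact zero_mem _
    | add _ _ _ _ h1 h2 => exact fun m hm => by rw [map_add, map_add]; exact add_mem (h1 m hm) (h2 m hm)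
    | smul r _ _ h => exact fun m hm => by rw [map_smul, map_smul]; exact Submodule.smul_of_tower_mem _ r (h m hm)
    | mem z hz =>
      intro m hm
      induction hz using Submonoid.closure_induction_left generalizing m with
      | one =>
        rw [GradedAlgebra.proj_apply, DirectSum.decompose_of_mem_ne 𝒜 (SetLike.one_mem_graded 𝒜) (by omega),
          map_zero]
        exact zero_mem _
      | mul_left b hb z _ _ =>
        rw [GradedAlgebra.proj_apply, DirectSum.coe_decompose_mul_of_left_mem_of_le 𝒜 hb (show 1 ≤ m from hm),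
          map_mul]
        exact Ideal.mul_mem_right _ _ (hl b hb)
  induction ht using Submodule.span_induction with
  | zero => exact zero_mem _
  | add _ _ _ _ h1 h2 => exact add_mem h1 h2
  | smul r _ _ h => exact Submodule.smul_of_tower_mem _ r h
  | mem x hx =>
    obtain ⟨b, hb, rfl⟩ := hx
    rw [← prod_singleAlgHom, ← Finset.mul_prod_erase _ _ (Finset.mem_univ l)]
    refine Ideal.mul_mem_right _ _ ?_
    have := hB (b l) k hk
    rwa [GradedAlgebra.proj_apply, DirectSum.decompose_of_mem_same 𝒜 (hb l)] at this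

/-- homogeneous avoidance for finitely many ring maps into domains -/
theorem exists_homogeneous_forall_ne_zero {T : Type u} [CommRing T] [Algebra A T] [IsDomain T]
    (φ : Fin d → (B →ₐ[A] T)) (h : ∀ l, ∃ b ∈ 𝒜 1, φ l b ≠ 0) :
    ∀ s : Finset (Fin d), ∃ n f, 0 < n ∧ f ∈ 𝒜 n ∧ ∀ l ∈ s, φ l f ≠ 0 ∨ (s = ∅) := by
  classical
  intro s
  induction hc : s.card using Nat.strong_induction_on generalizing s with
  | _ c ih =>
  rcases s.eq_empty_or_nonempty with h0 | ⟨l₀, hl₀⟩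
  · exact ⟨1, 0, one_pos, zero_mem _, fun l _ => Or.inr h0⟩
  by_cases h1 : s = {l₀}
  · obtain ⟨b, hb, hb'⟩ := h l₀
    refine ⟨1, b, one_pos, hb, fun l hl => Or.inl ?_⟩
    rw [h1, Finset.mem_singleton] at hl
    rwa [hl]
  have hne : ∀ l ∈ s, (s.erase l).Nonempty := by
    intro l hl
    rw [Finset.nonempty_iff_ne_empty]
    intro he
    rw [Finset.erase_eq_empty_iff] at he
    rcases he with he | he
    · simp [he] at hl
    · rw [he, Finset.mem_singleton] at hl₀
      exact h1 (hl₀ ▸ he)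
  have hsub : ∀ l : {x // x ∈ s}, ∃ n f, 0 < n ∧ f ∈ 𝒜 n ∧ ∀ i ∈ s.erase l.1, φ i f ≠ 0 := by
    intro l
    obtain ⟨n, f, hn, hf, hfi⟩ := ih (s.erase l.1).card
      (hc ▸ Finset.card_erase_lt_of_mem l.2) (s.erase l.1) rfl
    exact ⟨n, f, hn, hf, fun i hi => (hfi i hi).resolve_right (hne l.1 l.2).ne_empty⟩
  choose n f hn hf hfne using hsub
  set N := ∏ l, n l
  have hN : 0 < N := Finset.prod_pos fun l _ => hn l
  let g : {x // x ∈ s} → B := fun l => f l ^ (N / n l)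
  have hg : ∀ l, g l ∈ 𝒜 N := by
    intro l
    have := SetLike.pow_mem_graded (N / n l) (hf l)
    rwa [smul_eq_mul, Nat.div_mul_cancel (Finset.dvd_prod_of_mem n (Finset.mem_univ l))] at this
  have hgne : ∀ l, ∀ i ∈ s.erase l.1, φ i (g l) ≠ 0 := fun l i hi => by
    rw [map_pow]; exact pow_ne_zero _ (hfne l i hi)
  by_cases hdone : ∃ l, φ l.1 (g l) ≠ 0
  · obtain ⟨l, hl⟩ := hdone
    refine ⟨N, g l, hN, hg l, fun i hi => Or.inl ?_⟩
    rcases eq_or_ne i l.1 with rfl | hne'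
    · exact hl
    · exact hgne l i (Finset.mem_erase.2 ⟨hne', hi⟩)
  push Not at hdone
  refine ⟨(s.card - 1) * N, ∑ l, ∏ i ∈ Finset.univ.erase l, g i, Nat.mul_pos ?_ hN, ?_, fun j hj => Or.inl ?_⟩
  · have h2 := Finset.card_pos.2 (hne l₀ hl₀)
    rw [Finset.card_erase_of_mem hl₀] at h2
    omega
  · refine sum_mem fun l _ => ?_
    have := SetLike.prod_mem_graded (A := 𝒜) (i := fun _ => N) (g := g)
      (F := (Finset.univ : Finset {x // x ∈ s}).erase l) (fun i _ => hg i)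
    rwa [Finset.sum_const, smul_eq_mul, Finset.card_erase_of_mem (Finset.mem_univ l), Finset.card_univ,
      Fintype.card_coe] at this
  · rw [map_sum, Finset.sum_eq_single ⟨j, hj⟩]
    · rw [map_prod, Finset.prod_ne_zero_iff]
      intro i hi
      exact hgne i j (Finset.mem_erase.2 ⟨fun h => (Finset.mem_erase.1 hi).1 (Subtype.ext h.symm), hj⟩)
    · intro l _ hl
      rw [map_prod]
      exact Finset.prod_eq_zero (Finset.mem_erase.2 ⟨hl.symm, Finset.mem_univ _⟩) (hdone ⟨j, hj⟩)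
    · simp

theorem tprod_const_mem_diag {n : ℕ} {f : B} (hf : f ∈ 𝒜 n) :
    PiTensorProduct.tprod A (fun _ : Fin d => f) ∈ diagPiece 𝒜 d n :=
  Submodule.subset_span ⟨_, fun _ => hf, rfl⟩

theorem pow_mem_span_tpow (hgen : Algebra.adjoin A (𝒜 1 : Set B) = ⊤)
    (D : Subalgebra A (⨂[A] _ : Fin d, B)) (hD : D = diagAlg 𝒜 d ⊓ SymTen.TS A B d)
    {k : ℕ} (hk : 0 < k) {t : ⨂[A] _ : Fin d, B} (htD : t ∈ D) (htk : t ∈ diagPiece 𝒜 d k) :
    ∃ m : ℕ, 0 < m ∧ (⟨t, htD⟩ : D) ^ m ∈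
      Ideal.span {x : D | ∃ (n : ℕ) (f : B), 0 < n ∧ f ∈ 𝒜 n ∧
        (x : ⨂[A] _ : Fin d, B) = PiTensorProduct.tprod A (fun _ : Fin d => f)} := by
  classical
  refine exists_pow_mem_span 𝒜 d D hD _ ?_ htD htk fun Q hQ hG => ?_
  · rintro g ⟨n, f, hn, hf, hg⟩
    exact ⟨n, hg ▸ tprod_const_mem_diag 𝒜 d hf⟩
  have hmemD : ∀ n f, f ∈ 𝒜 n → PiTensorProduct.tprod A (fun _ : Fin d => f) ∈ D := fun n f hf =>
    hD ▸ ⟨diagPiece_le 𝒜 d n (tprod_const_mem_diag 𝒜 d hf), (SymTen.tpow A B d f).2⟩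
  rcases Nat.eq_zero_or_pos d with hd | hd
  · subst hd
    have h := hG ⟨_, hmemD 1 0 (zero_mem _)⟩ ⟨1, 0, one_pos, zero_mem _, rfl⟩
    exfalso
    refine hQ.ne_top ((Ideal.eq_top_iff_one Q).2 ?_)
    have e : (fun _ : Fin 0 => (0 : B)) = fun _ => 1 := funext fun i => i.elim0
    rw [PiTensorProduct.one_def]
    show PiTensorProduct.tprod A (fun _ : Fin 0 => (1 : B)) ∈ Q
    rw [← e]
    exact h
  let φ : Fin d → (B →ₐ[A] (⨂[A] _ : Fin d, B) ⧸ Q) := fun l =>
    (Ideal.Quotient.mkₐ A Q).comp (PiTensorProduct.singleAlgHom (R := A) (A := fun _ : Fin d => B) l)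
  by_cases hkill : ∃ l, ∀ b ∈ 𝒜 1, φ l b = 0
  · obtain ⟨l, hl⟩ := hkill
    exact mem_of_factor_zero 𝒜 d hgen Q l (fun b hb => Ideal.Quotient.eq_zero_iff_mem.1 (hl b hb)) hk htk
  push Not at hkill
  haveI : Q.IsPrime := hQ
  obtain ⟨n, f, hn, hf, hne⟩ := exists_homogeneous_forall_ne_zero (T := (⨂[A] _ : Fin d, B) ⧸ Q) 𝒜 d φ hkill
    Finset.univ
  have h := hG ⟨_, hmemD n f hf⟩ ⟨n, f, hn, hf, rfl⟩
  exfalso
  have h' : PiTensorProduct.tprod A (fun _ : Fin d => f) ∈ Q := h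
  rw [← prod_singleAlgHom, ← Ideal.Quotient.eq_zero_iff_mem, map_prod, Finset.prod_eq_zero_iff] at h'
  obtain ⟨l, -, hl⟩ := h'
  rcases hne l (Finset.mem_univ l) with h2 | h2
  · exact h2 hl
  · exact (Finset.univ_nonempty_iff.2 ⟨⟨0, hd⟩⟩).ne_empty h2

theorem pow_mem_span_tpow_degOne (hgen : Algebra.adjoin A (𝒜 1 : Set B) = ⊤)
    (hres : ∀ p : PrimeSpectrum A, (d : Cardinal) ≤ Cardinal.mk p.asIdeal.ResidueField)
    (D : Subalgebra A (⨂[A] _ : Fin d, B)) (hD : D = diagAlg 𝒜 d ⊓ SymTen.TS A B d)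
    {k : ℕ} (hk : 0 < k) {t : ⨂[A] _ : Fin d, B} (htD : t ∈ D) (htk : t ∈ diagPiece 𝒜 d k) :
    ∃ m : ℕ, 0 < m ∧ (⟨t, htD⟩ : D) ^ m ∈
      Ideal.span {x : D | ∃ f : B, f ∈ 𝒜 1 ∧
        (x : ⨂[A] _ : Fin d, B) = PiTensorProduct.tprod A (fun _ : Fin d => f)} := by
  classical
  refine exists_pow_mem_span 𝒜 d D hD _ ?_ htD htk fun Q hQ hG => ?_
  · rintro g ⟨f, hf, hg⟩
    exact ⟨1, hg ▸ tprod_const_mem_diag 𝒜 d hf⟩
  let φ : Fin d → (B →ₐ[A] (⨂[A] _ : Fin d, B) ⧸ Q) := fun l =>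
    (Ideal.Quotient.mkₐ A Q).comp (PiTensorProduct.singleAlgHom (R := A) (A := fun _ : Fin d => B) l)
  by_cases hkill : ∃ l, ∀ b ∈ 𝒜 1, φ l b = 0
  · obtain ⟨l, hl⟩ := hkill
    exact mem_of_factor_zero 𝒜 d hgen Q l (fun b hb => Ideal.Quotient.eq_zero_iff_mem.1 (hl b hb)) hk htk
  push Not at hkill
  set p := Q.comap (algebraMap A (⨂[A] _ : Fin d, B))
  obtain ⟨reps, hreps⟩ := GrothLib.AvoidSubmodules.exists_reps p (N := d) (hres ⟨p, inferInstance⟩)
  let W : Fin d → Submodule A (𝒜 1) := fun l => LinearMap.ker ((φ l).toLinearMap.comp (𝒜 1).subtype)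
  obtain ⟨m, hm⟩ := GrothLib.AvoidSubmodules.exists_forall_notMem p W (fun l r m hrm => by
      have h1 : φ l (algebraMap A B r * m) = 0 := by rw [← Algebra.smul_def]; exact hrm
      rw [map_mul, AlgHom.commutes, mul_eq_zero] at h1
      refine h1.imp (fun h => ?_) (fun h => h)
      exact Ideal.mem_comap.2 ((Ideal.Quotient.eq_zero_iff_mem (I := Q)).1 h))
    reps hreps Finset.univ (by simp) (fun l _ => by
      obtain ⟨b, hb, hb'⟩ := hkill l
      exact ⟨⟨b, hb⟩, hb'⟩)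
  have h := hG ⟨_, hD ▸ ⟨diagPiece_le 𝒜 d 1 (tprod_const_mem_diag 𝒜 d m.2),
    (SymTen.tpow A B d (m : B)).2⟩⟩ ⟨(m : B), m.2, rfl⟩
  exfalso
  have h' : PiTensorProduct.tprod A (fun _ : Fin d => (m : B)) ∈ Q := h
  rw [← prod_singleAlgHom, ← Ideal.Quotient.eq_zero_iff_mem, map_prod, Finset.prod_eq_zero_iff] at h'
  obtain ⟨l, -, hl⟩ := h'
  exact hm l (Finset.mem_univ l) hl

theorem pow_mem_span_degOne (hgen : Algebra.adjoin A (𝒜 1 : Set B) = ⊤) (hfg : (𝒜 1).FG)
    (D : Subalgebra A (⨂[A] _ : Fin d, B)) (hD : D = diagAlg 𝒜 d ⊓ SymTen.TS A B d)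
    {k : ℕ} (hk : 0 < k) {t : ⨂[A] _ : Fin d, B} (htD : t ∈ D) (htk : t ∈ diagPiece 𝒜 d k) :
    ∃ m : ℕ, 0 < m ∧ (⟨t, htD⟩ : D) ^ m ∈
      Ideal.span {x : D | (x : ⨂[A] _ : Fin d, B) ∈ diagPiece 𝒜 d 1} := by
  classical
  refine exists_pow_mem_span 𝒜 d D hD _ (fun g hg => ⟨1, hg⟩) htD htk fun Q hQ hG => ?_
  obtain ⟨n, b, hb⟩ := Submodule.fg_iff_exists_fin_generating_family.1 hfg
  have hbmem : ∀ i, b i ∈ 𝒜 1 := fun i => hb ▸ Submodule.subset_span ⟨i, rfl⟩
  let φ : Fin d → (B →ₐ[A] (⨂[A] _ : Fin d, B) ⧸ Q) := fun l =>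
    (Ideal.Quotient.mkₐ A Q).comp (PiTensorProduct.singleAlgHom (R := A) (A := fun _ : Fin d => B) l)
  have horb : ∀ μ : Fin n →₀ ℕ, Ideal.Quotient.mk Q (orbit (d := d) A b μ) = 0 := by
    intro μ
    have hpiece : orbit (d := d) A b μ ∈ diagPiece 𝒜 d 1 := by
      rw [orbit]
      exact sum_mem fun p _ => Submodule.subset_span ⟨b ∘ p, fun i => hbmem _, rfl⟩
    exact Ideal.Quotient.eq_zero_iff_mem.2 (hG ⟨_, hD ▸ ⟨diagPiece_le 𝒜 d 1 hpiece,
      mem_symTensor.1 (orbit_mem_symTensor b μ)⟩⟩ hpiece)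
  have hprod : ∏ l, (∑ i, monomial (Finsupp.single i 1) (φ l (b i))) =
      (0 : MvPolynomial (Fin n) ((⨂[A] _ : Fin d, B) ⧸ Q)) := by
    rw [Fintype.prod_sum]
    ext μ
    rw [MvPolynomial.coeff_sum, MvPolynomial.coeff_zero, ← horb μ, orbit, map_sum, Finset.sum_filter]
    refine Finset.sum_congr rfl fun p _ => ?_
    have hm : ∏ l, monomial (Finsupp.single (p l) 1) (φ l (b (p l))) =
        monomial (pat p) (Ideal.Quotient.mk Q (PiTensorProduct.tprod A (b ∘ p))) := by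
      rw [← prod_singleAlgHom, map_prod, pat]
      induction (Finset.univ : Finset (Fin d)) using Finset.induction with
      | empty => simp
      | insert x s hx ih =>
        rw [Finset.prod_insert hx, Finset.prod_insert hx, Finset.sum_insert hx, ih,
          MvPolynomial.monomial_mul]
        rfl
    rw [hm, MvPolynomial.coeff_monomial]
    split_ifs <;> rfl
  obtain ⟨l, -, hl⟩ := Finset.prod_eq_zero_iff.1 hprod
  refine mem_of_factor_zero 𝒜 d hgen Q l (fun x hx => ?_) hk htk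
  rw [← hb] at hx
  induction hx using Submodule.span_induction with
  | mem y hy =>
    obtain ⟨i, rfl⟩ := hy
    have h := congr_arg (MvPolynomial.coeff (Finsupp.single i 1)) hl
    rw [MvPolynomial.coeff_sum, MvPolynomial.coeff_zero, Finset.sum_eq_single i] at h
    · rw [MvPolynomial.coeff_monomial, if_pos rfl] at h
      exact Ideal.Quotient.eq_zero_iff_mem.1 h
    · intro j _ hj
      rw [MvPolynomial.coeff_monomial, if_neg]
      exact fun he => hj (Finsupp.single_left_injective one_ne_zero he)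
    · simp
  | zero => rw [map_zero]; exact zero_mem _
  | add _ _ _ _ h1 h2 => rw [map_add]; exact add_mem h1 h2
  | smul r _ _ h => rw [map_smul]; exact Submodule.smul_of_tower_mem _ r h

end GrothLib.PolLaw
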