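import Groth.Agent.Lib.PolLaw.Pol
import Groth.Prelude.Def_SymTen

/-!
# The comparison `Γ^d → TS^d` and the polarization
-/

universe u

open TensorProduct

namespace GrothLib.PolLaw

open MvPolynomial (X C monomial)

variable {A B N : Type u} [CommRing A] [CommRing B] [Algebra A B] [CommRing N] [Algebra A N] {d : ℕ}

/-- Value of a tensor-power compatible linear map on a coefficient. -/
lemma apply_coeff_eq_sum {M P : Type u} [AddCommGroup M] [Module A M] [AddCommGroup P] [Module A P]
    {F : M →ₚₗ[A] P} (g : P →ₗ[A] (⨂[A] _ : Fin d, M))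
    (hg : ∀ (S : Type u) [CommSemiring S] [Algebra A S] (n : ℕ) (s : Fin n → S) (b : Fin n → M),
      g.lTensor S (F.toFun' S (∑ j, s j ⊗ₜ[A] b j)) =
        ∑ c : Fin d → Fin n, (∏ i, s (c i)) ⊗ₜ[A] PiTensorProduct.tprod A (fun i => b (c i)))
    {n : ℕ} (m : Fin n → M) (μ : Fin n →₀ ℕ) [DecidableEq (Fin n →₀ ℕ)] :
    g (coeff F m μ) = ∑ p : Fin d → Fin n with pat p = μ, PiTensorProduct.tprod A (m ∘ p) := by
  classical
  have h := hg (MvPolynomial (Fin n) A) n (fun i => X i) m
  have h2 := congrArg (fun y => coeffEquiv A _ (Fin n) y μ) h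
  simp only [← monomial_pat, map_sum, Finsupp.finsetSum_apply, coeffEquiv_tmul,
    MvPolynomial.coeff_monomial] at h2
  have h3 : coeff (_root_.PolLaw.postcomp g F) m μ =
      ∑ p : Fin d → Fin n with pat p = μ, PiTensorProduct.tprod A (m ∘ p) := by
    refine Eq.trans h2 ?_
    rw [Finset.sum_filter]
    exact Finset.sum_congr rfl fun p _ => by split_ifs <;> simp [Function.comp_def]
  rwa [coeff_postcomp] at h3

/-- Symmetrising: image of the polarization of a list. -/
lemma apply_pol_eq_sum_perm {M P : Type u} [AddCommGroup M] [Module A M] [AddCommGroup P] [Module A P]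
    {F : M →ₚₗ[A] P} (g : P →ₗ[A] (⨂[A] _ : Fin d, M))
    (hg : ∀ (S : Type u) [CommSemiring S] [Algebra A S] (n : ℕ) (s : Fin n → S) (b : Fin n → M),
      g.lTensor S (F.toFun' S (∑ j, s j ⊗ₜ[A] b j)) =
        ∑ c : Fin d → Fin n, (∏ i, s (c i)) ⊗ₜ[A] PiTensorProduct.tprod A (fun i => b (c i)))
    (b : Fin d → M) :
    g (pol F b) = ∑ σ : Equiv.Perm (Fin d), PiTensorProduct.reindex A (fun _ : Fin d => M) σ
      (PiTensorProduct.tprod A b) := by
  classical
  rw [pol, apply_coeff_eq_sum g hg, sum_bijective_eq_sum_perm (fun p => PiTensorProduct.tprod A (b ∘ p))]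
  refine Fintype.sum_equiv (Equiv.inv _) _ _ fun σ => ?_
  rw [PiTensorProduct.reindex_tprod]
  rfl

end GrothLib.PolLaw
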